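/-
Fusion systems over a `p`-group whose centre has index at most `p ^ 2`.
-/
import Cfsg.Agent.Fus.EssAbP

set_option autoImplicit false

namespace Cfsg.Lib.Fus.Ess

open Cfsg Cfsg.FusionSystem Subgroup Cfsg.Lib.Solv
open scoped commutatorElement

variable {Ω : Type*} [Group Ω] {S E K : Subgroup Ω} {p : ℕ} {x z : Ω} [hp : Fact p.Prime]
  {F : FusionSystem S}

theorem card_sup_zpowers_le [Finite K] (hx : x ∈ normalizer (K : Set Ω)) (hxp : x ^ p ∈ K) :
    Nat.card ↥(K ⊔ zpowers x) ≤ p * Nat.card K := by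
  by_cases h : x ∈ K
  · rw [sup_eq_left.2 (zpowers_le_of_mem h)]
    exact Nat.le_mul_of_pos_left _ hp.out.pos
  · exact (PG.card_sup_zpowers hp.out hx h hxp).le

theorem mul_mem_of_card_two [Finite K] (hEK : E ≤ K) (h : Nat.card K = 2 * Nat.card E) {a b : Ω}
    (ha : a ∈ K) (hb : b ∈ K) (haE : a ∉ E) (hbE : b ∉ E) : a * b ∈ E :=
  (mul_mem_iff_of_index_two (index_eq_of_card hEK h) (a := ⟨a, ha⟩) (b := ⟨b, hb⟩)).2
    (iff_of_false haE hbE)

variable [Finite S]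

/-- An automorphism of an essential subgroup of type `HTy` that is normal in `S` agrees with an
automorphism of `S` on the complement of the plane. -/
theorem Plane.exists_ext (hS : IsPGroup p S) (hF : F.IsSaturated p) (hE : F.IsEssential p E)
    (hN : S ≤ normalizer (E : Set Ω)) {t s : MulAut E} {z y : E} (h : Plane p t s z y)
    (ht : autInducedBy S E = zpowers t) (hs : s ∈ F.autGroup E) {f : Equiv.Perm Ω}
    (hf : PIso F f E E) : ∃ g : Equiv.Perm Ω, PIso F g S S ∧ ∀ w ∈ fixS t ⊓ fixS s, g w = f w := by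
  have := finite_of_le hE.1.1
  have hEp := hS.of_injective _ (inclusion_injective hE.1.1)
  have hsyl := ht ▸ sat_sylIn hS hF hE.2.1
  obtain ⟨b, hb, h1⟩ := h.exists_conj hEp hs hsyl hf.aut_mem
  have hbA := (closure_le _).2 (Set.pair_subset (hsyl.le (mem_zpowers t)) hs) hb
  obtain ⟨g, hg, h2⟩ := exists_ext_aut (sat_receptive hS hF hE.2.1)
    (mul_mem (inv_mem hbA) hf.aut_mem) (le_inf le_rfl hN) fun u hu => by
      obtain ⟨i, hi⟩ := mem_zpowers_iff.1 (ht.le (conjAut_mem_autInducedBy hu (hN hu)))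
      obtain ⟨j, hj⟩ := mem_zpowers_iff.1 h1
      rw [← hi, ← conj_zpow, ht, show b⁻¹ * hf.aut * t * (b⁻¹ * hf.aut)⁻¹ =
        b⁻¹ * (hf.aut * t * hf.aut⁻¹) * b by group, ← hj, conj_zpow]
      refine zpow_mem ?_ i
      rw [show b⁻¹ * (b * t ^ j * b⁻¹) * b = t ^ j by group]
      exact zpow_mem (mem_zpowers t) j
  refine ⟨g, hg.piso_top, fun w hw => ?_⟩
  rw [h2 w w.2, pext_coe, MulAut.mul_apply,
    (h.of_mem_closure (inv_mem hb)).2 _ (h.aInv_fix hEp hs hsyl _ hf.aut_mem w hw), hf.aut_apply]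

/-- `S` is non-abelian with centre of index at most `p ^ 2`. -/
structure CSq (p : ℕ) (S : Subgroup Ω) : Prop where
  pg : IsPGroup p S
  nc : ¬ IsMulCommutative S
  card : Nat.card S ≤ p ^ 2 * Nat.card (centralizerIn S S)

namespace CSq

theorem abP (h : CSq p S) (hF : F.IsSaturated p) (hE : F.IsEssential p E) :
    AbP p S E ∧ Nat.card E = p * Nat.card (centralizerIn S S) := by
  have hlt := lt_of_isEssential h.pg hF hE
  have := finite_of_le hlt.le
  have hEp := h.pg.of_injective _ (inclusion_injective hlt.le)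
  have hZE := cent_le_of_isCentric hE.1
  have h1 := prime_mul_card_le_of_lt' h.pg hlt
  have h2 := prime_mul_card_le_of_lt' hEp (hZE.lt_of_ne fun e => hlt.not_ge fun a ha =>
    isCentric_self hE.1 ⟨ha, fun b hb => ((e.ge hb).2 a ha).symm⟩)
  have h3 := h.card
  rw [pow_two, mul_assoc] at h3
  have h4 := Nat.le_of_mul_le_mul_left (h1.trans h3) hp.out.pos
  exact ⟨⟨h.pg, h.nc, hlt.le, comm_of_card_le hEp h4 fun a ha =>
    ⟨hZE ha, fun b hb => ha.2 b (hlt.le hb)⟩, (h3.trans (Nat.mul_le_mul_left p h2)).antisymm h1⟩,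
    h4.antisymm h2⟩

theorem card_commutator (h : CSq p S) (hF : F.IsSaturated p) (hE : F.IsEssential p E) :
    Nat.card ↥⁅S, S⁆ = p ∧ ⁅S, S⁆ ≤ centralizerIn S S := by
  obtain ⟨h1, h2⟩ := h.abP hF hE
  have h3 := Nat.eq_of_mul_eq_mul_right Nat.card_pos (h1.card_commutator.trans h2)
  have := finite_of_le (commutator_le_self S)
  exact ⟨h3, inf_eq_right.1 (eq_of_le_of_card_ge inf_le_right (h3.le.trans h1.prime_le_card))⟩

theorem hTy (h : CSq p S) (hF : F.IsSaturated p) (hE : F.IsEssential p E)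
    (hz : zpowers z = ⁅S, S⁆) : HTy F p E z := by
  obtain ⟨h1, h2⟩ := h.abP hF hE
  obtain ⟨h3, h4⟩ := h.card_commutator hF hE
  refine ⟨hE, h1.comm.is_comm.comm, h2.le, (card_le_of_le inf_le_left).trans h1.card.le,
    h4 (hz.le (mem_zpowers z)), ?_, fun a ha y hy => hz.ge ?_⟩
  · rw [← h3, ← hz, Nat.card_zpowers, pow_orderOf_eq_one]
  · rw [inv_mul_conj_eq]
    exact commutator_mem_commutator (inv_mem (h1.le hy)) ha.1

theorem exists_gen (h : CSq p S) (hF : F.IsSaturated p) (hE : F.IsEssential p E) :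
    ∃ z, z ≠ 1 ∧ zpowers z = ⁅S, S⁆ := by
  obtain ⟨z, hz, hz1⟩ := (bot_or_exists_ne_one _).resolve_left (h.abP hF hE).1.commutator_ne_bot
  exact ⟨z, hz1, zpowers_eq_of_card_prime' (h.card_commutator hF hE).1 hz hz1⟩

theorem cent_eq (h : CSq p S) (hp2 : p ≠ 2) (hF : F.IsSaturated p) (hcore : F.core = ⊥)
    (hE : F.IsEssential p E) : centralizerIn S S = ⁅S, S⁆ := by
  obtain ⟨z, -, hz⟩ := h.exists_gen hF hE
  refine (cent_eq_of_hTy hp2 h.pg hF hcore (h.hTy hF hE hz) ?_).trans hz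
  rintro E (rfl | hE)
  · exact .inr fun f hf => ⟨fun _ => PIso.map_cent_self hf,
      hz.ge (PIso.map_commutator_self hf (hz.le (mem_zpowers z)))⟩
  · exact .inl (h.hTy hF hE hz)

theorem three (h : CSq 2 S) (hF : F.IsSaturated 2) (hE : F.IsEssential 2 E) {a b : Ω} (ha : a ∈ S)
    (hb : b ∈ S) (haE : a ∉ E) (hbE : b ∉ E) (ha2 : a ^ 2 = 1) (hb2 : b ^ 2 = 1) :
    a * b ∈ centralizerIn S S := by
  by_contra hab
  obtain ⟨h1, h2⟩ := h.abP hF hE
  have := finite_of_le h1.le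
  obtain ⟨z, hz1, hz⟩ := h.exists_gen hF hE
  obtain ⟨t, s, y, -, -, h3, h4⟩ := (h.hTy hF hE hz).exists_plane h.pg hF
  have hy : (y : Ω) ∉ centralizerIn S S := fun e =>
    h3.ne (left_eq_mul.1 ((mem_fixS.1 (h4.ge e)).symm.trans h3.e1))
  have h5 := mul_mem_of_card_two h1.le h1.card ha hb haE hbE
  have h6 := mul_mem_of_card_two h1.cent_le h2 y.2 h5 hy hab
  have hy2 : (y : Ω) ^ 2 = 1 := congrArg Subtype.val h3.tv2.pow
  have h7 : ⁅(y : Ω), a⁆ = z := eq_of_card_two (h.card_commutator hF hE).1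
    (commutator_mem_commutator (h1.le y.2) ha) (hz.le (mem_zpowers z)) (fun e => hy
      (h1.mem_cent ha haE y.2 (commutatorElement_eq_one_iff_mul_comm.1 e).symm)) hz1
  have h8 : ((y : Ω) * (a * b)) ^ 2 = z := by
    rw [pow_two] at ha2 hb2 hy2
    have h9 := h6.2 b hb
    rw [← h7, commutatorElement_def, inv_eq_of_mul_eq_one_right hy2, inv_eq_of_mul_eq_one_right ha2]
    calc _ = y * a * (b * (y * (a * b))) := by rw [pow_two]; group
      _ = y * a * y * a * (b * b) := by rw [h9]; group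
      _ = _ := by rw [hb2, mul_one]
  have h9 := h3.tv2.triv ⟨_, mul_mem y.2 h5⟩ trivial
  have h10 := h3.tv2.pow_eq_one_of_mem h9
  let : CommGroup E := { (inferInstance : Group E) with mul_comm := h3.comm }
  rw [mul_pow, inv_pow, ← map_pow, show (⟨_, mul_mem y.2 h5⟩ : E) ^ 2 = ⟨z, (h.hTy hF hE hz).mem⟩
    from Subtype.ext h8, h3.e2, inv_mul_cancel_left, inv_eq_one] at h10
  exact h3.not_mem (h10 ▸ one_mem _)

theorem sup_eq (h : CSq p S) (hF : F.IsSaturated p) (hE : F.IsEssential p E) (hx : x ∈ E)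
    (hxZ : x ∉ centralizerIn S S) : centralizerIn S S ⊔ zpowers x = E :=
  have := finite_of_le hE.1.1
  sup_zpowers_eq_of_card_le (h.pg.of_injective _ (inclusion_injective hE.1.1)) (h.abP hF hE).2.le
    (cent_le_of_isCentric hE.1) hx hxZ

theorem aInv_of_odd (h : CSq 2 S) (hF : F.IsSaturated 2) (hE : F.IsEssential 2 E) {γ : MulAut S}
    (hγ : γ ∈ F.autGroup S) (ho : (orderOf γ).Coprime 2) {x : S} (hx : x ∈ E.subgroupOf S) :
    γ x ∈ E.subgroupOf S := by
  obtain ⟨z, -, hz⟩ := h.exists_gen hF hE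
  obtain ⟨t, s, y, -, -, h3, h4⟩ := (h.hTy hF hE hz).exists_plane h.pg hF
  have hy : (y : Ω) ∉ centralizerIn S S := fun e =>
    h3.ne (left_eq_mul.1 ((mem_fixS.1 (h4.ge e)).symm.trans h3.e1))
  have hZ : AInv (F.autGroup S) ((centralizerIn S S).subgroupOf S) :=
    aInv_of_piso le_rfl fun f hf y _ => PIso.map_cent_self hf
  let y' : S := ⟨y, hE.1.1 y.2⟩
  have key : ∀ β ∈ F.autGroup S, β y' ∈ E.subgroupOf S → AInv (zpowers β) (E.subgroupOf S) :=
    fun β hβ e => aInv_zpowers fun u hu => by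
      have hf := piso_pext_of_mem le_rfl hβ
      have := (hf.mor.restrict ((h.sup_eq hF hE y.2 hy).le.trans hE.1.1)).maps_sup (A' := E) (B' := E)
        (fun a ha => cent_le_of_isCentric hE.1 (PIso.map_cent_self hf ha)) (fun a ha => by
          obtain ⟨i, rfl⟩ := mem_zpowers_iff.1 ha
          rw [hf.mor.map_zpow y'.2, pext_coe]
          exact zpow_mem e i) u ((h.sup_eq hF hE y.2 hy).ge hu)
      rwa [sup_idem, pext_coe] at this
  by_cases h1 : γ y' ∈ E.subgroupOf S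
  · exact key γ hγ h1 γ (mem_zpowers γ) x hx
  by_cases h2 : (γ ^ 2) y' ∈ E.subgroupOf S
  · exact key _ (pow_mem hγ 2) h2 γ (mem_zpowers_pow_iff.2 ho.symm) x hx
  have hy2 : y' ^ 2 = 1 := Subtype.ext (congrArg Subtype.val h3.tv2.pow :)
  have h5 : γ y' * (γ ^ 2) y' ∈ (centralizerIn S S).subgroupOf S := h.three hF hE (γ y').2
    ((γ ^ 2) y').2 h1 h2 (by rw [← coe_pow, ← map_pow, hy2, map_one, coe_one])
    (by rw [← coe_pow, ← map_pow, hy2, map_one, coe_one])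
  rw [pow_two, MulAut.mul_apply, ← map_mul, hZ.mem_iff hγ] at h5
  exact (h1 ((E.mul_mem_cancel_left y.2).1 (cent_le_of_isCentric hE.1 h5))).elim

theorem autGroup_eq (h : CSq 2 S) (hF : F.IsSaturated 2) (hcore : F.core = ⊥)
    (hE : F.IsEssential 2 E) : F.autGroup S = Inn S := by
  let D : Subgroup Ω := closure {d | ∃ γ ∈ F.autGroup S, (orderOf γ).Coprime 2 ∧
    ∃ w : S, (w : Ω) ∈ centralizerIn S S ∧ d = (w⁻¹ * γ w : S)}
  have hZ : AInv (F.autGroup S) ((centralizerIn S S).subgroupOf S) :=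
    aInv_of_piso le_rfl fun f hf y _ => PIso.map_cent_self hf
  have hDZ : D ≤ centralizerIn S S := (closure_le _).2 (by
    rintro _ ⟨γ, hγ, -, w, hw, rfl⟩
    exact mul_mem (inv_mem hw) (hZ γ hγ w hw))
  have hDS : ∀ f : Equiv.Perm Ω, PIso F f S S → ∀ x ∈ D, f x ∈ D := fun f hf x hx => by
    have : D ≤ (D.comap (S.subtype.comp hf.aut.toMonoidHom)).map S.subtype := (closure_le _).2 (by
      rintro _ ⟨γ, hγ, ho, w, hw, rfl⟩
      refine ⟨w⁻¹ * γ w, subset_closure ⟨hf.aut * γ * hf.aut⁻¹, mul_mem (mul_mem hf.aut_mem hγ)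
        (inv_mem hf.aut_mem), ?_, hf.aut w, hZ _ hf.aut_mem w hw, ?_⟩, rfl⟩
      · rwa [← MulAut.conj_apply, MulEquiv.orderOf_eq]
      · simp)
    obtain ⟨x, hx', rfl⟩ := this hx
    exact hx'
  have hD : F.IsNormal D := isNormal_of_essential h.pg hF fun P hP => by
    rcases hP with rfl | hP
    · exact ⟨hDZ.trans centralizerIn_le, hDS⟩
    have hZP := cent_le_of_isCentric hP.1
    refine ⟨hDZ.trans hZP, fun f hf x hx => ?_⟩
    have := finite_of_le hP.1.1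
    obtain ⟨z, hz1, hz⟩ := h.exists_gen hF hP
    obtain ⟨t, s, y, h1, h2, h3, h4⟩ := (h.hTy hF hP hz).exists_plane h.pg hF
    obtain ⟨g, hg, h5⟩ := h3.exists_ext h.pg hF hP (le_normalizer_of_card_le h.pg
      (h.abP hF hP).1.card.le hP.1.1) h1 h2 hf
    have h6 : D ≤ (fixS t ⊓ fixS s).map P.subtype := (closure_le _).2 (by
      rintro _ ⟨γ, hγ, ho, w, hw, rfl⟩
      have hk := piso_pext_of_mem le_rfl hγ
      have hk' := (hk.mor.restrict hP.1.1).piso_of_maps fun a ha => by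
        rw [pext_of_mem _ (hP.1.1 ha)]; exact h.aInv_of_odd hF hP hγ ho ha
      obtain ⟨u, hu, h7⟩ := h3.exists_fix_of_fix (v := ⟨w, hZP hw⟩) (h4.ge hw)
      have h8 := h3.aInv_fix (h.pg.of_injective _ (inclusion_injective hP.1.1)) h2
        (h1 ▸ sat_sylIn h.pg hF hP.2.1) _ hk'.aut_mem _ h7
      have h9 : hk'.aut u = u := PG.aut_apply_of_mem_zpowers _ (Subtype.ext (eq_of_card_two
        (h.card_commutator hF hP).1 (PIso.map_commutator_self hk (hz.le (mem_zpowers z)))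
        (hz.le (mem_zpowers z)) (fun e => hz1 ((hk.mor.eq_one_iff
          (commutator_le_self S (hz.le (mem_zpowers z)))).1 e)) hz1)) hu
      refine ⟨_, mul_mem (inv_mem h7) h8, ?_⟩
      rw [map_mul hk'.aut, h9, h3.comm _ u, h3.comm _ u, mul_inv_rev, mul_assoc,
        inv_mul_cancel_left]
      exact congrArg ((w : Ω)⁻¹ * ·) (pext_coe γ w))
    obtain ⟨w, hw, rfl⟩ := h6 hx
    exact h5 w hw ▸ hDS g hg _ hx
  refine autGroup_eq_inn h.pg hF ((isPGroup_pCoreIn _).to_le fun t ht =>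
    (pt_of_forall ht fun γ hγ ho => ?_).mem_pCoreIn)
  have hE' := fun x => h.aInv_of_odd hF hE hγ ho (x := x)
  obtain ⟨h1, h2⟩ := h.abP hF hE
  refine triv_top_bot_iff.1 ((triv_of_card_le_two (fun _ _ => mem_top _) hE' le_top ?_).trans h.pg ho
    ((triv_of_card_le_two hE' (hZ γ hγ) (subgroupOf_mono S h1.cent_le) ?_).trans h.pg ho
      (fun w hw => Subtype.ext ?_) (aInv_bot γ hγ)) (aInv_bot γ hγ))
  · rw [card_top, card_subgroupOf_of_le h1.le, h1.card]
  · rw [card_subgroupOf_of_le h1.le, card_subgroupOf_of_le centralizerIn_le, h2]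
  · exact (hcore ▸ le_core hD : D ≤ ⊥) (subset_closure ⟨γ, hγ, ho, w, hw, rfl⟩)

theorem exists_focal (h : CSq 2 S) (hF : F.IsSaturated 2) (hcore : F.core = ⊥)
    (hE : F.IsEssential 2 E) : ∃ y ∈ E, y ∉ centralizerIn S S ∧ y ^ 2 = 1 ∧
      ∀ f : Equiv.Perm Ω, PIso F f E E → ∀ x ∈ E, x⁻¹ * f x ∈ ⁅S, S⁆ ⊔ zpowers y := by
  have := finite_of_le hE.1.1
  obtain ⟨z, hz1, hz⟩ := h.exists_gen hF hE
  obtain ⟨t, s, y, h1, h2, h3, h4⟩ := (h.hTy hF hE hz).exists_plane h.pg hF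
  refine ⟨y, y.2, fun e => h3.ne (left_eq_mul.1 ((mem_fixS.1 (h4.ge e)).symm.trans h3.e1)),
    congrArg Subtype.val h3.tv2.pow, fun f hf x hx => ?_⟩
  obtain ⟨g, hg, h5⟩ := h3.exists_ext h.pg hF hE (le_normalizer_of_card_le h.pg
    (h.abP hF hE).1.card.le hE.1.1) h1 h2 hf
  obtain ⟨u, hu, w, hw, e⟩ := h3.exists_decomp ⟨x, hx⟩
  obtain ⟨a, ha, h6⟩ := mem_inn_pext.1 (h.autGroup_eq hF hcore hE ▸ hg.aut_mem)
  have h7 : hf.aut w = w := Subtype.ext (by
    rw [hf.aut_apply, ← h5 w hw, ← hg.pext_aut (hE.1.1 w.2), h6 _ (hE.1.1 w.2),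
      mul_inv_eq_iff_eq_mul]
    exact (h4.le hw.1).2 a ha)
  have h8 := mul_mem (inv_mem hu) (h3.aInv_plane (h.pg.of_injective _
    (inclusion_injective hE.1.1)) h2 (h1 ▸ sat_sylIn h.pg hF hE.2.1) _ hf.aut_mem u hu)
  have h9 := mem_map_of_mem E.subtype h8
  rw [Subgroup.map_sup, MonoidHom.map_zpowers, MonoidHom.map_zpowers] at h9
  rw [← hz, show x⁻¹ * f x = E.subtype ((⟨x, hx⟩ : E)⁻¹ * hf.aut ⟨x, hx⟩) from rfl, e, map_mul hf.aut,
    h7, h3.comm u, h3.comm _ w, mul_inv_rev, mul_assoc, inv_mul_cancel_left]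
  exact h9

theorem card_le_eight (h : CSq 2 S) (hF : F.IsSaturated 2) (hcore : F.core = ⊥)
    (hfoc : S ≤ F.focalSubgroup) (hE : F.IsEssential 2 E) : Nat.card S ≤ 8 := by
  obtain ⟨y, hy, hyZ, hy2, h1⟩ := h.exists_focal hF hcore hE
  obtain ⟨v, hv, hv2, h2⟩ : ∃ v ∈ S, v ^ 2 = 1 ∧ ∀ P, F.IsEssential 2 P → ∀ f : Equiv.Perm Ω,
      PIso F f P P → ∀ x ∈ P, x⁻¹ * f x ∈ ⁅S, S⁆ ⊔ zpowers y ⊔ zpowers v := by
    by_cases h2 : ∀ P, F.IsEssential 2 P → P = E
    · exact ⟨1, one_mem _, one_pow 2, fun P hP f hf x hx => by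
        obtain rfl := h2 P hP; exact mem_sup_left (h1 f hf x hx)⟩
    push Not at h2
    obtain ⟨P, hP, hPE⟩ := h2
    obtain ⟨v, hv, hvZ, hv2, h2⟩ := h.exists_focal hF hcore hP
    refine ⟨v, hP.1.1 hv, hv2, fun Q hQ f hf x hx => ?_⟩
    by_cases hQE : Q = E
    · subst hQE; exact mem_sup_left (h1 f hf x hx)
    obtain ⟨w, hw, hwZ, hw2, -⟩ := h.exists_focal hF hcore hQ
    have h3 := h.three hF hE (hP.1.1 hv) (hQ.1.1 hw)
      (fun e => hPE ((h.sup_eq hF hP hv hvZ).symm.trans (h.sup_eq hF hE e hvZ)))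
      (fun e => hQE ((h.sup_eq hF hQ hw hwZ).symm.trans (h.sup_eq hF hE e hwZ))) hv2 hw2
    obtain rfl := (h.sup_eq hF hQ hw hwZ).symm.trans (h.sup_eq hF hP
      ((P.mul_mem_cancel_left hv).1 (cent_le_of_isCentric hP.1 h3)) hwZ)
    exact (sup_le_sup_right le_sup_left _ : ⁅S, S⁆ ⊔ zpowers v ≤ _) (h2 f hf x hx)
  have h3 : S ≤ ⁅S, S⁆ ⊔ zpowers y ⊔ zpowers v := hfoc.trans (focalSubgroup_le_iff.2
    fun P k hk x hx => by
      obtain ⟨f, hf, e⟩ := hk.exists_perm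
      rw [← e x hx]
      refine alperin_essential h.pg hF (Φ := fun P f => ∀ x ∈ P, x⁻¹ * f x ∈
        ⁅S, S⁆ ⊔ zpowers y ⊔ zpowers v) (fun P f g _ h e x hx => e x hx ▸ h x hx)
        (fun P Q f _ h hQ x hx => h x (hQ hx)) (fun P Q R f g hf _ h h' x hx => ?_) ?_ P f hf x hx
      · have := mul_mem (h x hx) (h' _ (hf.maps hx))
        rwa [mul_assoc, mul_inv_cancel_left] at this
      rintro Q (rfl | hQ) - f hf x hx
      · obtain ⟨a, ha, h6⟩ := mem_inn_pext.1 (h.autGroup_eq hF hcore hE ▸ hf.aut_mem)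
        rw [← hf.pext_aut hx, h6 x hx, inv_mul_conj_eq]
        exact mem_sup_left (mem_sup_left (commutator_mem_commutator (inv_mem hx) ha))
      · exact h2 Q hQ f hf x hx)
  have h4 : ⁅S, S⁆ ⊔ zpowers y ≤ S := sup_le (commutator_le_self S) (zpowers_le_of_mem (hE.1.1 hy))
  have := finite_of_le h4
  have := finite_of_le (commutator_le_self S)
  have := finite_of_le (sup_le h4 (zpowers_le_of_mem hv))
  have h5 := card_sup_zpowers_le (p := 2) (Coprime.le_normalizer_of_commutator_le h4 le_sup_left hv)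
    (hv2 ▸ one_mem _)
  have h6 := card_sup_zpowers_le (p := 2) (Coprime.le_normalizer_of_commutator_le
    (commutator_le_self S) le_rfl (hE.1.1 hy)) (hy2 ▸ one_mem _)
  have h7 := card_le_of_le h3
  rw [(h.card_commutator hF hE).1] at h6
  omega

end CSq

end Cfsg.Lib.Fus.Ess
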