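/-
An action section is seen in an automizer.
-/
import Cfsg.Agent.Fus.ActSec
import Cfsg.Agent.Gold.S4Basic

set_option autoImplicit false

namespace Cfsg.Lib.Fus

open Cfsg Cfsg.FusionSystem Subgroup

variable {W L : Type*} [CommGroup W] [Group L] {φ : L →* MulAut W}
  {Ω : Type*} [Group Ω] {S : Subgroup Ω} {F : FusionSystem S} [Finite S]

theorem ActSec.involves_autGroup (h : ActSec φ F) (hφ : Function.Injective φ) :
    ∃ V ≤ S, Involves L (F.autGroup V) := by
  obtain ⟨V, π, h1, h2, h3⟩ := h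
  have hV : V ≤ S := (h3 1).choose_spec.1.le
  let Y : Subgroup (F.autGroup V × L) :=
    { carrier := {y | ∀ v : V, π ((y.1 : MulAut V) v : V) = φ y.2 (π v)}
      one_mem' := fun v => by simp
      mul_mem' := fun {a b} ha hb v => by
        simp only [Prod.fst_mul, Prod.snd_mul, coe_mul, MulAut.mul_apply, map_mul]
        rw [ha, hb]
      inv_mem' := fun {a} ha v => by
        have := ha ((a.1 : MulAut V)⁻¹ v)
        simp only [MulAut.apply_inv_self] at this
        simp only [Prod.fst_inv, Prod.snd_inv, coe_inv, map_inv]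
        rw [this, MulAut.inv_apply_self] }
  refine ⟨V, hV, involves_of_ker_le ((MonoidHom.fst _ _).comp Y.subtype)
    ((MonoidHom.snd _ _).comp Y.subtype) (fun l => ?_) fun y hy => hφ ?_⟩
  · obtain ⟨f, a1, a2, a3⟩ := h3 l
    obtain ⟨α, hα, e⟩ := a1.exists_aut_of_maps a2
    refine ⟨⟨(⟨α, hα⟩, l), fun v => ?_⟩, rfl⟩
    have := e v v.2
    rw [autFun_coe] at this
    exact (congrArg π this).trans (a3 v v.2)
  · have e : y.1.1 = 1 := hy
    ext w
    obtain ⟨v, hv, rfl⟩ := h2 w
    have := y.2 ⟨v, hv⟩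
    rw [e] at this
    rw [map_one]
    exact this.symm

theorem not_actSec_of_s3Free
    (h : ∀ U : Subgroup Ω, U ≤ S → ¬ Involves (Equiv.Perm (Fin 3)) (F.autGroup U)) :
    ¬ ActSec (qdAct 2) F := fun h' => by
  obtain ⟨V, hV, hI⟩ := h'.involves_autGroup (qdAct_injective 2)
  have := finite_of_le hV
  have := (Gold.not_involves_S3_iff.1 (h V hV)).of_involves hI qdThree ⟨!![0, 1; 1, 0], by decide⟩
    qdThree_pow (by decide)
  revert this
  decide

end Cfsg.Lib.Fus
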