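import Cfsg.Agent.Fus.EssAbInv
import Cfsg.Agent.Fus.MinReal
import Cfsg.Agent.Known.GL2Sylow
import Cfsg.Agent.Known.SL2Sylow
import Cfsg.Agent.Trans.QuasiDihedral
import Cfsg.Agent.S3966
import Mathlib.NumberTheory.LSeries.PrimesInAP

/-! The system realized by an embedding, and the two-groups of maximal class as Sylow subgroups of
linear groups. -/

namespace Cfsg.Lib.Fus.Ess

open Cfsg Cfsg.FusionSystem Subgroup Cfsg.Lib.Solv Cfsg.Lib.Known.GL2

variable {Ω G : Type*} [Group Ω] [Group G] {S : Subgroup Ω} {p : ℕ}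

theorem injective_of_conj {P : Subgroup Ω} {ι : S →* G} (hι : Function.Injective ι) {φ : P →* Ω}
    {hP : P ≤ S} {hφ : ∀ x, φ x ∈ S} {g : G}
    (h : ∀ x : P, ι ⟨φ x, hφ x⟩ = g * ι ⟨x, hP x.2⟩ * g⁻¹) : Function.Injective φ := fun x y e => by
  have := h x
  simp only [e, h y, mul_left_inj, mul_right_inj] at this
  exact Subtype.ext (congrArg (fun z : S => z.1) (hι this)).symm

/-- The fusion system induced on `S` by an embedding into a group. -/
def realSys (ι : S →* G) (hι : Function.Injective ι) : FusionSystem S where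
  Hom P := {φ | ∃ (hP : P ≤ S) (hφ : ∀ x, φ x ∈ S) (g : G),
    ∀ x : P, ι ⟨φ x, hφ x⟩ = g * ι ⟨x, hP x.2⟩ * g⁻¹}
  le_of_mem := fun ⟨h1, h2, _⟩ => ⟨h1, h2⟩
  injective_of_mem := fun ⟨_, _, _, h⟩ => injective_of_conj hι h
  conj_mem := fun {_ g} hP hg => ⟨hP, fun x => mul_mem (mul_mem hg (hP x.2)) (inv_mem hg),
    ι ⟨g, hg⟩, fun x => by rw [← map_inv, ← map_mul, ← map_mul]; rfl⟩
  comp_mem := fun ⟨h1, _, g, h2⟩ ⟨_, h3, g', h4⟩ h => ⟨h1, fun _ => h3 _, g' * g, fun x =>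
    (h4 ⟨_, h x⟩).trans (by rw [h2 x]; group)⟩
  inv_mem := fun {P φ} ⟨h1, h2, g, h3⟩ => by
    have hφ := injective_of_conj hι h3
    have e : ∀ x : P, (MonoidHom.ofInjective hφ).symm ⟨φ x, x, rfl⟩ = x :=
      (MonoidHom.ofInjective hφ).symm_apply_apply
    refine ⟨P.subtype.comp (MonoidHom.ofInjective hφ).symm.toMonoidHom, ⟨?_, fun y => h1 (Subtype.prop _),
      g⁻¹, ?_⟩, fun x => congrArg Subtype.val (e x)⟩
    · rintro _ ⟨x, rfl⟩; exact h2 x
    · rintro ⟨_, x, rfl⟩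
      rw [h3 x]
      simp [e, mul_assoc]

theorem realSys_realized (ι : S →* G) (hι : Function.Injective ι) :
    (realSys ι hι).IsRealizedBy ι :=
  ⟨hι, fun _ hP _ hφ => ⟨fun h => h.choose_spec.choose_spec, fun h => Exists.intro hP ⟨hφ, h⟩⟩⟩

/-- A group isomorphic to a Sylow subgroup carries the fusion system of the group. -/
theorem exists_realized [Finite S] [Finite G] [Fact p.Prime] (T : Sylow p G) (e : S ≃* T) :
    ∃ (F : FusionSystem S) (ι : S →* G), F.IsSaturated p ∧ F.IsRealizedBy ι ∧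
      (T : Subgroup G) = ι.range := by
  have h := realSys_realized ((T : Subgroup G).subtype.comp e.toMonoidHom)
    ((subtype_injective _).comp e.injective)
  have h1 : (T : Subgroup G) = ((T : Subgroup G).subtype.comp e.toMonoidHom).range := by
    rw [MonoidHom.range_comp, MonoidHom.range_eq_top.2 e.surjective, ← MonoidHom.range_eq_map,
      range_subtype]
  exact ⟨_, _, saturated_of_realized h ⟨T, h1⟩, h, h1⟩

theorem not_sSol_of_realized [Finite S] (hS : IsPGroup 2 S) {F : FusionSystem S} {ι : S →* G}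
    (h : F.IsRealizedBy ι) {E : Subgroup G} (hE : E ≤ ι.range) {ω x : G} (h3 : ω ^ 3 = 1)
    (hω : ∀ y ∈ E, ω * y * ω⁻¹ ∈ E) (hx : x ∈ E) (hx' : ω * x * ω⁻¹ ≠ x) : ¬ SSol F := fun hF => by
  have h1 : ∀ y ∈ pullSub ι E, ω * extFun ι y * ω⁻¹ ∈ ι.range := fun y hy =>
    hE (hω _ (mem_pullSub.1 hy).2)
  obtain ⟨f, hf, e⟩ := (mor_pullConj h pullSub_le h1).exists_perm
  have h2 : ∀ y ∈ pullSub ι E, extFun ι (f y) = ω * extFun ι y * ω⁻¹ := fun y hy =>
    e y hy ▸ extFun_pullConj (h1 y hy)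
  have hf' := hf.piso_of_maps fun y hy => mem_pullSub.2 ⟨hf.maps hy,
    h2 y hy ▸ hω _ (mem_pullSub.1 hy).2⟩
  have h4 : hf'.aut ^ 3 = 1 := MulEquiv.ext fun y => Subtype.ext (injOn_extFun h.1
    (pullSub_le (Subtype.prop _)) (pullSub_le y.2) (by
      have : extFun ι (f (f (f y))) = ω ^ 3 * extFun ι y * (ω ^ 3)⁻¹ := by
        rw [h2 _ (hf'.maps (hf'.maps y.2)), h2 _ (hf'.maps y.2), h2 _ y.2, pow_three]; group
      rwa [h3, one_mul, inv_one, mul_one] at this))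
  have := hf.finite
  obtain ⟨m, c, k1, k2, k3, k4, k5⟩ := hF.exists_chain (pullSub_le (ι := ι) (H := E))
  have := (comm_of_chain (hS.to_le pullSub_le) (A := zpowers hf'.aut) (Nat.card_zpowers hf'.aut ▸
    Nat.Coprime.coprime_dvd_left (orderOf_dvd_of_pow_eq_one h4) (by norm_num)) k1 k2
    (fun i => (k3 i).mono (zpowers_le.2 hf'.aut_mem)) k4 k5).2 _ (mem_zpowers _)
  obtain ⟨y, hy, rfl⟩ := mem_range_iff_extFun.1 (hE hx)
  have hy' := mem_pullSub.2 ⟨hy, hx⟩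
  have h5 := congrArg Subtype.val (DFunLike.congr_fun ((pow_one _).symm.trans this) ⟨y, hy'⟩)
  exact hx' (h2 y hy' ▸ congrArg (extFun ι) h5)

theorem exists_not_sSol [Finite S] [Finite G] {K : Type*} [Field K] [Finite K] (h2 : (2 : K) ≠ 0)
    (φ : SL2 K →* G) (hφ : φ.ker ≤ (slLin K).Z) (T : Sylow 2 G) (e : S ≃* T) :
    ∃ F : FusionSystem S, F.IsSaturated 2 ∧ ¬ SSol F := by
  obtain ⟨P⟩ : Nonempty (Sylow 2 (SL2 K)) := inferInstance
  obtain ⟨i, j, D⟩ := exists_syl2Data h2 P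
  obtain ⟨ω, h3, hi, hj⟩ := exists_omega h2 D.trace_i D.trace_j (D.anticomm h2)
  obtain ⟨T', hT⟩ := (P.isPGroup'.map φ).exists_le_sylow
  obtain ⟨F, ι, h4, h5, h6⟩ := exists_realized T' (e.trans (T.equiv T'))
  refine ⟨F, h4, not_sSol_of_realized (T.isPGroup'.of_equiv e.symm) h5
    (E := (closure {i, j}).map φ) (ω := φ ω) (x := φ i)
    (h6 ▸ (map_mono (closure_pair_le.2 ⟨D.i_mem, D.j_mem⟩)).trans hT)
    (by rw [← map_pow, ← h3, pow_orderOf_eq_one, map_one]) ?_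
    (mem_map_of_mem _ (left_mem_closure_pair i j)) fun h => D.j_not_mem ?_⟩
  · rintro _ ⟨y, hy, rfl⟩
    rw [← map_inv, ← map_mul, ← map_mul]
    exact mem_map_of_mem _ ((closure_pair_le (H := comap (MulAut.conj ω).toMonoidHom
      (closure {i, j}))).2 ⟨by simpa [hi] using right_mem_closure_pair i j, by
        simpa [hj] using mul_mem (left_mem_closure_pair i j) (right_mem_closure_pair i j)⟩ hy)
  · rw [← map_inv, ← map_mul, ← map_mul, hi, ← mul_inv_eq_one, ← map_inv, ← map_mul] at h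
    rcases mem_Z_SL.1 (hφ h) with h | h <;> rw [mul_inv_eq_iff_eq_mul] at h <;>
      simp [h, mem_centralizer_singleton_iff]

/-- Primes congruent to three modulo four with prescribed two-part of `q + 1`. -/
theorem exists_prime_two_part (k : ℕ) : ∃ q a b : ℕ, q.Prime ∧ q % 4 = 3 ∧ Odd a ∧ Odd b ∧
    q - 1 = 2 * a ∧ q + 1 = 2 ^ (k + 2) * b := by
  have h : 4 ∣ 2 ^ (k + 2) := ⟨2 ^ k, by ring⟩
  have h0 : 0 < 2 ^ (k + 2) := by positivity
  obtain ⟨q, -, h1, h2⟩ := Nat.forall_exists_prime_gt_and_modEq 0 (q := 2 ^ (k + 3))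
    (a := 2 ^ (k + 2) - 1) (by positivity) (Nat.Coprime.pow_right _ (Nat.coprime_two_right.2
      (Nat.odd_iff.2 (by omega))))
  have h3 := Nat.div_add_mod q (2 ^ (k + 3))
  rw [h2, Nat.mod_eq_of_lt (by rw [pow_succ 2 (k + 2)]; omega), pow_succ 2 (k + 2), mul_assoc] at h3
  have h4 : q + 1 = 2 ^ (k + 2) * (2 * (q / (2 ^ (k + 2) * 2)) + 1) := by rw [mul_add]; omega
  have h5 : 4 ∣ q + 1 := h4 ▸ h.mul_right _
  exact ⟨q, q / 2, _, h1, by omega, Nat.odd_iff.2 (by omega), odd_two_mul_add_one _, by omega, h4⟩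

theorem exists_field (k : ℕ) : ∃ (q : ℕ) (_ : Fact q.Prime), q % 4 = 3 ∧ (2 : ZMod q) ≠ 0 ∧
    (∀ P : Sylow 2 (SL2 (ZMod q)), Nat.card P = 2 ^ (k + 3)) ∧
    ∀ P : Sylow 2 (GL (Fin 2) (ZMod q)), Nat.card P = 2 ^ (k + 4) := by
  obtain ⟨q, a, b, h1, h2, h3, h4, h5, h6⟩ := exists_prime_two_part k
  have := Fact.mk h1
  have h7 : Odd q := Nat.odd_iff.2 (by omega)
  refine ⟨q, this, h2, two_ne_zero_of_odd (by rwa [ZMod.card]), fun P => card_sylow_of_eq P
    (m := q * a * b) (by rw [card_SL_two, ZMod.card, h5, h6]; ring)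
    ((h7.mul h3).mul h4).not_two_dvd_nat, fun P => card_sylow_of_eq P (m := q * a ^ 2 * b)
    (by rw [card_GL_two, ZMod.card, h5, h6]; ring) ((h7.mul h3.pow).mul h4).not_two_dvd_nat⟩

theorem nonempty_equiv_of_isQuasiDihedral {H : Type*} [Group H] (hG : IsQuasiDihedral G)
    (hH : IsQuasiDihedral H) (h : Nat.card G = Nat.card H) : Nonempty (G ≃* H) := by
  obtain ⟨m, h1, ⟨F⟩⟩ := Trans.exists_qdFrame hG
  obtain ⟨n, h2, ⟨F'⟩⟩ := Trans.exists_qdFrame hH
  obtain rfl : m = n := by simpa [h1, h2] using h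
  exact ⟨F.mulEquiv F'⟩

theorem exists_sylow_quaternion (k : ℕ) : ∃ (q : ℕ) (_ : Fact q.Prime), q % 4 = 3 ∧
    (2 : ZMod q) ≠ 0 ∧ ∀ P : Sylow 2 (SL2 (ZMod q)),
      Nonempty (P ≃* QuaternionGroup (2 ^ (k + 1))) := by
  obtain ⟨q, _, h1, h2, h3, -⟩ := exists_field k
  refine ⟨q, inferInstance, h1, h2, fun P => ?_⟩
  obtain ⟨i, j, D⟩ := exists_syl2Data h2 P
  obtain ⟨l, -, h4, h5⟩ := D.nonempty_quaternion h2 P.isPGroup'
  rw [h3, show 4 * 2 ^ l = 2 ^ (l + 2) by ring, Nat.pow_right_inj one_lt_two] at h4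
  rwa [show k + 1 = l by omega]

theorem exists_sylow_dihedral (k : ℕ) : ∃ (q : ℕ) (_ : Fact q.Prime), q % 4 = 3 ∧
    (2 : ZMod q) ≠ 0 ∧ ∃ T : Sylow 2 (PSL2 (ZMod q)),
      Nonempty (T ≃* DihedralGroup (2 ^ (k + 1))) := by
  obtain ⟨q, _, h1, h2, h3⟩ := exists_sylow_quaternion k
  refine ⟨q, inferInstance, h1, h2, ?_⟩
  obtain ⟨P⟩ : Nonempty (Sylow 2 (SL2 (ZMod q))) := inferInstance
  obtain ⟨e⟩ := h3 P
  obtain ⟨i, j, D⟩ := exists_syl2Data h2 P
  obtain ⟨σ, hσ, hσ2⟩ := Agent.S3966.result (2 ^ (k + 1)) (by simp [Nat.even_pow])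
  let f := (piSL (ZMod q)).comp (P : Subgroup (SL2 (ZMod q))).subtype
  have h4 : (σ.comp e.toMonoidHom).ker = f.ker := by
    have h5 : Nat.card (σ.comp e.toMonoidHom).ker = 2 := by
      rw [← MonoidHom.comap_ker, ← card_map_of_injective (f := e.toMonoidHom) e.injective,
        map_comap_eq_self_of_surjective e.surjective, hσ2]
    refine eq_of_le_of_card_ge (fun x hx => piSL_eq_one_iff.2 ?_) (le_of_eq ?_)
    · have h6 := PG.pow_card_eq_one_of_mem hx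
      rw [h5, sq] at h6
      exact mem_Z_of_mul_self_eq_one_SL h2 (congrArg Subtype.val h6)
    · rw [h5, ← MonoidHom.comap_ker, ker_piSL, comap_subtype,
        Nat.card_congr (subgroupOfEquivOfLe D.Z_le).toEquiv, card_Z_SL_eq_gcd, ZMod.card]
      exact Nat.gcd_eq_left (by omega)
  exact ⟨P.mapSurjective piSL_surjective, ⟨(MulEquiv.subgroupCongr (by
    rw [Sylow.coe_mapSurjective, MonoidHom.range_comp, range_subtype])).trans
    ((QuotientGroup.quotientKerEquivRange f).symm.trans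
      ((QuotientGroup.quotientMulEquivOfEq h4.symm).trans
        (QuotientGroup.quotientKerEquivOfSurjective _ (hσ.1.comp e.surjective))))⟩⟩

/-- A two-group of maximal class carries a saturated system that is not supersoluble. -/
theorem exists_not_sSol_of_maxClass [Finite S] (hS : IsPGroup 2 S)
    (h : (∃ n : ℕ, 2 ≤ n ∧ Nonempty (S ≃* DihedralGroup n)) ∨ IsQuasiDihedral S ∨
      ∃ n : ℕ, 2 ≤ n ∧ Nonempty (S ≃* QuaternionGroup n)) :
    ∃ F : FusionSystem S, F.IsSaturated 2 ∧ ¬ SSol F := by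
  have key : ∀ c n : ℕ, 2 ≤ n → Nat.card S = c * n → ∃ k, n = 2 ^ (k + 1) := fun c n h1 h2 => by
    obtain ⟨m, hm⟩ := IsPGroup.iff_card.1 hS
    obtain ⟨_ | k, -, rfl⟩ := (Nat.dvd_prime_pow Nat.prime_two).1 (hm ▸ h2 ▸ dvd_mul_left n c)
    · simp at h1
    · exact ⟨k, rfl⟩
  rcases h with ⟨n, h, ⟨e⟩⟩ | h | ⟨n, h, ⟨e⟩⟩
  · obtain ⟨k, rfl⟩ := key 2 n h ((Nat.card_congr e.toEquiv).trans DihedralGroup.nat_card)
    obtain ⟨q, _, -, h2, T, ⟨e'⟩⟩ := exists_sylow_dihedral k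
    have := finite_PSL2 (F := ZMod q)
    exact exists_not_sSol h2 _ ker_piSL.le T (e.trans e'.symm)
  · obtain ⟨k, h1, -⟩ := Trans.exists_qdFrame h
    obtain ⟨q, _, h3, h2, -, h4⟩ := exists_field k
    obtain ⟨T⟩ : Nonempty (Sylow 2 (GL (Fin 2) (ZMod q))) := inferInstance
    obtain ⟨e⟩ := nonempty_equiv_of_isQuasiDihedral h
      (isQuasiDihedral_sylow_GL (by rwa [ZMod.card]) T) (h1.trans (h4 T).symm)
    exact exists_not_sSol h2 Matrix.SpecialLinearGroup.toGL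
      (((MonoidHom.ker_eq_bot_iff _).2 Matrix.SpecialLinearGroup.toGL_injective).le.trans bot_le) T e
  · have : NeZero n := ⟨by omega⟩
    obtain ⟨k, rfl⟩ := key 4 n h ((Nat.card_congr e.toEquiv).trans
      (Nat.card_eq_fintype_card.trans QuaternionGroup.card))
    obtain ⟨q, _, -, h2, h3⟩ := exists_sylow_quaternion k
    obtain ⟨T⟩ : Nonempty (Sylow 2 (SL2 (ZMod q))) := inferInstance
    obtain ⟨e'⟩ := h3 T
    exact exists_not_sSol h2 (MonoidHom.id _) (MonoidHom.ker_id.le.trans bot_le) T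
      (e.trans e'.symm)

end Cfsg.Lib.Fus.Ess
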