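/-
The axiomatic ZJ-theorem and the axiomatic Glauberman--Thompson theorem for fusion systems.
-/
import Cfsg.Agent.Fus.Thompson
import Cfsg.Agent.Fus.CentLift
import Cfsg.Agent.Trans.ZJFusion

set_option autoImplicit false

namespace Cfsg.Lib.Fus

open Cfsg Cfsg.FusionSystem Subgroup
open scoped commutatorElement

universe u

section Group

open Cfsg.Lib.Trans

variable {G : Type*} [Group G] [Finite G] {p : ℕ} [Fact p.Prime]

/-- If `Z ⊓ B'` is normal for all normal `B' < B` but `Z ⊓ B` is not, then `B` is the normal closure of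
`Z ⊓ B` and `[B, B] ≤ Z`. -/
theorem commutator_le_of_minimal {Z B : Subgroup G} (hBn : B.Normal) (hB : IsPGroup p B)
    (hBZ : B ≤ normalizer (Z : Set G)) (hcon : ¬ (Z ⊓ B).Normal)
    (ih : ∀ B' < B, B'.Normal → (Z ⊓ B').Normal) :
    B ≤ normalClosure ((Z ⊓ B : Subgroup G) : Set G) ∧ ⁅B, B⁆ ≤ Z := by
  have hB0 : B ≤ normalClosure ((Z ⊓ B : Subgroup G) : Set G) := by
    have h1 : normalClosure ((Z ⊓ B : Subgroup G) : Set G) ≤ B :=
      normalClosure_le_normal (inf_le_right : Z ⊓ B ≤ B)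
    by_contra h2
    have h3 := ih _ (lt_of_le_of_ne h1 fun h => h2 h.ge) inferInstance
    have h4 : Z ⊓ normalClosure ((Z ⊓ B : Subgroup G) : Set G) = Z ⊓ B :=
      le_antisymm (inf_le_inf_left Z h1) (le_inf inf_le_left le_normalClosure)
    exact hcon (h4 ▸ h3)
  have hBne : B ≠ ⊥ := by
    rintro rfl
    exact hcon (by rw [inf_bot_eq]; infer_instance)
  have hB' : ⁅B, B⁆ < B := by
    have := hB.isNilpotent
    refine lt_of_le_of_ne (commutator_le_left B B) fun h => ?_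
    have h2 : Group.IsPerfect B := isPerfect_iff.mpr h
    have : Nontrivial B := (nontrivial_iff_ne_bot B).mpr hBne
    exact Group.IsPerfect.not_isNilpotent B inferInstance
  have hW : (Z ⊓ ⁅B, B⁆).Normal := ih _ hB' inferInstance
  refine ⟨hB0, ?_⟩
  set W := Z ⊓ ⁅B, B⁆
  have h1 : B ≤ (centralizer ((B.map (QuotientGroup.mk' W) : Subgroup _) : Set (G ⧸ W))).comap
      (QuotientGroup.mk' W) := by
    have : (B.map (QuotientGroup.mk' W)).Normal := hBn.map _ (QuotientGroup.mk'_surjective W)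
    refine hB0.trans (normalClosure_le_normal ?_)
    rintro z ⟨hzZ, hzB⟩ _ ⟨b, hb, rfl⟩
    rw [← map_mul, ← map_mul]
    apply QuotientGroup.eq.mpr
    have e : (b * z)⁻¹ * (z * b) = ⁅z⁻¹, b⁻¹⁆ := by rw [commutatorElement_def]; group
    rw [e]
    exact ⟨Solv.commutator_le_left_of_le_normalizer hBZ
      (commutator_mem_commutator (Z.inv_mem hzZ) (B.inv_mem hb)),
      commutator_mem_commutator (B.inv_mem hzB) (B.inv_mem hb)⟩
  rw [commutator_le]
  intro x hx y hy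
  have h2 := h1 hy _ (mem_map_of_mem _ hx)
  have h3 : (QuotientGroup.mk' W) ⁅x, y⁆ = 1 := by
    rw [map_commutatorElement, commutatorElement_eq_one_iff_mul_comm]; exact h2
  exact ((QuotientGroup.eq_one_iff _).mp h3).1

/-- **The axiomatic ZJ-theorem.** -/
theorem axiomatic_zj (hc : centralizer (pCore p G : Set G) ≤ pCore p G) (hst : StableOnNormal p G)
    (P : Sylow p G) {κ : Type*} (A : κ → Subgroup G) (i₀ : κ) (hle : ∀ i, A i ≤ P)
    (hab : ∀ i, ∀ x ∈ A i, ∀ y ∈ A i, Commute x y)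
    (hinv : ∀ Q ≤ (P : Subgroup G), (∃ i, A i ≤ Q) → ∀ g ∈ normalizer (Q : Set G), ∀ x,
      (∀ i, A i ≤ Q → x ∈ A i) → ∀ i, A i ≤ Q → g * x * g⁻¹ ∈ A i)
    (hrep : ∀ B ≤ (P : Subgroup G), ⁅⁅B, B⁆, B⁆ = ⊥ → (∃ i, ⁅B, B⁆ ≤ A i ∧ ¬ B ≤ A i) →
      ∃ i, ¬ B ≤ A i ∧ B ≤ normalizer (A i : Set G)) : (⨅ i, A i).Normal := by
  set Z := ⨅ i, A i with hZ
  have hZP : Z ≤ P := (iInf_le A i₀).trans (hle i₀)
  have hZab : ∀ x ∈ Z, ∀ y ∈ Z, Commute x y := fun x hx y hy =>
    hab i₀ x (iInf_le A i₀ hx) y (iInf_le A i₀ hy)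
  have hPZ : (P : Subgroup G) ≤ normalizer (Z : Set G) := fun g hg =>
    Solv.mem_normalizer_of_conj_mem fun x hx => mem_iInf.2 fun i => hinv P le_rfl ⟨i₀, hle i₀⟩ g
      (le_normalizer hg) x (fun j _ => iInf_le A j hx) i (hle i)
  suffices h : ∀ B : Subgroup G, B.Normal → IsPGroup p B → (Z ⊓ B).Normal by
    have := h _ inferInstance (Solv.pCore_isPGroup p G)
    rwa [inf_of_le_left (le_pCore_of_abelian_normal_in_sylow hc hst P hZP hPZ hZab)] at this
  intro B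
  induction B using WellFoundedLT.induction with
  | ind B ih =>
  intro hBn hB
  by_contra hcon
  have hBP : B ≤ P := (Solv.le_pCore hBn hB).trans (Solv.pCore_le_sylow P)
  have htop : ∀ H : Subgroup G, H ≤ normalizer (B : Set G) := fun H => by
    rw [normalizer_eq_top]; exact le_top
  obtain ⟨hB0, hB'⟩ := commutator_le_of_minimal hBn hB (hBP.trans hPZ) hcon
    fun B' h h' => ih B' h h' (hB.to_le h.le)
  have hcl : ⁅⁅B, B⁆, B⁆ = ⊥ := by
    rw [commutator_comm, commutator_eq_bot_iff_le_centralizer]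
    exact hB0.trans (normalClosure_le_normal fun z hz y hy => (hZab y (hB' hy) z hz.1).eq)
  obtain ⟨i, hi, hiN⟩ := hrep B hBP hcl (by
    by_contra h
    push Not at h
    exact hcon (by rwa [inf_of_le_right (le_iInf fun i => h i (hB'.trans (iInf_le A i)))]))
  set H := normalizer ((Z ⊓ B : Subgroup G) : Set G)
  set L := H.normalCore
  have hPH : (P : Subgroup G) ≤ H := Solv.le_normalizer_inf hPZ (htop _)
  have hCL : centralizer (B : Set G) ≤ L := normal_le_normalCore.mpr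
    ((centralizer_le (show ((Z ⊓ B : Subgroup G) : Set G) ⊆ B from inf_le_right)).trans
      (centralizer_le_normalizer _))
  have hAL : A i ≤ (P : Subgroup G) ⊓ L := le_inf (hle i) fun a ha =>
    ((hst.of_le hBn hB (P.isPGroup'.to_le (hle i)) (comm_eq_bot_of_commute fun x hx y hy =>
      hab i x (Solv.commutator_le_right_of_le_normalizer hiN hx) y hy) ha).of_le hCL).mem_normalCore
      P hPH
  refine hi (hB0.trans ?_)
  rw [normalClosure, closure_le]
  intro y hy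
  obtain ⟨z, hz, hzy⟩ := Group.mem_conjugatesOfSet_iff.mp hy
  obtain ⟨g, rfl⟩ := _root_.isConj_iff.mp hzy
  obtain ⟨x, hx, l, hl, rfl⟩ := IsStronglyClosed.frattini' (isStronglyClosed_self (P : Subgroup G)) L g
  have h1 : l * z * l⁻¹ ∈ Z ⊓ B := Solv.conj_mem_of_mem_normalizer (H.normalCore_le hl) hz
  have e : x * l * z * (x * l)⁻¹ = x * (l * z * l⁻¹) * x⁻¹ := by group
  rw [e]
  exact hinv _ inf_le_left ⟨i, hAL⟩ x hx _ (fun j _ => iInf_le A j h1.1) i hAL

/-- A group of characteristic `p` (odd) all of whose proper overgroups of a Sylow subgroup have normal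
complements is `p`-stable or has a normal complement. -/
theorem stableOnNormal_of_overgroups {G : Type u} [Group G] [Finite G] (hp : p ≠ 2) (P : Sylow p G)
    (hc : centralizer (pCore p G : Set G) ≤ pCore p G) (hG : ¬ HasNormalPComplement p G)
    (hsub : ∀ H : Subgroup G, (P : Subgroup G) ≤ H → H ≠ ⊤ → HasNormalPComplement p H) :
    StableOnNormal p G := by
  have hm : TJ.MinCE p G P := by
    refine TJ.minCE_of P hG (Solv.pPrimeCore_eq_bot_of_centralizer_le hc) ?_ hsub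
    set U := pCore p G
    let f := QuotientGroup.mk' U
    have hf : Function.Surjective f := QuotientGroup.mk'_surjective U
    by_cases hP0 : ((P.mapSurjective hf : Sylow p (G ⧸ U)) : Subgroup (G ⧸ U)) = ⊥
    · exact (hasNormalPComplement_iff_inf_eq_bot (P.mapSurjective hf)).2 (by rw [hP0, inf_bot_eq])
    refine zj_hasNormalPComplement hp (Or.inl rfl) (P.mapSurjective hf) ?_
    set W := centerThompsonOf 0 ((P.mapSurjective hf : Sylow p (G ⧸ U)) : Subgroup (G ⧸ U))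
    have hWp : IsPGroup p W := (P.mapSurjective hf).isPGroup'.to_le (centerThompsonOf_le _ _)
    rw [← map_comap_eq_self_of_surjective hf (normalizer (W : Set (G ⧸ U)))]
    refine hasNormalPComplement_map f (hsub _ (map_le_iff_le_comap.1 (le_normalizer.trans
      (normalizer_le_normalizer_centerThompsonOf 0 _))) fun h =>
        centerThompsonOf_ne_bot (Or.inl rfl) (P.mapSurjective hf).isPGroup' hP0 ?_)
    have : W.Normal := by
      rw [← normalizer_eq_top_iff, ← map_comap_eq_self_of_surjective hf (normalizer _), h,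
        map_top_of_surjective f hf]
    exact eq_bot_iff.2 (Solv.pCore_quotient_pCore p G ▸ Solv.le_pCore this hWp)
  obtain ⟨T⟩ := (Sylow.nonempty : Nonempty (Sylow 2 G))
  exact stableOnNormal_of_isPStableOn fun B _ hB =>
    (Quad.transvFree_of_abelian_sylow_two hp T (hm.sylow 2 hp.symm T)).isPStableOn B hB

end Group

section Sub

variable {Ω : Type*} [Group Ω] {S P : Subgroup Ω} {F : FusionSystem S} {G : Type*} [Group G]
  {ι : S →* G} {H : Subgroup G} {p : ℕ}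

/-- The maps of `F` induced by elements of `H`. -/
def realSubData (F : FusionSystem S) (hH : ι.range ≤ H) : MorData S where
  M P f := Mor F P f ∧ ∃ g ∈ H, ∀ x ∈ P, extFun ι (f x) = g * extFun ι x * g⁻¹
  congr := fun ⟨h, g, hg, e⟩ e' => ⟨h.congr e', g, hg, fun x hx => e' x hx ▸ e x hx⟩
  le h := h.1.le
  maps h _ hx := h.1.maps hx
  mulOn h := h.1.mulOn
  injOn h := h.1.injOn
  conj := fun hP hs => ⟨Mor.conj F hP hs, _, hH (extFun_mem_range' ι hs),
    fun _ hx => (mulOn_extFun ι).map_conj hs (hP hx)⟩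
  comp := fun ⟨h, a, ha, e⟩ ⟨k, b, hb, e'⟩ hm => ⟨h.comp k hm, b * a, mul_mem hb ha, fun x hx => by
    simp only [Function.comp, e' _ (hm x hx), e x hx]; group⟩
  inv := fun {P f} ⟨h, a, ha, e⟩ => by
    obtain ⟨g, hg, e₁, -⟩ := h.exists_inv
    refine ⟨g, ⟨hg, a⁻¹, inv_mem ha, fun y hy => ?_⟩, e₁⟩
    obtain ⟨x, hx, rfl⟩ := h.mem_img.1 hy
    rw [e₁ x hx, e x hx]; group

/-- The subsystem of a realized system induced by an overgroup of the Sylow subgroup. -/
def realSub (F : FusionSystem S) (hH : ι.range ≤ H) : FusionSystem S := (realSubData F hH).toFus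

theorem mor_realSub {hH : ι.range ≤ H} {f : Ω → Ω} : Mor (realSub F hH) P f ↔
    Mor F P f ∧ ∃ g ∈ H, ∀ x ∈ P, extFun ι (f x) = g * extFun ι x * g⁻¹ := MorData.mor_toFus _

theorem realSub_sub {hH : ι.range ≤ H} : (realSub F hH).IsSubsystemOf F :=
  isSubsystemOf_iff.2 fun _ _ h => (mor_realSub.1 h).1

theorem fImg_realSub (h : F.IsRealizedBy ι) (hH : ι.range ≤ H) :
    FImg (realSub F hH) (fusionSystemOfSubgroup H ι.range hH) (extFun ι) where
  mulOn := mulOn_extFun ι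
  img_eq := img_extFun_top ι
  mor P f hf := by
    obtain ⟨h1, g, hg, e⟩ := mor_realSub.1 hf
    refine ⟨cj g, mor_ofSubgroup.2 ⟨img_extFun_top ι ▸ img_mono _ h1.le, fun y hy => ?_, g, hg,
      fun _ _ => cj_apply _ _⟩, fun x hx => (e x hx).symm⟩
    obtain ⟨x, hx, rfl⟩ := (mem_img_extFun' ι h1.le).1 hy
    exact cj_apply g _ ▸ e x hx ▸ extFun_mem_range' ι (h1.maps hx)
  lift P' f' hf' := by
    obtain ⟨-, hm, g, hg, e⟩ := mor_ofSubgroup.1 hf'
    have h1 : ∀ x ∈ pre S (extFun ι) P', g * extFun ι x * g⁻¹ ∈ ι.range := fun x hx =>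
      e _ ((mulOn_extFun ι).mem_pre.1 hx).2 ▸ hm _ ((mulOn_extFun ι).mem_pre.1 hx).2
    exact ⟨_, mor_realSub.2 ⟨mor_pullConj h pre_le h1, g, hg, fun x hx => extFun_pullConj (h1 x hx)⟩,
      fun x hx => (e _ ((mulOn_extFun ι).mem_pre.1 hx).2).trans (extFun_pullConj (h1 x hx)).symm⟩

theorem realSub_saturated [Fact p.Prime] [Finite G] (h : F.IsRealizedBy ι) {T : Sylow p G}
    (hT : (T : Subgroup G) = ι.range) (hH : ι.range ≤ H) : (realSub F hH).IsSaturated p := by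
  obtain ⟨t', h1, -⟩ := (fImg_realSub h hH).exists_inv (injOn_extFun h.1)
  have h2 : SylIn p ι.range H := (hT ▸ sylIn_top T).mono hH le_top
  exact h1.saturated h2.pgroup (Grp.isSaturated ⟨hH, h2.pgroup, fun Q a b c => h2.max Q b c a⟩)

theorem eq_top_of_sub_realSub (hG : F.IsModel p G ι) {hH : ι.range ≤ H}
    (h : F.IsSubsystemOf (realSub F hH)) : H = ⊤ := eq_top_iff.2 fun g _ => by
  have hr := model_pCore_le_range hG
  have h1 : ∀ x ∈ pullSub ι (pCore p G), g * extFun ι x * g⁻¹ ∈ ι.range := fun x hx =>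
    hr (Normal.conj_mem inferInstance _ (mem_pullSub.1 hx).2 g)
  obtain ⟨-, a, ha, e⟩ := mor_realSub.1 ((mor_pullConj hG.2.1 pullSub_le h1).of_sub h)
  have h2 : a⁻¹ * g ∈ centralizer (pCore p G : Set G) := fun y hy => by
    obtain ⟨x, hx, rfl⟩ := mem_range_iff_extFun.1 (hr hy)
    have h3 := (e x (mem_pullSub.2 ⟨hx, hy⟩)).symm.trans
      (extFun_pullConj (h1 x (mem_pullSub.2 ⟨hx, hy⟩)))
    calc extFun ι x * (a⁻¹ * g) = a⁻¹ * (a * extFun ι x * a⁻¹) * g := by group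
      _ = a⁻¹ * g * extFun ι x := by rw [h3]; group
  simpa using H.mul_mem ha (hH (hr (hG.2.2.2 h2)))

end Sub

variable {Ω : Type u} [Group Ω] {S : Subgroup Ω} [Finite S] {F : FusionSystem S} {p : ℕ}

/-- A system that is not nilpotent contains a sparse one on the same group. -/
theorem exists_sparse (hF : F.IsSaturated p) (hn : ¬ IsNil F p) :
    ∃ E : FusionSystem S, E.IsSaturated p ∧ E.IsSubsystemOf F ∧ ¬ IsNil E p ∧
      ∀ D : FusionSystem S, D.IsSaturated p → D.IsSubsystemOf E → E.IsSubsystemOf D ∨ IsNil D p := by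
  refine sub_induction (F := F) (C := fun {T} E => E.IsSaturated p → ¬ IsNil E p →
    ∃ D : FusionSystem T, D.IsSaturated p ∧ D.IsSubsystemOf E ∧ ¬ IsNil D p ∧
      ∀ C : FusionSystem T, C.IsSaturated p → C.IsSubsystemOf D → D.IsSubsystemOf C ∨ IsNil C p)
    (fun {T} E _ ih hE hn => ?_) hF hn
  by_cases hsp : ∀ D : FusionSystem T, D.IsSaturated p → D.IsSubsystemOf E →
      E.IsSubsystemOf D ∨ IsNil D p
  · exact ⟨E, hE, subsys_refl E, hn, hsp⟩
  push Not at hsp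
  obtain ⟨D, h1, h2, h3, h4⟩ := hsp
  obtain ⟨D', h5, h6, h7⟩ := ih D h2 h3 h1 h4
  exact ⟨D', h5, subsys_trans h6 h2, h7⟩

variable [Fact p.Prime]

omit [Finite S] in
/-- The model of a sparse system at an odd prime is `p`-stable. -/
theorem stableOnNormal_of_sparse (hp : p ≠ 2) (hn : ¬ IsNil F p)
    (hsp : ∀ D : FusionSystem S, D.IsSaturated p → D.IsSubsystemOf F →
      F.IsSubsystemOf D ∨ IsNil D p) {G : Type u} [Group G] {ι : S →* G} (hG : F.IsModel p G ι) :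
    Trans.StableOnNormal p G := by
  have := hG.1
  obtain ⟨T, hT⟩ := hG.2.2.1
  refine stableOnNormal_of_overgroups hp T hG.2.2.2
    (fun h => hn (isNil_of_hasNormalPComplement hG.2.1 hT h)) fun H hH hH' => ?_
  have hs := realSub_saturated hG.2.1 hT (hT ▸ hH)
  exact hasNormalPComplement_of_isNil hG.2.1 hT hH hs ((hsp _ hs realSub_sub).resolve_left
    fun h => hH' (eq_top_of_sub_realSub hG h)) fun g hg R f hf e => mor_realSub.2 ⟨hf, g, hg, e⟩

variable {κ : Type*} {A : κ → Subgroup Ω} (i₀ : κ) (hle : ∀ i, A i ≤ S)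
  (hab : ∀ i, ∀ x ∈ A i, ∀ y ∈ A i, Commute x y)
  (hinv : ∀ (Q : Subgroup Ω) (f : Equiv.Perm Ω), PIso F f Q Q → (∃ i, A i ≤ Q) → ∀ x,
    (∀ i, A i ≤ Q → x ∈ A i) → ∀ i, A i ≤ Q → f x ∈ A i)
  (hrep : ∀ B ≤ S, ⁅⁅B, B⁆, B⁆ = ⊥ → (∃ i, ⁅B, B⁆ ≤ A i ∧ ¬ B ≤ A i) →
    ∃ i, ¬ B ≤ A i ∧ B ≤ normalizer (A i : Set Ω))
include i₀ hle hab hinv hrep

/-- The axiomatic ZJ-theorem for a system with a `p`-stable model. -/
theorem isNormal_iInf_of_model {G : Type*} [Group G] {ι : S →* G} (hG : F.IsModel p G ι)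
    (hst : Trans.StableOnNormal p G) : F.IsNormal (⨅ i, A i) := by
  have := hG.1
  obtain ⟨T, hT⟩ := hG.2.2.1
  have ht := mulOn_extFun ι
  have hi := injOn_extFun hG.2.1.1
  have hI : ⨅ i, A i ≤ S := (iInf_le A i₀).trans (hle i₀)
  have hiff : ∀ {U V : Subgroup Ω}, U ≤ S → V ≤ S →
      (img U (extFun ι) ≤ img V (extFun ι) ↔ U ≤ V) := fun hU hV => img_le_img_iff ht hi hU hV
  have hmem : ∀ {x : Ω} {i}, x ∈ S → (extFun ι x ∈ img (A i) (extFun ι) ↔ x ∈ A i) :=
    fun hx => extFun_mem_img_iff hG.2.1.1 (hle _) hx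
  have hsurj : ∀ Q ≤ (T : Subgroup G), ∃ Q₀ ≤ S, img Q₀ (extFun ι) = Q := fun Q hQ =>
    ⟨_, pullSub_le, img_pullSub_of_le (hT ▸ hQ)⟩
  have key := axiomatic_zj hG.2.2.2 hst T (fun i => img (A i) (extFun ι)) i₀
    (fun i => hT ▸ img_extFun_top ι ▸ img_mono _ (hle i)) (fun i x hx y hy => ?_)
    (fun Q hQ ⟨j, hj⟩ g hg x hx i hiQ => ?_) fun B hB h1 ⟨j, h2, h3⟩ => ?_
  · refine isNormal_of_realized hG.2.1 hI ?_
    convert key using 1
    refine le_antisymm (le_iInf fun i => img_mono _ (iInf_le A i)) fun y hy => ?_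
    obtain ⟨x, hx, rfl⟩ := (mem_img_extFun' ι (hle i₀)).1 (mem_iInf.1 hy i₀)
    exact mem_img_of_mem _ (mem_iInf.2 fun i => (hmem (hle i₀ hx)).1 (mem_iInf.1 hy i))
  · obtain ⟨a, ha, rfl⟩ := (mem_img_extFun' ι (hle i)).1 hx
    obtain ⟨b, hb, rfl⟩ := (mem_img_extFun' ι (hle i)).1 hy
    change _ * _ = _ * _
    rw [← ht _ (hle i ha) _ (hle i hb), ← ht _ (hle i hb) _ (hle i ha), (hab i a ha b hb).eq]
  · obtain ⟨Q₀, hQ₀, rfl⟩ := hsurj Q hQ
    obtain ⟨f, hf, e⟩ := exists_piso_of_realized hG.2.1 hQ₀ hg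
    obtain ⟨a, ha, rfl⟩ := (mem_img_extFun' ι (hle j)).1 (hx j hj)
    have hj' := (hiff (hle j) hQ₀).1 hj
    rw [← e a (hj' ha)]
    exact mem_img_of_mem _ (hinv Q₀ f hf ⟨j, hj'⟩ a (fun k hk => (hmem (hle j ha)).1
      (hx k (img_mono _ hk))) i ((hiff (hle i) hQ₀).1 hiQ))
  · obtain ⟨B₀, hB₀, rfl⟩ := hsurj B hB
    have hcc : ∀ {U V : Subgroup Ω}, U ≤ S → V ≤ S → ⁅U, V⁆ ≤ S := fun hU hV =>
      commutator_le.2 fun x hx y hy => mul_mem (mul_mem (mul_mem (hU hx) (hV hy))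
        (inv_mem (hU hx))) (inv_mem (hV hy))
    have hc : ⁅B₀, B₀⁆ ≤ S := hcc hB₀ hB₀
    rw [← img_commutator ht hB₀ hB₀] at h1 h2
    rw [← img_commutator ht hc hB₀] at h1
    obtain ⟨i, h4, h5⟩ := hrep B₀ hB₀ (eq_bot_iff.2 ((hiff (hcc hc hB₀)
      bot_le).1 (h1.le.trans bot_le))) ⟨j, (hiff hc (hle j)).1 h2, fun h => h3 (img_mono _ h)⟩
    refine ⟨i, fun h => h4 ((hiff hB₀ (hle i)).1 h), fun y hy => ?_⟩
    obtain ⟨x, hx, rfl⟩ := (mem_img_extFun' ι hB₀).1 hy
    exact ht.mem_normalizer_img (hle i) (hB₀ hx) (h5 hx)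

/-- **The axiomatic Glauberman--Thompson theorem.** -/
theorem isNil_of_axiomatic (hp : p ≠ 2) (hS : IsPGroup p S) (hF : F.IsSaturated p)
    (h : IsNil (normSys F (⨅ i, A i) ((iInf_le A i₀).trans (hle i₀))) p) : IsNil F p := by
  by_contra hn
  obtain ⟨E, h1, h2, h3, h4⟩ := exists_sparse hF hn
  obtain ⟨G, _, ι, hG⟩ := exists_model hS (isConstrained_of_sparse hS h1 (Or.inl hp) h3 h4)
  exact h3 (isNil_of_isNormal_of_normSys (isNormal_iInf_of_model i₀ hle hab
    (fun Q f hf => hinv Q f (hf.of_sub h2)) hrep hG (stableOnNormal_of_sparse hp h3 h4 hG))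
    (h.of_sub (normSys_mono h2 ((iInf_le A i₀).trans (hle i₀)))))

end Cfsg.Lib.Fus
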