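import Cfsg.Agent.Fus.BicStr

/-!
# The action of a bicyclic 2-group on its derived subgroup, in additive coordinates
-/

set_option autoImplicit false

namespace Cfsg.Lib.Fus.Bic

open Subgroup Cfsg.Lib.Solv Cfsg.Lib.Rank2.Bic
open scoped commutatorElement

/-- Additive coordinates on an abelian derived subgroup. -/
structure Co (P V : Type*) [Group P] [AddCommGroup V] where
  ι : V → P
  ρ : P → V →+ V
  ι_add : ∀ v w, ι (v + w) = ι v * ι w
  inj : Function.Injective ι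
  conj : ∀ g v, ι (ρ g v) = g * ι v * g⁻¹
  range : ∀ g, g ∈ commutator P ↔ ∃ v, ι v = g

variable {P V : Type*} [Group P] [AddCommGroup V] {a b g h : P} {v w t l : V}
  {X Y : AddSubgroup V} {A M : Subgroup P}

open scoped IsMulCommutative in
theorem exists_co [IsMulCommutative (commutator P)] : Nonempty (Co P (Additive (commutator P))) :=
  ⟨{ ι v := (v.toMul : commutator P)
     ρ g := MonoidHom.toAdditive (MulAut.conjNormal g : MulAut (commutator P)).toMonoidHom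
     ι_add _ _ := rfl
     inj _ _ e := Additive.toMul.injective (Subtype.ext e)
     conj _ _ := rfl
     range g := ⟨fun h => ⟨Additive.ofMul ⟨g, h⟩, rfl⟩, fun ⟨v, e⟩ => e ▸ v.toMul.2⟩ }⟩

namespace Co

variable (D : Co P V)

/-- The coordinates as a homomorphism. -/
def hom : Multiplicative V →* P := MonoidHom.mk' (fun v => D.ι v.toAdd) fun _ _ => D.ι_add _ _

theorem ι_zero : D.ι 0 = 1 := D.hom.map_one
theorem ι_neg (v : V) : D.ι (-v) = (D.ι v)⁻¹ := D.hom.map_inv (.ofAdd v)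
theorem ι_zsmul (n : ℤ) (v : V) : D.ι (n • v) = D.ι v ^ n := D.hom.map_zpow (.ofAdd v) n
theorem ι_nsmul (n : ℕ) (v : V) : D.ι (n • v) = D.ι v ^ n := D.hom.map_pow (.ofAdd v) n
theorem ι_sub (v w : V) : D.ι (v - w) = D.ι v * (D.ι w)⁻¹ := by
  rw [sub_eq_add_neg, D.ι_add, D.ι_neg]
theorem ι_two (v : V) : D.ι ((2 : ℤ) • v) = D.ι v * D.ι v := by rw [two_zsmul, D.ι_add]
theorem ι_eq_one : D.ι v = 1 ↔ v = 0 := by rw [← D.ι_zero, D.inj.eq_iff]
theorem mem (v : V) : D.ι v ∈ commutator P := (D.range _).2 ⟨v, rfl⟩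
theorem comm (v w : V) : Commute (D.ι v) (D.ι w) := by
  rw [commute_iff_eq, ← D.ι_add, ← D.ι_add, add_comm]
theorem ρ_mul (g h : P) (v : V) : D.ρ (g * h) v = D.ρ g (D.ρ h v) :=
  D.inj (by rw [D.conj, D.conj, D.conj]; group)
theorem ρ_eq (e : Commute g (D.ι v)) : D.ρ g v = v := D.inj (by rw [D.conj, e.mul_inv_cancel])
theorem commute (e : D.ρ g v = v) : Commute g (D.ι v) := by
  rw [commute_iff_eq, ← mul_inv_eq_iff_eq_mul, ← D.conj, e]
theorem ρ_one (v : V) : D.ρ 1 v = v := D.ρ_eq (Commute.one_left _)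
theorem ρ_ι (w v : V) : D.ρ (D.ι w) v = v := D.ρ_eq (D.comm w v)
theorem ρ_inv (g : P) (v : V) : D.ρ g⁻¹ (D.ρ g v) = v := by rw [← D.ρ_mul, inv_mul_cancel, D.ρ_one]
theorem swap (g : P) (v : V) : g * D.ι v = D.ι (D.ρ g v) * g := by rw [D.conj]; group
theorem ρ_comm (g h : P) (v : V) : D.ρ g (D.ρ h v) = D.ρ h (D.ρ g v) := by
  obtain ⟨w, e⟩ := (D.range ⁅g, h⁆).1 (commutator_mem_commutator trivial trivial)
  rw [← D.ρ_mul, ← D.ρ_mul, show g * h = ⁅g, h⁆ * (h * g) by rw [commutatorElement_def]; group,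
    D.ρ_mul, ← e, D.ρ_ι]
theorem ι_comm (g : P) (v : V) : D.ι (D.ρ g v - v) = g * D.ι v * g⁻¹ * (D.ι v)⁻¹ := by
  rw [D.ι_sub, D.conj]
theorem ι_comm' (g : P) (v : V) : D.ι (v - D.ρ g v) = D.ι v * g * (D.ι v)⁻¹ * g⁻¹ := by
  rw [D.ι_sub, D.conj]; group
include D in
theorem finite [Finite P] : Finite V := Finite.of_injective _ D.inj

/-- The subgroup of `P` given by an additive subgroup. -/
def toP (X : AddSubgroup V) : Subgroup P := (AddSubgroup.toSubgroup X).map D.hom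

theorem mem_toP : g ∈ D.toP X ↔ ∃ v ∈ X, D.ι v = g :=
  ⟨fun ⟨v, h, e⟩ => ⟨v.toAdd, h, e⟩, fun ⟨v, h, e⟩ => ⟨.ofAdd v, h, e⟩⟩

theorem ι_mem_toP : D.ι v ∈ D.toP X ↔ v ∈ X :=
  ⟨fun h => by obtain ⟨w, h, e⟩ := D.mem_toP.1 h; exact D.inj e ▸ h, fun h => D.mem_toP.2 ⟨v, h, rfl⟩⟩

theorem card_toP (X : AddSubgroup V) : Nat.card (D.toP X) = Nat.card X :=
  card_map_of_injective (f := D.hom) fun _ _ e => Multiplicative.toAdd.injective (D.inj e)

theorem normal_toP (h : ∀ g, ∀ v ∈ X, D.ρ g v ∈ X) : (D.toP X).Normal := ⟨fun _ hx g => by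
  obtain ⟨v, hv, rfl⟩ := D.mem_toP.1 hx
  rw [← D.conj]; exact D.ι_mem_toP.2 (h g v hv)⟩

include D in
theorem mem_of_odd (hP : IsPGroup 2 P) {m : ℤ} (hm : Odd m) (h : m • v ∈ X) : v ∈ X :=
  D.ι_mem_toP.1 (mem_of_odd_zpow hP hm (D.ι_zsmul m v ▸ D.ι_mem_toP.2 h))

include D in
theorem eq_zero_of_odd (hP : IsPGroup 2 P) {m : ℤ} (hm : Odd m) (h : m • v = 0) : v = 0 :=
  D.mem_of_odd (X := ⊥) hP hm h

end Co

theorem le_of_index_two (hA : A.index = 2) : commutator P ≤ A :=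
  PG.commutator_le_of_sq_mem fun x _ => sq_mem_of_index_two hA x

/-- The generators `a`, `b` with coordinates `t` of `[a, b]` and `l` of `b ^ 2`. -/
structure Dat (D : Co P V) (a b : P) (t l : V) : Prop extends Fr a b where
  et : D.ι t = ⁅a, b⁆
  el : D.ι l = b * b

theorem Fr.exists_dat (f : Fr a b) (D : Co P V) : ∃ t l, Dat D a b t l := by
  obtain ⟨t, et⟩ := (D.range ⁅a, b⁆).1 (commutator_mem_commutator trivial trivial)
  obtain ⟨l, el⟩ := (D.range _).1 (LL_le f.bsq)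
  exact ⟨t, l, f, et, el⟩

theorem gen_of_sup [Finite P] (hP : IsPGroup 2 P) {H : Subgroup P} (h : H ⊔ commutator P = ⊤) :
    H = ⊤ :=
  have : Fact (Nat.Prime 2) := ⟨Nat.prime_two⟩
  frattini_nongenerating (eq_top_iff.2 (h.ge.trans
    (sup_le_sup_left (commutator_le_frattini_of_isPGroup hP) _)))

theorem Fr.exists_A [Finite P] (f : Fr a b) : ∃ A : Subgroup P, A.index = 2 ∧ a ∈ A ∧ b ∉ A := by
  obtain ⟨A, h1, h2⟩ := exists_index_two f.pg (U := zpowers a) fun e =>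
    f.nm (meta_of_comm_mem f.gen (e.ge trivial))
  refine ⟨A, h1, h2 (mem_zpowers a), fun h => ?_⟩
  rw [eq_top_of_gen f.gen (h2 (mem_zpowers a)) h, index_top] at h1
  omega

theorem Fr.ind [Finite P] (f : Fr a b) {p : P → Prop} (h1 : p 1) (hm : ∀ g h, p g → p h → p (g * h))
    (ha : p a) (hb : p b) (g : P) : p g :=
  (eq_top_of_gen f.gen (H := subgroupOfFinite {g | p g} h1 hm) ha hb).ge trivial

/-- The Frattini subgroup. -/
abbrev Phi (a : P) : Subgroup P := commutator P ⊔ zpowers (a * a)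

theorem Phi_le (hA : A.index = 2) : Phi a ≤ A :=
  sup_le (le_of_index_two hA) (zpowers_le.2 (mul_self_mem_of_index_two hA a))

theorem mem_sup_iff' {K : Subgroup P} (h : commutator P ≤ K) :
    g ∈ K ⊔ zpowers a ↔ ∃ k ∈ K, ∃ n : ℤ, g = k * a ^ n :=
  have := Normal.of_commutator_le P h
  PG.mem_sup_zpowers_iff (by rw [normalizer_eq_top]; trivial)

theorem Fr.normal_form (f : Fr a b) (g : P) : ∃ φ ∈ Phi a,
    g = φ ∨ g = φ * b ∨ g = φ * a ∨ g = φ * (a * b) := by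
  have hN := Normal.of_commutator_le P (H := Phi a) le_sup_left
  have h1 : g ∈ commutator P ⊔ zpowers a ⊔ zpowers b := (eq_top_of_gen f.gen
    (mem_sup_left (mem_sup_right (mem_zpowers a))) (mem_sup_right (mem_zpowers b))).ge trivial
  obtain ⟨_, h2, j, rfl⟩ := (mem_sup_iff' le_sup_left).1 h1
  obtain ⟨p, hp, i, rfl⟩ := (mem_sup_iff' le_rfl).1 h2
  have ha : ∀ i : ℤ, p * (a * a) ^ i ∈ Phi a := fun i =>
    mul_mem (mem_sup_left hp) (mem_sup_right ⟨i, rfl⟩)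
  have hb : ∀ j : ℤ, (b * b) ^ j ∈ Phi a := fun j => zpow_mem (mem_sup_left (LL_le f.bsq)) j
  simp only [← zpow_two, ← zpow_mul] at ha hb
  rcases Int.even_or_odd' i with ⟨i, rfl | rfl⟩ <;> rcases Int.even_or_odd' j with ⟨j, rfl | rfl⟩
  · exact ⟨_, mul_mem (ha i) (hb j), .inl rfl⟩
  · exact ⟨_, mul_mem (ha i) (hb j), .inr (.inl (by group))⟩
  · exact ⟨_, mul_mem (ha i) (hN.conj_mem _ (hb j) a), .inr (.inr (.inl (by group)))⟩
  · exact ⟨_, mul_mem (ha i) (hN.conj_mem _ (hb j) a), .inr (.inr (.inr (by group)))⟩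

theorem Fr.mem_M (f : Fr a b) (hM : M.index = 2) (hb : b ∈ M) (hg : g ∈ M) :
    g ∈ Phi a ∨ ∃ φ ∈ Phi a, g = φ * b := by
  have ha : a ∉ M := fun h => by
    rw [eq_top_of_gen f.gen h hb, index_top] at hM
    omega
  obtain ⟨φ, h, rfl | rfl | rfl | rfl⟩ := f.normal_form g
  · exact .inl h
  · exact .inr ⟨φ, h, rfl⟩
  · exact (ha ((mul_mem_cancel_left (Phi_le hM h)).1 hg)).elim
  · exact (ha ((mul_mem_cancel_right hb).1 ((mul_mem_cancel_left (Phi_le hM h)).1 hg))).elim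

namespace Dat

variable [Finite P] {D : Co P V} (d : Dat D a b t l)
include d

omit [Finite P] in
theorem ab : a * b * a⁻¹ = D.ι t * b := by rw [d.et, commutatorElement_def]; group

omit [Finite P] in
theorem rel : D.ρ b t = -t + (D.ρ a l - l) := by
  have : t + D.ρ b t + l = D.ρ a l := D.inj (by
    rw [D.ι_add, D.ι_add, D.conj, D.conj, d.el,
      show a * (b * b) * a⁻¹ = a * b * a⁻¹ * (a * b * a⁻¹) by group, d.ab]
    group)
  rw [← this]; abel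

omit [Finite P] in
theorem bl : D.ρ b l = l := D.ρ_eq (d.el ▸ (Commute.refl b).mul_right (Commute.refl b))

theorem inv_of (ha : ∀ v ∈ X, D.ρ a v ∈ X) (hb : ∀ v ∈ X, D.ρ b v ∈ X) :
    ∀ g, ∀ v ∈ X, D.ρ g v ∈ X :=
  d.ind (fun v h => by rwa [D.ρ_one]) (fun g h h1 h2 v hv => D.ρ_mul g h v ▸ h1 _ (h2 v hv)) ha hb

omit [Finite P] in
theorem span (h : ∀ g, ∀ v ∈ X, D.ρ g v ∈ X) (ht : t ∈ X) (v : V) : v ∈ X :=
  have := D.normal_toP h
  D.ι_mem_toP.1 (commutator_le_of_gen d.gen (d.et ▸ D.ι_mem_toP.2 ht) (D.mem v))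

omit [Finite P] in
theorem ext_t {f f' : V →+ V} (h : ∀ g v, f (D.ρ g v) = D.ρ g (f v))
    (h' : ∀ g v, f' (D.ρ g v) = D.ρ g (f' v)) (e : f t = f' t) (v : V) : f v = f' v :=
  d.span (X := f.eqLocus f') (fun g v (hv : f v = f' v) => show f _ = f' _ by rw [h, h', hv]) e v

theorem ρ_c (g : P) : ∃ n : ℤ, D.ρ g (D.ρ a t - t) = n • (D.ρ a t - t) := by
  obtain ⟨A, h1, h2, h3⟩ := d.exists_A
  have := normal_of_index_eq_two h1
  have := FT.Metacyclic.metacyclic_der_cyclic (d.mc A h1 h3)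
  obtain ⟨e, he⟩ := PG.exists_zpowers_eq ⁅A, A⁆
  obtain ⟨k, hk⟩ := he.ge (Normal.conj_mem inferInstance e (he.le (mem_zpowers e)) g)
  obtain ⟨m, hm⟩ := he.ge (commutator_mem_commutator h2 (le_of_index_two h1 (D.mem t)))
  refine ⟨k, D.inj ?_⟩
  simp only at hk hm
  rw [D.ι_zsmul, D.conj, D.ι_comm, ← commutatorElement_def, ← hm, ← conj_zpow, ← hk, ← zpow_mul,
    ← zpow_mul, mul_comm]

theorem u_mem (v : V) : ∃ n : ℤ, D.ρ a v - v = n • (D.ρ a t - t) := by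
  refine (d.span (X := (AddSubgroup.zmultiples (D.ρ a t - t)).comap (D.ρ a - AddMonoidHom.id V))
    (fun g v ⟨n, hn⟩ => ?_) (AddSubgroup.mem_zmultiples _) v).imp fun _ h => h.symm
  obtain ⟨k, hk⟩ := d.ρ_c g
  refine ⟨n * k, ?_⟩
  have hn' : n • (D.ρ a t - t) = D.ρ a v - v := hn
  show (n * k) • (D.ρ a t - t) = D.ρ a (D.ρ g v) - D.ρ g v
  rw [D.ρ_comm, ← map_sub, ← hn', map_zsmul, hk, mul_smul]

theorem exists_κ : ∃ κ : ℤ, ∀ v, D.ρ a (D.ρ a v - v) - (D.ρ a v - v) = (2 * κ) • (D.ρ a v - v) := by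
  suffices ∃ κ : ℤ, D.ρ a (D.ρ a t - t) - (D.ρ a t - t) = (2 * κ) • (D.ρ a t - t) by
    refine this.imp fun κ h v => ?_
    obtain ⟨n, hn⟩ := d.u_mem v
    rw [hn, map_zsmul, ← smul_sub, h, smul_comm]
  obtain ⟨n, hn⟩ := d.ρ_c a
  obtain ⟨m, hm⟩ := d.ρ_c a⁻¹
  rcases Int.even_or_odd' n with ⟨k, rfl | rfl⟩
  · have := D.ρ_inv a (D.ρ a t - t)
    rw [hn, map_zsmul, hm] at this
    rw [D.eq_zero_of_odd d.pg (v := D.ρ a t - t) (m := 2 * (k * m - 1) + 1) (odd_two_mul_add_one _)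
      (by linear_combination (norm := module) this)]
    exact ⟨0, by simp⟩
  · exact ⟨k, by rw [hn]; module⟩

theorem span_two (v : V) : ∃ i j : ℤ, v = i • t + j • (D.ρ a t - t) := by
  have key : ∀ g, D.ρ g t ∈ AddSubgroup.closure {t, D.ρ a t - t} →
      ∀ v ∈ AddSubgroup.closure {t, D.ρ a t - t}, D.ρ g v ∈ AddSubgroup.closure {t, D.ρ a t - t} := by
    intro g h v hv
    obtain ⟨i, j, rfl⟩ := AddSubgroup.mem_closure_pair.1 hv
    obtain ⟨n, hn⟩ := d.ρ_c g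
    rw [map_add, map_zsmul, map_zsmul, hn]
    exact add_mem (zsmul_mem h i) (AddSubgroup.mem_closure_pair.2 ⟨0, j * n, by module⟩)
  obtain ⟨n, hn⟩ := d.u_mem l
  obtain ⟨i, j, e⟩ := AddSubgroup.mem_closure_pair.1 (d.span (d.inv_of
    (key a (AddSubgroup.mem_closure_pair.2 ⟨1, 1, by module⟩))
    (key b (AddSubgroup.mem_closure_pair.2 ⟨-1, n, by rw [d.rel, hn]; module⟩)))
    (AddSubgroup.mem_closure_pair.2 ⟨1, 0, by module⟩) v)
  exact ⟨i, j, e.symm⟩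

theorem mem_LL : D.ι v ∈ LL P ↔ ∃ w, ∃ i : ℤ, v = (2 : ℤ) • w + i • (D.ρ a t - t) := by
  refine ⟨fun h => ?_, ?_⟩
  swap
  · rintro ⟨w, i, rfl⟩
    rw [D.ι_add, D.ι_two, D.ι_zsmul, D.ι_comm]
    exact mul_mem (sq_mem_LL (D.mem w)) (zpow_mem (comm_mem_LL (D.mem t) a) i)
  let X : AddSubgroup V := (zsmulAddGroupHom 2).range ⊔ AddSubgroup.zmultiples (D.ρ a t - t)
  have hX : ∀ v, v ∈ X ↔ ∃ w, ∃ i : ℤ, v = (2 : ℤ) • w + i • (D.ρ a t - t) := fun v =>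
    AddSubgroup.mem_sup.trans ⟨fun ⟨_, ⟨w, e⟩, _, ⟨i, e'⟩, h⟩ => ⟨w, i, by rw [← h, ← e, ← e']; rfl⟩,
      fun ⟨w, i, e⟩ => ⟨_, ⟨w, rfl⟩, _, ⟨i, rfl⟩, e.symm⟩⟩
  have h1 : ∀ g, ∀ v, D.ρ g v - v ∈ X := d.ind (fun v => by rw [D.ρ_one, sub_self]; exact zero_mem _)
    (fun g h h1 h2 v => by simpa [D.ρ_mul] using add_mem (h1 (D.ρ h v)) (h2 v))
    (fun v => by
      obtain ⟨n, hn⟩ := d.u_mem v
      exact (hX _).2 ⟨0, n, by rw [hn]; module⟩)
    fun v => by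
      obtain ⟨i, j, rfl⟩ := d.span_two v
      obtain ⟨n, hn⟩ := d.u_mem l
      obtain ⟨m, hm⟩ := d.ρ_c b
      refine (hX _).2 ⟨-i • t, i * n + j * m - j, ?_⟩
      rw [map_add, map_zsmul, map_zsmul, hm, d.rel, hn]; module
  have := D.normal_toP (X := X) fun g v hv => by simpa using add_mem (h1 g v) hv
  refine (hX v).1 (D.ι_mem_toP.1 (LL_le_of (fun x hx => ?_) (fun x hx g => ?_) h)) <;>
    obtain ⟨w, rfl⟩ := (D.range x).1 hx
  · rw [← D.ι_two]; exact D.ι_mem_toP.2 ((hX _).2 ⟨w, 0, by module⟩)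
  · rw [← D.ι_comm]; exact D.ι_mem_toP.2 (h1 g w)

theorem t_ne (w : V) (i : ℤ) : t ≠ (2 : ℤ) • w + i • (D.ρ a t - t) := fun e =>
  comm_not_mem d.pg d.nm d.gen (mem_sup_right (d.et ▸ d.mem_LL.2 ⟨w, i, e⟩))

theorem ρ_b : ∃ e : ℤ, ∀ v, D.ρ b v = -v + (2 * e) • (D.ρ a v - v) := by
  obtain ⟨w, i, e⟩ := d.mem_LL.1 (d.el ▸ d.bsq)
  obtain ⟨κ, hκ⟩ := d.exists_κ
  obtain ⟨n, hn⟩ := d.u_mem w
  refine ⟨n + i * κ, d.ext_t (f := D.ρ b)
    (f' := -AddMonoidHom.id V + (2 * (n + i * κ)) • (D.ρ a - AddMonoidHom.id V))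
    (fun g v => D.ρ_comm b g v) (fun g v => by simp [D.ρ_comm a g]) ?_⟩
  have h1 := hκ t
  show D.ρ b t = -t + (2 * (n + i * κ)) • (D.ρ a t - t)
  rw [d.rel, e, map_add, map_zsmul, map_zsmul]
  linear_combination (norm := module) (2 : ℤ) • hn + i • h1

theorem ρ_Phi (hg : g ∈ Phi a) : ∃ e : ℤ, ∀ v, D.ρ g v = v + (2 * e) • (D.ρ a v - v) := by
  obtain ⟨κ, hκ⟩ := d.exists_κ
  refine sup_le (c := subgroupOfFinite
    {g | ∃ e : ℤ, ∀ v, D.ρ g v = v + (2 * e) • (D.ρ a v - v)} ⟨0, fun v => by simp [D.ρ_one]⟩ ?_)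
    (fun x hx => ?_) (zpowers_le.2 ⟨1 + κ, fun v => ?_⟩) hg
  · rintro g h ⟨e, he⟩ ⟨e', he'⟩
    refine ⟨e + e' + 4 * e * e' * κ, fun v => ?_⟩
    have := hκ v
    rw [D.ρ_mul, he, he', map_add, map_zsmul]
    linear_combination (norm := module) (4 * e * e') • this
  · obtain ⟨w, rfl⟩ := (D.range x).1 hx
    exact ⟨0, fun v => by simp [D.ρ_ι]⟩
  · have := hκ v
    rw [map_sub] at this
    rw [D.ρ_mul]
    linear_combination (norm := module) this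

theorem ρ_Phi_b (hg : g ∈ Phi a) :
    ∃ e : ℤ, ∀ v, D.ρ (g * b) v = -v + (2 * e) • (D.ρ a v - v) := by
  obtain ⟨κ, hκ⟩ := d.exists_κ
  obtain ⟨e, he⟩ := d.ρ_Phi hg
  obtain ⟨e', he'⟩ := d.ρ_b
  refine ⟨e' - e + 4 * e * e' * κ, fun v => ?_⟩
  have := hκ v
  rw [D.ρ_mul, he, he', map_add, map_zsmul, map_neg]
  linear_combination (norm := module) (4 * e * e') • this

theorem sq_not_mem : a * a ∉ commutator P := fun h => by
  obtain ⟨v, hv⟩ := (D.range _).1 h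
  obtain ⟨i, j, rfl⟩ := d.span_two v
  rcases Int.even_or_odd' i with ⟨k, rfl | rfl⟩
  · have h1 : a * a ∈ LL P := hv ▸ d.mem_LL.2 ⟨k • t, j, by module⟩
    have hN : (LL P).Normal := inferInstance
    refine comm_not_mem d.pg d.nm (g := a * b) (h := b) (eq_top_of_gen d.gen
      ((mul_mem_cancel_right mem_closure_right).1 mem_closure_left) mem_closure_right) ?_
    have h2 : a * b * (a * b) * (b * b)⁻¹ * (a * a)⁻¹ ∈ zpowers (a * b) ⊔ LL P :=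
      mul_mem (mul_mem (mem_sup_left (mul_mem (mem_zpowers _) (mem_zpowers _)))
        (inv_mem (mem_sup_right d.bsq))) (inv_mem (mem_sup_right h1))
    have h3 := mem_sup_right (S := zpowers (a * b)) (comm_mem_LL (D.mem (-t)) a)
    have h4 := mul_mem (inv_mem h2) h3
    rwa [D.ι_neg, d.et, show (a * b * (a * b) * (b * b)⁻¹ * (a * a)⁻¹)⁻¹ *
      (a * ⁅a, b⁆⁻¹ * a⁻¹ * ⁅a, b⁆⁻¹⁻¹) = ⁅a * b, b⁆ by simp only [commutatorElement_def]; group] at h4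
  · refine comm_not_mem d.pg d.nm d.gen ?_
    have h1 : D.ι ((2 : ℤ) • k • t + j • (D.ρ a t - t)) ∈ LL P := d.mem_LL.2 ⟨_, _, rfl⟩
    have h2 := mul_mem (mem_sup_left (T := LL P) (mul_mem (mem_zpowers a) (mem_zpowers a)))
      (inv_mem (mem_sup_right h1))
    rwa [← hv, ← D.ι_sub, show (2 * k + 1) • t + j • (D.ρ a t - t) -
      ((2 : ℤ) • k • t + j • (D.ρ a t - t)) = t by module, d.et] at h2

end Dat

end Cfsg.Lib.Fus.Bic
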