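import Cfsg.Agent.Fus.BicCo
import Cfsg.Agent.Fus.BicFrame

/-!
# Bicyclic 2-groups with cyclic derived subgroup carry a saturated fusion system that is not inner
-/

set_option autoImplicit false

namespace Cfsg.Lib.Fus.Bic

open Subgroup Cfsg.Lib.Solv Cfsg.Lib.Rank2.Bic
open scoped commutatorElement

variable {P V : Type*} [Group P] [AddCommGroup V] {a b g h φ ψ : P} {v w t l σ : V} {i : ℤ}

theorem Fr.gen_of [Finite P] (f : Fr a b) (h1 : φ ∈ Phi a) (h2 : ψ ∈ Phi a) :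
    closure {φ * a, ψ * b} = ⊤ := by
  have : Fact (Nat.Prime 2) := ⟨Nat.prime_two⟩
  have h : Phi a ≤ frattini P := sup_le (commutator_le_frattini_of_isPGroup f.pg)
    (zpowers_le.2 (pow_two a ▸ pow_mem_frattini f.pg a))
  exact frattini_nongenerating (eq_top_of_gen f.gen
    ((mul_mem_cancel_left (mem_sup_right (h h1))).1 (mem_sup_left mem_closure_left))
    ((mul_mem_cancel_left (mem_sup_right (h h2))).1 (mem_sup_left mem_closure_right)))

theorem Fr.not_commute [Finite P] (f : Fr a b) (h1 : φ ∈ Phi a) (h2 : ψ ∈ Phi a) :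
    ¬ Commute (φ * a) (ψ * b) := fun h => comm_not_mem f.pg f.nm (f.gen_of h1 h2)
  (by rw [commutatorElement_eq_one_iff_commute.2 h]; exact one_mem _)

theorem commute_of_sup {x y c : P} (h1 : Commute x g) (h2 : Commute y g)
    (hc : c ∈ zpowers x ⊔ zpowers y) : Commute c g :=
  mem_centralizer_singleton_iff.1 (sup_le (c := centralizer {g})
    (zpowers_le.2 (mem_centralizer_singleton_iff.2 h1))
    (zpowers_le.2 (mem_centralizer_singleton_iff.2 h2)) hc)

/-- The cyclic case: `a` acts on the derived subgroup as the power `2 i + 1`. -/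
structure Cyc (D : Co P V) (a b : P) (t l : V) (i : ℤ) : Prop extends Dat D a b t l where
  cyc : ∀ v, ∃ n : ℤ, v = n • t
  ρa : ∀ v, D.ρ a v = (2 * i + 1) • v

/-- An element centralizing `b`. -/
abbrev Cyc.u (D : Co P V) (a : P) (t : V) (i : ℤ) : P := D.ι (-(i + 1) • t) * (a * a)

theorem Cyc.u_mem {D : Co P V} : Cyc.u D a t i ∈ Phi a :=
  mul_mem (mem_sup_left (D.mem _)) (mem_sup_right (mem_zpowers _))

variable [Finite P] {D : Co P V}

theorem Dat.exists_cyc (d : Dat D a b t l) (hc : IsCyclic (commutator P)) :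
    ∃ i, Cyc D a b t l i := by
  have h1 : ∀ v, ∃ n : ℤ, v = n • t := fun v => by
    obtain ⟨n, hn⟩ := (Meta.commutator_eq_zpowers hc d.gen).le (D.mem v)
    exact ⟨n, D.inj (by rw [D.ι_zsmul, d.et]; exact hn.symm)⟩
  obtain ⟨k, hk⟩ := h1 (D.ρ a t)
  rcases Int.even_or_odd' k with ⟨i, rfl | rfl⟩
  · exact (d.t_ne (i • t) (-1) (by rw [hk]; module)).elim
  · refine ⟨i, d, h1, fun v => ?_⟩
    obtain ⟨n, rfl⟩ := h1 v
    rw [map_zsmul, hk, smul_comm]

namespace Cyc

variable (d : Cyc D a b t l i)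
include d

theorem two_l : (2 : ℤ) • l = 0 := by
  obtain ⟨e, he⟩ := d.ρ_b
  have := he l
  rw [d.bl, d.ρa] at this
  exact D.eq_zero_of_odd d.pg (m := 2 * (-e * i) + 1) (odd_two_mul_add_one _)
    (by linear_combination (norm := module) this)

theorem ρb (v : V) : D.ρ b v = -v := by
  obtain ⟨n, rfl⟩ := d.cyc v
  rw [map_zsmul, d.rel, d.ρa]
  linear_combination (norm := module) (n * i) • d.two_l

theorem ιb (v : V) : D.ι v * b * (D.ι v)⁻¹ = D.ι ((2 : ℤ) • v) * b := by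
  rw [← mul_inv_eq_iff_eq_mul, ← D.ι_comm', d.ρb, two_zsmul, sub_neg_eq_add]

theorem ub : Commute (u D a t i) b := by
  rw [commute_iff_eq, ← mul_inv_eq_iff_eq_mul]
  calc _ = D.ι (-(i + 1) • t) * (a * (a * b * a⁻¹) * a⁻¹) * (D.ι (-(i + 1) • t))⁻¹ := by group
    _ = D.ι (-(i + 1) • t) * (D.ι (D.ρ a t) * (D.ι t * b)) * (D.ι (-(i + 1) • t))⁻¹ := by
      rw [d.ab, D.conj]; nth_rewrite 2 [← d.ab]; group
    _ = D.ι (D.ρ a t) * D.ι t * (D.ι (-(i + 1) • t) * b * (D.ι (-(i + 1) • t))⁻¹) := by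
      rw [← mul_assoc (D.ι (D.ρ a t)), ← D.ι_add, ← mul_assoc _ (D.ι _) b, (D.comm _ _).eq]; group
    _ = b := by
      rw [d.ιb, ← mul_assoc, ← D.ι_add, ← D.ι_add, d.ρa, D.ι_eq_one.2 (by module), one_mul]

omit [Finite P] in
theorem uι (h : (8 : ℤ) • v = 0) : Commute (u D a t i) (D.ι v) := by
  obtain ⟨m, hm⟩ := Int.even_mul_succ_self i
  refine D.commute ?_
  rw [D.ρ_mul, D.ρ_ι, D.ρ_mul, d.ρa, d.ρa, smul_smul,
    show (2 * i + 1) * (2 * i + 1) = 8 * m + 1 by linear_combination 4 * hm]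
  linear_combination (norm := module) m • h

theorem two_of_commute (h : Commute (D.ι v) b) : (2 : ℤ) • v = 0 := by
  have := D.ρ_eq h.symm
  rw [d.ρb] at this
  linear_combination (norm := module) -this

theorem exists_hf (h1 : (2 : ℤ) • σ = l) (h2 : ∀ v : V, (2 : ℤ) • v = 0 → ∃ n : ℤ, v = n • σ)
    (h3 : D.ι σ ∉ zpowers (u D a t i) ⊔ zpowers (D.ι l))
    (h4 : (∃ η, σ = (2 : ℤ) • η) ∨ σ = t) :
    ∃ h, HF (zpowers (u D a t i) ⊔ zpowers (D.ι l)) (D.ι σ) b h := by
  have l2 := d.two_l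
  obtain ⟨A, a1, a2, a3⟩ := d.exists_A
  have hU : ∀ v, D.ι v ∈ A := fun v => le_of_index_two a1 (D.mem v)
  have hC : zpowers (u D a t i) ⊔ zpowers (D.ι l) ≤ A :=
    sup_le (zpowers_le.2 (Phi_le a1 u_mem)) (zpowers_le.2 (hU l))
  have lb : Commute (D.ι l) b := d.el ▸ (Commute.refl b).mul_left (Commute.refl b)
  have ul := d.uι (v := l) (by linear_combination (norm := module) (4 : ℤ) • l2)
  have q : QP (zpowers (u D a t i) ⊔ zpowers (D.ι l)) (D.ι σ) b :=
    { cs := fun c => commute_of_sup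
        (d.uι (by linear_combination (norm := module) (4 : ℤ) • h1 + (2 : ℤ) • l2)) (D.comm _ _)
      cb := fun c => commute_of_sup d.ub lb
      sq := by rw [← d.el, ← h1, D.ι_two, pow_two]
      inv := by rw [← D.conj, d.ρb, D.ι_neg]
      mem := by rw [pow_two, ← D.ι_two, h1]; exact mem_sup_right (mem_zpowers _)
      ns := h3
      nb := fun h => a3 (hC h)
      nsb := fun h => a3 ((mul_mem_cancel_left (hU σ)).1 (hC h)) }
  have hz : ∀ v, Commute (D.ι v) b → D.ι v ∈ zpowers (D.ι σ) := fun v hv => by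
    obtain ⟨n, rfl⟩ := h2 v (d.two_of_commute hv)
    exact ⟨n, (D.ι_zsmul n σ).symm⟩
  suffices ∃ h, Commute (u D a t i) h ∧ Commute (D.ι l) h ∧ Commute h (D.ι σ) ∧
      h * b * h⁻¹ = D.ι σ * b by
    obtain ⟨h, e1, e2, e3, e4⟩ := this
    refine ⟨h, q, fun c hc c' hc' => (commute_of_sup (commute_of_sup (.refl _) ul.symm hc).symm
      (commute_of_sup ul (.refl _) hc).symm hc').symm, fun c => commute_of_sup e1 e2, e3, e4,
      fun g hg => ?_, fun g hg => ?_⟩
    · have key : ∀ φ ∈ Phi a, Commute φ b →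
          φ ∈ QQ (zpowers (u D a t i) ⊔ zpowers (D.ι l)) (D.ι σ) b := fun φ hφ hc => by
        obtain ⟨p, hp, n, rfl⟩ := (mem_sup_iff' (a := u D a t i) le_rfl).1 (sup_le le_sup_left
          (zpowers_le.2 ((mul_mem_cancel_left (mem_sup_left (D.mem _))).1
            (mem_sup_right (mem_zpowers _)))) hφ)
        obtain ⟨v, rfl⟩ := (D.range p).1 hp
        refine mul_mem (mem_sup_right (mem_sup_left (hz v ?_)))
          (mem_QQ_c (mem_sup_left ⟨n, rfl⟩))
        simpa using hc.mul_left (d.ub.zpow_left n).inv_left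
      obtain ⟨φ, hφ, rfl | rfl | rfl | rfl⟩ := d.normal_form g
      · exact key _ hφ hg
      · exact mul_mem (key _ hφ (by simpa using hg.mul_left (Commute.refl b).inv_left)) mem_QQ_b
      · exact (d.not_commute hφ (one_mem _) (by rwa [one_mul])).elim
      · refine (d.not_commute hφ (one_mem _) ?_).elim
        simpa [mul_assoc] using hg.mul_left (Commute.refl b).inv_left
    · obtain ⟨v, hv⟩ := (D.range ⁅g, b⁆).1 (commutator_mem_commutator trivial trivial)
      rw [← commutatorElement_def, ← hv]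
      obtain ⟨c, hc, e | e | e | e⟩ := q.cases (x := D.ι v) (hv ▸
        mul_mem (conj_mem_of_mem_normalizer hg mem_QQ_b) (inv_mem mem_QQ_b))
      · exact hz v (e ▸ q.cb c hc)
      · refine (mul_mem_cancel_right (inv_mem (mem_zpowers _))).1 ?_
        rw [← D.ι_sub]
        refine hz _ ?_
        rw [D.ι_sub, e, mul_inv_cancel_right]
        exact q.cb c hc
      · exact (a3 ((mul_mem_cancel_left (hC hc)).1 (e ▸ hU v))).elim
      · exact (a3 ((mul_mem_cancel_left (hU σ)).1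
          ((mul_mem_cancel_left (hC hc)).1 (e ▸ hU v)))).elim
  rcases h4 with ⟨η, rfl⟩ | rfl
  · exact ⟨D.ι η, d.uι (by linear_combination (norm := module) (2 : ℤ) • h1 + l2), D.comm _ _,
      D.comm _ _, d.ιb η⟩
  obtain ⟨m, hm⟩ := Int.even_mul_succ_self i
  have t4 : (4 : ℤ) • σ = 0 := by linear_combination (norm := module) (2 : ℤ) • h1 + l2
  have ua : Commute (u D a σ i) a := (D.commute (by
    rw [d.ρa, smul_smul, show (2 * i + 1) * -(i + 1) = -(i + 1) - 4 * m by linear_combination -2 * hm]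
    linear_combination (norm := module) -m • t4)).symm.mul_left ((Commute.refl a).mul_left (.refl a))
  have la : Commute (D.ι l) a :=
    (D.commute (by rw [d.ρa]; linear_combination (norm := module) i • l2)).symm
  rcases Int.even_or_odd' i with ⟨k, rfl | rfl⟩
  · exact ⟨a, ua, la, D.commute (by rw [d.ρa]; linear_combination (norm := module) k • t4), d.ab⟩
  · exact ⟨a * b, ua.mul_right d.ub, la.mul_right lb, D.commute (by
      rw [D.ρ_mul, d.ρb, d.ρa]; linear_combination (norm := module) (-k - 1) • t4),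
      by rw [← d.ab]; group⟩

theorem exists_order : ∃ n : ℕ, ∀ m : ℤ, m • t = 0 ↔ 2 ^ (n + 1) ∣ m := by
  have : Fact (Nat.Prime 2) := ⟨Nat.prime_two⟩
  obtain ⟨n, hn⟩ := IsPGroup.iff_orderOf.1 d.pg (D.ι t)
  rcases n with _ | n
  · exact (d.t_ne 0 0 (by simpa [D.ι_eq_one] using hn)).elim
  refine ⟨n, fun m => ?_⟩
  rw [← D.ι_eq_one, D.ι_zsmul, ← orderOf_dvd_iff_zpow_eq_one, hn]
  norm_cast

omit [Finite P] in
theorem invol {n : ℕ} (hn : ∀ m : ℤ, m • t = 0 ↔ 2 ^ (n + 1) ∣ m) (h : (2 : ℤ) • v = 0) :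
    ∃ k : ℤ, v = k • (2 ^ n : ℤ) • t := by
  obtain ⟨m, rfl⟩ := d.cyc v
  rw [smul_smul, hn, pow_succ'] at h
  obtain ⟨k, rfl⟩ := Int.dvd_of_mul_dvd_mul_left two_ne_zero h
  exact ⟨k, by module⟩

theorem exists_hf_of_ne (hl : l ≠ 0) : ∃ (C : Subgroup P) (s b h : P), HF C s b h := by
  obtain ⟨n, hn⟩ := d.exists_order
  have hz : (2 : ℤ) • (2 ^ n : ℤ) • t = 0 := by rw [smul_smul, hn, pow_succ']
  obtain ⟨k, hk⟩ := d.invol hn d.two_l
  have e : l = (2 ^ n : ℤ) • t := by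
    rcases Int.even_or_odd' k with ⟨k, rfl | rfl⟩
    · exact (hl (by linear_combination (norm := module) hk + k • hz)).elim
    · linear_combination (norm := module) hk + k • hz
  rcases n with _ | n
  · obtain ⟨w, j, e'⟩ := d.mem_LL.1 (d.el ▸ d.bsq)
    exact (d.t_ne w j (by rw [← e', e]; simp)).elim
  have h1 : (2 : ℤ) • (2 ^ n : ℤ) • t = l := by rw [e, smul_smul, pow_succ']
  obtain ⟨h, q⟩ := d.exists_hf h1 (fun v hv => by
    obtain ⟨k, rfl⟩ := d.invol hn hv
    exact ⟨2 * k, by rw [pow_succ]; module⟩) (fun h => hl (h1 ▸ d.two_of_commute (commute_of_sup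
      d.ub (d.el ▸ (Commute.refl b).mul_left (Commute.refl b)) h))) (by
    rcases n with _ | n
    · exact .inr (by simp)
    · exact .inl ⟨(2 ^ n : ℤ) • t, by rw [smul_smul, pow_succ']⟩)
  exact ⟨_, _, _, h, q⟩

end Cyc

theorem Dat.exists_hf (d : Dat D a b t l) (hc : IsCyclic (commutator P)) :
    ∃ (C : Subgroup P) (s b h : P), HF C s b h := by
  obtain ⟨i, d⟩ := d.exists_cyc hc
  by_cases hl : l = 0
  swap
  · exact d.exists_hf_of_ne hl
  subst hl
  obtain ⟨n, hn⟩ := d.exists_order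
  have hz : (2 : ℤ) • (2 ^ n : ℤ) • t = 0 := by rw [smul_smul, hn, pow_succ']
  by_cases h3 : D.ι ((2 ^ n : ℤ) • t) ∈ zpowers (Cyc.u D a t i) ⊔ zpowers (D.ι 0)
  swap
  · obtain ⟨h, q⟩ := d.exists_hf hz (fun _ => d.invol hn) h3 (by
      rcases n with _ | n
      · exact .inr (by simp)
      · exact .inl ⟨(2 ^ n : ℤ) • t, by rw [smul_smul, pow_succ']⟩)
    exact ⟨_, _, _, h, q⟩
  rw [D.ι_zero, zpowers_one_eq_bot, sup_bot_eq] at h3
  obtain ⟨m, hm⟩ := h3
  simp only at hm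
  rcases Int.even_or_odd' m with ⟨k, rfl | rfl⟩
  swap
  · exact (d.sq_not_mem ((mul_mem_cancel_left (D.mem _)).1
      (mem_of_odd_zpow d.pg (odd_two_mul_add_one k) (hm ▸ D.mem _)))).elim
  have hω : Cyc.u D a t i ^ k ∈ Phi a := zpow_mem Cyc.u_mem k
  have e : Cyc.u D a t i ^ k * b * (Cyc.u D a t i ^ k * b) = D.ι ((2 ^ n : ℤ) • t) := by
    rw [mul_assoc, ← mul_assoc b, ← (d.ub.zpow_left k).eq, mul_assoc, ← d.el, D.ι_zero, ← hm]
    group
  rcases n with _ | n
  · refine (comm_not_mem d.pg d.nm d.gen (mem_sup_left ?_)).elim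
    rw [pow_zero, one_smul] at hm hz
    have h4 : Commute a (D.ι (-(i + 1) • t)) :=
      D.commute (by rw [d.ρa]; linear_combination (norm := module) (-i * (i + 1)) • hz)
    rw [(h4.mul_left h4).symm.mul_zpow, ← D.ι_zsmul, D.ι_eq_one.2
      (by linear_combination (norm := module) (-k * (i + 1)) • hz), one_mul] at hm
    rw [← d.et, ← hm]
    exact zpow_mem (mul_mem (mem_zpowers a) (mem_zpowers a)) _
  have f : Fr a (Cyc.u D a t i ^ k * b) :=
    ⟨d.pg, d.nm, by simpa using d.gen_of (one_mem _) hω,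
      e ▸ d.mem_LL.2 ⟨(2 ^ n : ℤ) • t, 0, by rw [pow_succ]; module⟩,
      fun N hN h => d.mc N hN fun h' => h (mul_mem (Phi_le hN hω) h')⟩
  obtain ⟨t', l', d'⟩ := f.exists_dat D
  obtain ⟨i', d'⟩ := d'.exists_cyc hc
  refine d'.exists_hf_of_ne fun h => ?_
  have := d'.el
  rw [h, e, D.inj.eq_iff, eq_comm, hn] at this
  exact absurd (Int.le_of_dvd (by positivity) this)
    (not_le.2 (pow_lt_pow_right₀ one_lt_two (Nat.lt_succ_self _)))

end Cfsg.Lib.Fus.Bic
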