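import Cfsg.Agent.Grz.Flag

/-! An essential subgroup of rank at most three has index `p` in its normalizer. -/

namespace Cfsg.Lib.Fus.R3

open Cfsg Cfsg.FusionSystem Subgroup Cfsg.Lib.Solv Cfsg.Lib.Fus Cfsg.Lib.Fus.Ess Cfsg.Lib.Grz
open scoped commutatorElement

theorem card_normalizerIn_of_rank_le {Ω : Type*} [Group Ω] {S E : Subgroup Ω} {F : FusionSystem S}
    {p : ℕ} [Finite S] [hp : Fact p.Prime] (hS : IsPGroup p S) (hF : F.IsSaturated p)
    (hE : F.IsEssential p E) (hr : (frattini E).index ≤ p ^ 3) :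
    Nat.card (normalizerIn S E) = p * Nat.card E := by
  have hES := hE.1.1
  have := finite_of_le hES
  have := finite_autGroup F hES
  have hEp : IsPGroup p E := hS.to_le hES
  refine le_antisymm ?_ (prime_mul_card_le_of_lt' (hS.to_le normalizerIn_le)
    (lt_normalizerIn hS (lt_of_isEssential hS hF hE)))
  have hA : AInv (F.autGroup E) (frattini E) := AInv.of_char _
  let θ := quoHom hA
  have hT := sat_sylIn hS hF hE.2.1
  have hker : ∀ a : F.autGroup E, θ a = 1 ↔ a.1 ∈ Inn E := fun a => by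
    rw [quoHom_eq_one_iff]
    refine ⟨fun h => ((isRadical_iff_le hS).1 (isRadical_of_isEssential hS hE)).2
      ((ptr_of_triv aInv_top hA a.2 h).of_frattini hEp).mem_pCoreIn, ?_⟩
    rintro ⟨g, hg⟩ x -
    rw [← hg, MulAut.conj_apply, inv_mul_conj_eq]
    exact commutator_le_frattini_of_isPGroup hEp (commutator_mem_commutator trivial trivial)
  have hI := inn_le_autInducedBy hES
  have hmem : ∀ (K : Subgroup (MulAut E)), Inn E ≤ K → ∀ a : F.autGroup E,
      θ a ∈ (K.subgroupOf _).map θ → a.1 ∈ K := by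
    rintro K hK a ⟨b, hb, e⟩
    have : (b⁻¹ * a).1 ∈ K := hK ((hker _).1 (by rw [map_mul, map_inv, e, inv_mul_cancel]))
    simpa using K.mul_mem hb this
  have h2 : ∀ g ∈ F.autGroup E, ∀ t ∈ autInducedBy S E, t ∉ Inn E →
      g * t * g⁻¹ ∈ autInducedBy S E → g ∈ closure {α | Extendable F E α} :=
    fun g hg t ht ht1 e => subset_closure
      ((extendable_iff_of_isCentric hS hF hE.1 hg).2 ⟨t, ht, ht1, e⟩)
  have h3 : autInducedBy S E ≤ closure {α | Extendable F E α} := fun t ht => by
    obtain ⟨u, hu, hu'⟩ := SetLike.not_le_iff_exists.1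
      (not_autInducedBy_le_inn hS (isCentric_self hE.1) (lt_of_isEssential hS hF hE))
    exact h2 t (hT.le ht) u hu hu' (mul_mem (mul_mem ht hu) (inv_mem ht))
  have hse : SE p ((⊤ : Subgroup (F.autGroup E)).map θ) (((autInducedBy S E).subgroupOf _).map θ)
      (((closure {α | Extendable F E α}).subgroupOf _).map θ) := by
    refine ⟨hT.subgroupOf_top.map θ, map_mono fun _ h => h3 h, lt_of_le_of_ne (map_mono le_top)
      fun e => closure_extendable_ne_of_isEssential hS hF hE (le_antisymm
        ((closure_le _).2 fun _ h => h.mem) fun a ha => hmem _ (hI.trans h3) ⟨a, ha⟩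
          (e.ge ⟨_, trivial, rfl⟩)), ?_⟩
    rintro _ ⟨g, -, rfl⟩ _ ⟨t, ht, rfl⟩ h1 e
    exact ⟨g, h2 g g.2 t ht (fun e => h1 ((hker t).2 e))
      (hmem _ hI (g * t * g⁻¹) (by rwa [map_mul, map_mul, map_inv])), rfl⟩
  obtain ⟨t, ht⟩ := exists_rad_of_essential hS hF hE
  obtain ⟨k, hk⟩ := IsPGroup.iff_card.1 (hEp.to_quotient (frattini E))
  have h4 := ht.sq_le_index_frattini
  rw [index, hk, Nat.pow_le_pow_iff_right hp.out.one_lt] at h4 hr
  have h5 : Nat.card (((autInducedBy S E).subgroupOf _).map θ) ≤ p := by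
    obtain rfl | rfl : k = 2 ∨ k = 3 := by omega
    · exact card_le_of_card_sq hk hse.syl.pgroup
    · refine hse.card_le hk fun a b => ?_
      obtain ⟨a, rfl⟩ := QuotientGroup.mk'_surjective _ a
      obtain ⟨b, rfl⟩ := QuotientGroup.mk'_surjective _ b
      rw [← commutatorElement_eq_one_iff_mul_comm, ← map_commutatorElement]
      exact (QuotientGroup.eq_one_iff _).2
        (commutator_le_frattini_of_isPGroup hEp (commutator_mem_commutator trivial trivial))
  have h6 : Nat.card (autInducedBy S E) ≤ p * Nat.card (Inn E) := by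
    rw [← card_subgroupOf_of_le hT.le, ← card_subgroupOf_of_le (inn_le_autGroup F hES),
      ← (θ.domRestrict ((autInducedBy S E).subgroupOf _)).ker.index_mul_card, index_ker,
      MonoidHom.domRestrict_range]
    refine Nat.mul_le_mul h5 ?_
    rw [← card_map_of_injective (subtype_injective _)]
    refine card_le_card_of_le ?_
    rintro _ ⟨a, ha, rfl⟩
    exact (hker _).1 ha
  rw [card_normalizerIn_eq]
  conv_rhs => rw [← normalizerIn_self E, card_normalizerIn_eq, autInducedBy_self, ← mul_assoc]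
  exact Nat.mul_le_mul h6 (card_le_card_of_le fun x hx => ⟨isCentric_self hE.1 hx, hx.2⟩)

end Cfsg.Lib.Fus.R3
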