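import Cfsg.Agent.Fus.BicNon
import Cfsg.Agent.Fus.R3Index
import Cfsg.Agent.Fus.EssInner
import Cfsg.Agent.Solv.PConstrained

/-!
# Saturated fusion systems over bicyclic 2-groups that are not metacyclic
-/

set_option autoImplicit false

namespace Cfsg.Lib.Fus.Bic

open Cfsg.FusionSystem Subgroup Cfsg.Lib.Solv Cfsg.Lib.Rank2.Bic Cfsg.Lib.Fus.Ess
open scoped commutatorElement

theorem exists_opp_frattini {E : Type*} [Group E] [Finite E] {p : ℕ} [Fact p.Prime]
    {A : Subgroup (MulAut E)} {t : MulAut E} (h : Rad p A t) : ∃ (α : MulAut E) (q : E),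
      (α (q⁻¹ * t q))⁻¹ * t (α (q⁻¹ * t q)) ∉ frattini E := by
  by_contra! hc
  have hF : AInv A (frattini E) := AInv.of_char _
  have hX : AInv A (closure {y | ∃ (α : MulAut E) (q : E), y = α (q⁻¹ * t q)}) :=
    aInv_closure (by rintro a - _ ⟨α, q, rfl⟩; exact subset_closure ⟨a * α, q, rfl⟩)
  refine h.not_ptr_frattini ((h.ptr aInv_top hX fun q _ => subset_closure ⟨1, q, rfl⟩).trans h.pg
    (h.ptr hX hF fun x hx => ?_) hF)
  induction hx using closure_induction with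
  | mem x hx => obtain ⟨α, q, rfl⟩ := hx; exact hc α q
  | one => simp
  | mul x y _ _ hx hy =>
    have := mul_mem (Normal.conj_mem' inferInstance _ hx y) hy
    rwa [show y⁻¹ * (x⁻¹ * t x) * y * (y⁻¹ * t y) = (x * y)⁻¹ * t (x * y) by
      rw [map_mul]; group] at this
  | inv x _ hx =>
    have := inv_mem (Normal.conj_mem inferInstance _ hx x)
    rwa [show (x * (x⁻¹ * t x) * x⁻¹)⁻¹ = x⁻¹⁻¹ * t x⁻¹ by rw [map_inv]; group] at this

variable {P V : Type*} [Group P] [AddCommGroup V] [Finite P] {a b : P} {t l : V} {D : Co P V}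
  {Q : Subgroup P}

theorem Fr.index_frattini_le (f : Fr a b) (Q : Subgroup P) : (frattini Q).index ≤ 2 ^ 3 := by
  classical
  have : Fact (Nat.Prime 2) := ⟨Nat.prime_two⟩
  obtain ⟨A, a1, -, a3⟩ := f.exists_A
  obtain ⟨x, hx, y, hy, -, h⟩ := gens_of_meta
    (FT.Metacyclic.metacyclicS (T := Q ⊓ A) inf_le_right (f.mc A a1 a3))
  obtain ⟨z, hz, h'⟩ : ∃ z ∈ Q, ∀ g ∈ Q, g ∈ A ∨ g * z ∈ A := by
    by_cases h : Q ≤ A
    · exact ⟨1, one_mem _, fun g hg => .inl (h hg)⟩
    · obtain ⟨z, hz, hz'⟩ := SetLike.not_le_iff_exists.1 h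
      exact ⟨z, hz, fun g _ => or_iff_not_imp_left.2 fun hg =>
        (mul_mem_iff_of_index_two a1).2 (iff_of_false hg hz')⟩
  refine (index_frattini_le_pow_card (f.pg.to_subgroup Q)
    (T := {⟨x, hx.1⟩, ⟨y, hy.1⟩, ⟨z, hz⟩}) (eq_top_iff.2 fun g _ => ?_)).trans
    (Nat.pow_le_pow_right two_pos Finset.card_le_three)
  rw [← mem_map_iff_mem Q.subtype_injective]
  set H := (closure (({⟨x, hx.1⟩, ⟨y, hy.1⟩, ⟨z, hz⟩} : Finset Q) : Set Q)).map Q.subtype
  have h1 : Q ⊓ A ≤ H := h.trans (sup_le (zpowers_le.2 ⟨⟨x, hx.1⟩, subset_closure (by simp), rfl⟩)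
    (zpowers_le.2 ⟨⟨y, hy.1⟩, subset_closure (by simp), rfl⟩))
  have h2 : z ∈ H := ⟨⟨z, hz⟩, subset_closure (by simp), rfl⟩
  rcases h' g g.2 with e | e
  · exact h1 ⟨g.2, e⟩
  · exact (mul_mem_cancel_right h2).1 (h1 ⟨mul_mem g.2 hz, e⟩)

namespace Dat

variable (d : Dat D a b t l)
include d

theorem isPGroup_aut : IsPGroup 2 (MulAut P) := by
  have : Fact (Nat.Prime 2) := ⟨Nat.prime_two⟩
  have := finite_mulAut' (E := P)
  refine (isPGroup_of_forall_coprime_eq_one (H := ⊤) fun β _ hβ => by_contra fun h1 => ?_).of_equiv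
    topEquiv
  let X : Subgroup P := subgroupOfFinite {g | g * g ∈ commutator P} (by simp) fun g h hg hh => by
    have := mul_mem (mul_mem (Normal.conj_mem inferInstance _
      (commutator_mem_commutator (mem_top h) (mem_top g)) g) hg) hh
    rwa [show g * ⁅h, g⁆ * g⁻¹ * (g * g) * (h * h) = g * h * (g * h) by
      rw [commutatorElement_def]; group] at this
  rcases irr_of_odd d.pg (index_frattini_eq_sq d.pg (fun h => d.nm (meta_of_comm_mem d.gen (by
      rw [commutatorElement_eq_one_iff_mul_comm.2 (h.commGroup.mul_comm a b)]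
      exact one_mem _))) d.gen).le hβ h1 X (fun α _ g hg =>
      show α g * α g ∈ commutator P from map_mul α g g ▸
        (AInv.of_char (A := ⊤) (commutator P)) α trivial _ hg) with h | h
  · exact d.nm (meta_of_comm_mem d.gen ((frattini_nongenerating (eq_top_of_gen d.gen
      (mem_sup_left (mem_zpowers a)) (mem_sup_right (h (LL_le d.bsq))))).ge trivial))
  · exact d.sq_not_mem (h.ge (mem_top a))

theorem not_essential (hn : ∀ w, D.ρ a t - t ≠ (2 : ℤ) • w) {F : FusionSystem (⊤ : Subgroup P)}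
    (hF : F.IsSaturated 2) : ¬ F.IsEssential 2 Q := fun hQ => by
  have : Fact (Nat.Prime 2) := ⟨Nat.prime_two⟩
  have hS := d.pg.to_subgroup ⊤
  have hR := radIn_of_essential hS hQ
  have hlt := lt_of_isEssential hS hF hQ
  have rad := fun s hs hs' => hR.rad hS le_rfl le_top (mem_top s) hs hs'
  obtain ⟨N, n1, n2⟩ := exists_index_two d.pg hlt.ne
  by_cases hb : b ∈ N
  · refine d.no_ess hn n1 hb n2 (fun g hg => hR.mem_of_commute trivial hg) (fun g hg h hh h1 h2 => ?_)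
      (F := (frattini Q).map Q.subtype)
      (fun g hg => ⟨_, pow_mem_frattini (d.pg.to_subgroup Q) ⟨g, hg⟩, pow_two g⟩) fun s hs hs' => ?_
    · have h3 := R3.card_normalizerIn_of_rank_le hS hF hQ (d.index_frattini_le Q)
      exact (mul_mem_iff_of_index_two (PG.relIndex_eq_of_card_eq_mul (le_normalizerIn le_top) h3)
        (a := ⟨g, trivial, hg⟩) (b := ⟨h, trivial, hh⟩)).2 (iff_of_false h1 h2)
    · obtain ⟨α, q, h⟩ := exists_opp_frattini (rad s hs hs')
      refine ⟨α, q, q.2, _, autFun_coe α (q⁻¹ * conjAut Q s hs q), fun h' => h ?_⟩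
      exact (mem_map_iff_mem Q.subtype_injective).1 h'
  obtain ⟨s, -, hs, hs'⟩ := exists_mem_normalizer_of_lt hS hlt
  obtain ⟨rfl, n, ⟨e⟩⟩ := radical_cases d.pg d.nm n1 (d.mc N n1 hb) n2
    (fun g hg => hR.mem_of_centralizes trivial hg)
    (fun h => (rad s hs hs').not_mem (le_pCoreIn le_rfl (h.to_subgroup _)
      (fun _ h1 _ h2 => mul_mem (mul_mem h1 h2) (inv_mem h1)) (rad s hs hs').mem))
    fun _ s hs h => by_contra fun hs' => (rad s hs hs').not_triv_frattini fun u _ => by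
      obtain ⟨w, hw, e⟩ := h u u.2
      have := pow_mem_frattini (d.pg.to_subgroup Q) ⟨w, hw⟩
      rwa [show (⟨w, hw⟩ : Q) ^ 2 = u⁻¹ * conjAut Q s hs u from
        Subtype.ext ((pow_two w).trans e.symm)] at this
  have hc : ∀ g ∈ Q, D.ρ g t = t := fun g hg => D.ρ_eq (congrArg Subtype.val (e.injective
    (show e (⟨g, hg⟩ * ⟨_, le_of_index_two n1 (D.mem t)⟩) =
      e (⟨_, le_of_index_two n1 (D.mem t)⟩ * ⟨g, hg⟩) by rw [map_mul, map_mul, mul_comm])))
  by_cases ha : a ∈ Q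
  · exact hn 0 (by rw [hc a ha]; simp)
  · obtain ⟨k, hk⟩ := d.ρ_b
    have := hc _ ((mul_mem_iff_of_index_two n1).2 (iff_of_false ha hb))
    rw [D.ρ_mul, hk, map_add, map_neg, map_zsmul] at this
    exact hn (k • D.ρ a (D.ρ a t - t) - t) (by linear_combination (norm := module) -this)

end Dat

open scoped IsMulCommutative in
theorem exists_noninner_iff (hP : IsPGroup 2 P) {x y : P} (hb : ∀ g, ∃ i j : ℤ, g = x ^ i * y ^ j)
    (hm : ¬ IsMetacyclic P) : (∃ F : FusionSystem (⊤ : Subgroup P), F.IsSaturated 2 ∧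
      ¬ ∀ R, F.Hom R = (innerFusionSystem ⊤).Hom R) ↔ IsCyclic (commutator P) := by
  have : Fact (Nat.Prime 2) := ⟨Nat.prime_two⟩
  have := comm_of_bic hb
  obtain ⟨D⟩ := exists_co (P := P)
  obtain ⟨b, f⟩ := exists_fr hP hm hb
  obtain ⟨t, l, d⟩ := f.exists_dat D
  refine ⟨fun ⟨F, h1, h2⟩ => by_contra fun hc => h2 (hom_eq_inner (hP.to_subgroup ⊤) h1
    (isNormal_top_of_no_essential (hP.to_subgroup ⊤) h1 fun _ =>
      d.not_essential (fun _ h => hc (d.cyclic_of h)) h1)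
    ((d.isPGroup_aut.of_equiv (MulAut.congr topEquiv.symm)).to_subgroup _)), fun hc => ?_⟩
  obtain ⟨_, _, _, _, q⟩ := d.exists_hf hc
  exact q.exists_fusion hP

end Cfsg.Lib.Fus.Bic
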