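import Cfsg.Agent.Fus.BicCyc

/-!
# Bicyclic 2-groups whose derived subgroup is not cyclic
-/

set_option autoImplicit false

namespace Cfsg.Lib.Fus.Bic

open Subgroup Cfsg.Lib.Solv Cfsg.Lib.Rank2.Bic
open scoped commutatorElement

variable {P V : Type*} [Group P] [AddCommGroup V] {a b g g' h φ y : P} {v w t l : V}
  {X Y : AddSubgroup V} {M Q F : Subgroup P} {k : ℕ}

variable (V) in
/-- The elements killed by `2 ^ k`. -/
def Om (k : ℕ) : AddSubgroup V := (zsmulAddGroupHom (2 ^ k)).ker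

theorem mem_Om : v ∈ Om V k ↔ (2 ^ k : ℤ) • v = 0 := Iff.rfl

theorem mem_Om_one : v ∈ Om V 1 ↔ (2 : ℤ) • v = 0 := by rw [mem_Om, pow_one]

/-- The doubles of the elements of `X`. -/
def Sq (X : AddSubgroup V) : AddSubgroup V := X.map (zsmulAddGroupHom 2)

theorem mem_Sq : v ∈ Sq X ↔ ∃ w ∈ X, (2 : ℤ) • w = v := Iff.rfl

theorem Sq_le : Sq X ≤ X := fun _ ⟨_, h, e⟩ => e ▸ zsmul_mem h 2

theorem two_mem_Om (h : v ∈ Om V (k + 1)) : (2 : ℤ) • v ∈ Om V k := by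
  rwa [mem_Om, smul_smul, ← pow_succ]

theorem Om_mono {j : ℕ} (h : j ≤ k) : Om V j ≤ Om V k := fun v hv => by
  obtain ⟨i, rfl⟩ := Nat.exists_eq_add_of_le' h
  rw [mem_Om] at hv ⊢
  rw [pow_add, mul_smul, hv, smul_zero]

theorem card_eq_mul (h : Om V 1 ≤ X) : Nat.card X = Nat.card (Sq X) * Nat.card (Om V 1) := by
  have := ((zsmulAddGroupHom (α := V) 2).domRestrict X).ker.index_mul_card
  rw [AddSubgroup.index_ker, AddMonoidHom.domRestrict_range, AddMonoidHom.ker_domRestrict] at this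
  rw [← this, ← Nat.card_congr (AddSubgroup.addSubgroupOfEquivOfLe h).toEquiv]
  rfl

theorem two_mul_card_le [Finite V] (h : X < Y) : 2 * Nat.card X ≤ Nat.card Y := by
  obtain ⟨n, hn⟩ := AddSubgroup.card_dvd_of_le h.le
  have h1 : 0 < Nat.card Y := Nat.card_pos
  rcases n with _ | _ | n
  · omega
  · exact (h.ne (AddSubgroup.eq_of_le_of_card_ge h.le (by omega))).elim
  · rw [hn]; nlinarith

theorem card_le_two_mul [Finite V] (h : Y ≤ X) (hv : v ∈ X) (h' : ∀ p ∈ X, p ∈ Y ∨ p - v ∈ Y) :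
    Nat.card X ≤ 2 * Nat.card Y := by
  have h1 := (Y.addSubgroupOf X).index_mul_card
  rw [Nat.card_congr (AddSubgroup.addSubgroupOfEquivOfLe h).toEquiv] at h1
  rw [← h1]
  refine Nat.mul_le_mul_right _ ((Nat.card_le_card_of_surjective (β := X ⧸ Y.addSubgroupOf X)
    (fun i : Bool => if i then 0 else (⟨v, hv⟩ : X)) fun p => ?_).trans_eq (by simp))
  obtain ⟨p, rfl⟩ := QuotientAddGroup.mk_surjective p
  rcases h' p p.2 with e | e
  · exact ⟨true, ((QuotientAddGroup.eq_zero_iff p).2 e).symm⟩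
  · exact ⟨false, QuotientAddGroup.eq.2 (by
      rw [AddSubgroup.mem_addSubgroupOf]; simpa [neg_add_eq_sub] using e)⟩

theorem Co.ρ_Om (D : Co P V) (g : P) (v : V) (h : v ∈ Om V k) : D.ρ g v ∈ Om V k := by
  rw [mem_Om] at h ⊢
  rw [← map_zsmul, h, map_zero]

theorem Co.exists_Om [Finite P] (D : Co P V) (hP : IsPGroup 2 P) : ∃ n, ∀ v, v ∈ Om V n := by
  have : Fact (Nat.Prime 2) := ⟨Nat.prime_two⟩
  obtain ⟨n, hn⟩ := IsPGroup.iff_card.1 hP
  refine ⟨n, fun v => mem_Om.2 (D.ι_eq_one.1 ?_)⟩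
  rw [D.ι_zsmul]
  exact_mod_cast hn ▸ pow_card_eq_one'

variable [Finite P] {D : Co P V}

namespace Dat

variable (d : Dat D a b t l)
include d

theorem cyclic_of (h : D.ρ a t - t = (2 : ℤ) • w) : IsCyclic (commutator P) := by
  have h1 : ∀ n : ℕ, ∀ v, ∃ i : ℤ, ∃ w, v = i • t + (2 ^ n : ℤ) • w := fun n => by
    induction n with
    | zero => exact fun v => ⟨0, v, by simp⟩
    | succ n ih =>
      intro v
      obtain ⟨i, w', rfl⟩ := ih v
      obtain ⟨j, m, rfl⟩ := d.span_two w'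
      exact ⟨i + 2 ^ n * j, m • w, by rw [h, pow_succ]; module⟩
  obtain ⟨n, hn⟩ := D.exists_Om d.pg
  refine isCyclic_of_le (H' := zpowers (D.ι t)) fun x hx => ?_
  obtain ⟨v, rfl⟩ := (D.range x).1 hx
  obtain ⟨i, w, rfl⟩ := h1 n v
  rw [mem_Om.1 (hn w), add_zero, D.ι_zsmul]
  exact ⟨i, rfl⟩

theorem diff (hX : ∀ g, ∀ v ∈ X, D.ρ g v ∈ X) (hM : M.index = 2) (hb : b ∈ M) (hg : g ∈ M)
    (hv : v ∈ X) : ∃ w ∈ X, D.ρ g v = v + (2 : ℤ) • w := by
  rcases d.mem_M hM hb hg with h | ⟨φ, h, rfl⟩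
  · obtain ⟨e, he⟩ := d.ρ_Phi h
    exact ⟨_, zsmul_mem (sub_mem (hX a v hv) hv) e, by rw [he]; module⟩
  · obtain ⟨e, he⟩ := d.ρ_Phi_b h
    exact ⟨_, sub_mem (zsmul_mem (sub_mem (hX a v hv) hv) e) hv, by rw [he]; module⟩

theorem delta_inj (e : ℤ) (h : v - e • (D.ρ a v - v) = 0) : v = 0 := by
  obtain ⟨κ, hκ⟩ := d.exists_κ
  have h1 := congrArg (D.ρ a) h
  rw [map_sub, map_zsmul, map_zero] at h1
  have h2 := D.eq_zero_of_odd d.pg (v := D.ρ a v - v) (odd_two_mul_add_one (-e * κ))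
    (by linear_combination (norm := module) h1 - h + e • hκ v)
  rwa [h2, smul_zero, sub_zero] at h

theorem fix (hφ : φ ∈ Phi a) (h : D.ρ (φ * b) v = v) : v ∈ Om V 1 := by
  obtain ⟨e, he⟩ := d.ρ_Phi_b hφ
  rw [he] at h
  refine mem_Om_one.2 (d.delta_inj e ?_)
  rw [map_zsmul]
  linear_combination (norm := module) -h

theorem surj (hX : ∀ g, ∀ v ∈ X, D.ρ g v ∈ X) (hφ : φ ∈ Phi a) (hw : w ∈ X) :
    ∃ v ∈ X, D.ι v * (φ * b) * (D.ι v)⁻¹ = D.ι ((2 : ℤ) • w) * (φ * b) := by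
  obtain ⟨e, he⟩ := d.ρ_Phi_b hφ
  have := D.finite
  obtain ⟨v, hv⟩ := (Finite.injective_iff_surjective (f := fun v : X =>
    (⟨v - e • (D.ρ a v - v), sub_mem v.2 (zsmul_mem (sub_mem (hX a _ v.2) v.2) e)⟩ : X))).1
    (fun v v' h => Subtype.ext (sub_eq_zero.1 (d.delta_inj e (by
      have h' : (v : V) - e • (D.ρ a v - v) = v' - e • (D.ρ a v' - v') := congrArg Subtype.val h
      rw [map_sub]
      linear_combination (norm := module) h')))) ⟨w, hw⟩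
  have h' : (v : V) - e • (D.ρ a v - v) = w := congrArg Subtype.val hv
  refine ⟨v, v.2, ?_⟩
  rw [← mul_inv_eq_iff_eq_mul, ← D.ι_comm', he, ← h']
  congr 1
  module

theorem conj_a (hφ : φ ∈ Phi a) :
    ∃ j : ℤ, a * (φ * b) * a⁻¹ = D.ι (t + j • (D.ρ a t - t)) * (φ * b) := by
  obtain ⟨e, he⟩ := d.ρ_Phi hφ
  obtain ⟨p, hp, m, rfl⟩ := (mem_sup_iff' le_rfl).1 hφ
  obtain ⟨v, rfl⟩ := (D.range p).1 hp
  obtain ⟨n, hn⟩ := d.u_mem v
  refine ⟨n + 2 * e, ?_⟩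
  rw [show t + (n + 2 * e) • (D.ρ a t - t) = (D.ρ a v - v) + D.ρ (D.ι v * (a * a) ^ m) t by
    rw [he, hn]; module, D.ι_add, D.ι_comm, D.conj]
  calc _ = a * D.ι v * (a * a) ^ m * a⁻¹ * (a * b * a⁻¹) := by group
    _ = _ := by rw [d.ab, ← zpow_two, ← zpow_mul]; group

theorem conj_aa (hφ : φ ∈ Phi a) :
    ∃ w, a * a * (φ * b) * (a * a)⁻¹ = D.ι (D.ρ a t - t + (2 : ℤ) • w) * (φ * b) := by
  obtain ⟨j, hj⟩ := d.conj_a hφ
  obtain ⟨κ, hκ⟩ := d.exists_κ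
  refine ⟨t + (j + j * κ) • (D.ρ a t - t), ?_⟩
  rw [show D.ρ a t - t + (2 : ℤ) • (t + (j + j * κ) • (D.ρ a t - t)) =
      D.ρ a (t + j • (D.ρ a t - t)) + (t + j • (D.ρ a t - t)) by
    rw [map_add, map_zsmul]; linear_combination (norm := module) -j • hκ t, D.ι_add, D.conj,
    mul_assoc _ (D.ι _), ← hj]
  calc _ = a * (a * (φ * b) * a⁻¹) * a⁻¹ := by group
    _ = _ := by nth_rewrite 1 [hj]; group

theorem exists_conj (hφ : φ ∈ Phi a) (p : V) :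
    ∃ h, h * (φ * b) * h⁻¹ = D.ι p * (φ * b) := by
  have h1 : ∀ p w, (∃ h, h * (φ * b) * h⁻¹ = D.ι p * (φ * b)) →
      ∃ h, h * (φ * b) * h⁻¹ = D.ι (p + (2 : ℤ) • w) * (φ * b) := fun p w ⟨h, e⟩ => by
    obtain ⟨v, -, hv⟩ := d.surj (X := ⊤) (fun _ _ _ => trivial) hφ (AddSubgroup.mem_top w)
    refine ⟨D.ι v * h, ?_⟩
    rw [D.ι_add, mul_assoc (D.ι p), ← hv, ← mul_assoc, ← mul_assoc, ← mul_assoc, (D.comm p v).eq]
    calc _ = D.ι v * (h * (φ * b) * h⁻¹) * (D.ι v)⁻¹ := by group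
      _ = _ := by rw [e]; group
  obtain ⟨j, hj⟩ := d.conj_a hφ
  obtain ⟨w, hw⟩ := d.conj_aa hφ
  obtain ⟨κ, hκ⟩ := d.exists_κ
  obtain ⟨n, hn⟩ := d.u_mem w
  obtain ⟨i, m, rfl⟩ := d.span_two p
  rcases Int.even_or_odd' i with ⟨i, rfl | rfl⟩
  · rcases Int.even_or_odd' m with ⟨m, rfl | rfl⟩
    · convert h1 0 (i • t + m • (D.ρ a t - t)) ⟨1, by simp [D.ι_zero]⟩ using 5
      module
    · convert h1 _ (i • t + m • (D.ρ a t - t) - w) ⟨_, hw⟩ using 5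
      module
  · obtain ⟨m, rfl | rfl⟩ : ∃ k, m = 2 * k + j ∨ m = 2 * k + 1 + j :=
      (Int.even_or_odd' (m - j)).imp fun k h => by omega
    · convert h1 _ (i • t + m • (D.ρ a t - t)) ⟨_, hj⟩ using 5
      module
    · have h2 : a * (a * a) * (φ * b) * (a * (a * a))⁻¹ = D.ι (D.ρ a (D.ρ a t - t + (2 : ℤ) • w) +
          (t + j • (D.ρ a t - t))) * (φ * b) := by
        rw [D.ι_add, D.conj, mul_assoc _ (D.ι _), ← hj]
        calc _ = a * (a * a * (φ * b) * (a * a)⁻¹) * a⁻¹ := by group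
          _ = _ := by rw [hw]; group
      convert h1 _ (i • t + (m - κ - n) • (D.ρ a t - t) - w) ⟨_, h2⟩ using 5
      rw [map_add, map_zsmul]
      linear_combination (norm := module) -hκ t - (2 : ℤ) • hn

theorem ρ_E (hg : g ∈ Phi a) (hv : v ∈ Om V 1) : D.ρ g v = v := by
  obtain ⟨e, he⟩ := d.ρ_Phi hg
  have h1 := mem_Om.1 hv
  have h2 := mem_Om.1 (D.ρ_Om a v hv)
  rw [he]
  linear_combination (norm := module) e • h2 - e • h1

theorem cent_comm (hφ : φ ∈ Phi a) (h1 : Commute g (φ * b)) (h2 : Commute g' (φ * b)) :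
    Commute g g' := by
  have hN := Normal.of_commutator_le P (H := Phi a) le_sup_left
  have key : ∀ g, Commute g (φ * b) → ∃ x ∈ Phi a ⊓ centralizer {φ * b}, g = x ∨ g = x * (φ * b) := by
    intro g hg
    have hy := hg.mul_left (Commute.refl _).inv_left
    obtain ⟨ψ, hψ, rfl | rfl | rfl | rfl⟩ := d.normal_form g
    · exact ⟨_, ⟨hψ, mem_centralizer_singleton_iff.2 hg⟩, .inl rfl⟩
    · refine ⟨_, ⟨?_, mem_centralizer_singleton_iff.2 hy⟩, .inr (by group)⟩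
      simpa [mul_assoc] using mul_mem hψ (inv_mem hφ)
    · exact (d.not_commute hψ hφ hg).elim
    · refine (d.not_commute (mul_mem hψ (hN.conj_mem _ (inv_mem hφ) a)) hφ ?_).elim
      simpa [mul_assoc] using hy
  have hc := (((QuotientGroup.mk' (commutator P)).domRestrict
    (Phi a ⊓ centralizer {φ * b})).codRestrict (zpowers (QuotientGroup.mk' _ (a * a))) fun x => by
      obtain ⟨p, hp, m, e⟩ := (mem_sup_iff' le_rfl).1 x.2.1
      refine ⟨m, ?_⟩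
      simp only [MonoidHom.domRestrict_apply, e, map_mul, map_zpow]
      rw [show QuotientGroup.mk' _ p = 1 from (QuotientGroup.eq_one_iff p).2 hp, one_mul]
    ).isMulCommutative_of_isCyclic_of_ker_le_center fun x hx => mem_center_iff.2 fun z => by
      obtain ⟨v, hv⟩ := (D.range x).1 ((QuotientGroup.eq_one_iff _).1 (congrArg Subtype.val hx))
      have h3 := d.fix hφ (D.ρ_eq (hv ▸ (mem_centralizer_singleton_iff.1 x.2.2).symm))
      exact Subtype.ext (by simpa [hv] using (D.commute (d.ρ_E z.2.1 h3)).eq)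
  obtain ⟨x, hx, e⟩ := key g h1
  obtain ⟨x', hx', e'⟩ := key g' h2
  have c1 : Commute x x' := congrArg Subtype.val (hc.is_comm.comm ⟨x, hx⟩ ⟨x', hx'⟩)
  have c2 : Commute x (φ * b) := mem_centralizer_singleton_iff.1 hx.2
  have c3 : Commute x' (φ * b) := mem_centralizer_singleton_iff.1 hx'.2
  rcases e with rfl | rfl <;> rcases e' with rfl | rfl
  exacts [c1, c1.mul_right c2, c1.mul_left c3.symm, (c1.mul_left c3.symm).mul_right h1]

theorem four_le (hn : ∀ w, D.ρ a t - t ≠ (2 : ℤ) • w) : 4 ≤ Nat.card (Om V 1) := by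
  have := D.finite
  have h1 := card_eq_mul (X := (⊤ : AddSubgroup V)) le_top
  have h2 := two_mul_card_le (X := Sq ⊤) (Y := Sq ⊤ ⊔ AddSubgroup.zmultiples (D.ρ a t - t))
    (left_lt_sup.2 fun h => by
      obtain ⟨w, -, e⟩ := h (AddSubgroup.mem_zmultiples _)
      exact hn w e.symm)
  have h3 := two_mul_card_le (X := Sq ⊤ ⊔ AddSubgroup.zmultiples (D.ρ a t - t)) (Y := ⊤)
    (lt_top_iff_ne_top.2 fun h => by
      obtain ⟨_, ⟨w, -, rfl⟩, _, ⟨i, rfl⟩, e⟩ := AddSubgroup.mem_sup.1 (h.ge (AddSubgroup.mem_top t))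
      exact d.t_ne w i e.symm)
  have h4 : 0 < Nat.card (Sq (⊤ : AddSubgroup V)) := Nat.card_pos
  nlinarith

theorem invol_mem (hn : ∀ w, D.ρ a t - t ≠ (2 : ℤ) • w) (hy : y ∈ Phi a) (h2 : y * y = 1) :
    y ∈ D.toP (Om V 1) := by
  obtain ⟨A, a1, a2, a3⟩ := d.exists_A
  have := D.normal_toP (X := Om V 1) D.ρ_Om
  have h1 := card_le_four (d.mc A a1 a3) (E := D.toP (Om V 1) ⊔ zpowers y) (fun e he => by
    obtain ⟨p, hp, _, ⟨i, rfl⟩, rfl⟩ := mem_sup_of_normal_left.1 he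
    obtain ⟨v, hv, rfl⟩ := D.mem_toP.1 hp
    have h3 := ((D.commute (d.ρ_E hy hv)).zpow_left i).symm
    rw [← pow_two, h3.mul_pow, pow_two, pow_two, ← D.ι_two, D.ι_eq_one.2 (mem_Om_one.1 hv), one_mul,
      ← (Commute.refl y).mul_zpow, h2, one_zpow])
    (sup_le (fun x hx => by
      obtain ⟨v, -, rfl⟩ := D.mem_toP.1 hx
      exact le_of_index_two a1 (D.mem v)) (zpowers_le.2 (Phi_le a1 hy)))
  exact (eq_of_le_of_card_ge le_sup_left (h1.trans (D.card_toP _ ▸ d.four_le hn))).ge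
    (mem_sup_right (mem_zpowers y))

theorem diff_Phi (hn : ∀ w, D.ρ a t - t ≠ (2 : ℤ) • w) (hy : y ∈ Phi a) (h2 : y ^ 2 ^ (k + 1) = 1)
    (w : V) : D.ρ y w - w ∈ Sq (Om V (k + 1)) := by
  obtain ⟨e, he⟩ := d.ρ_Phi hy
  obtain ⟨κ, hκ⟩ := d.exists_κ
  have h1 : ∀ j : ℕ, ∃ o : ℤ, ∀ v, D.ρ (y ^ 2 ^ j) v =
      v + ((2 * o + 1) * (2 ^ (j + 1) * e)) • (D.ρ a v - v) := fun j => by
    induction j with
    | zero => exact ⟨0, fun v => by simp [he]⟩
    | succ j ih =>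
      obtain ⟨o, ho⟩ := ih
      refine ⟨o + (2 * o + 1) ^ 2 * 2 ^ j * e * κ, fun v => ?_⟩
      rw [pow_succ, pow_mul, pow_two, D.ρ_mul, ho, ho, map_add, map_zsmul]
      linear_combination (norm := module) ((2 * o + 1) * (2 ^ (j + 1) * e)) ^ 2 • hκ v
  obtain ⟨o, ho⟩ := h1 k
  obtain ⟨v, -, hv⟩ := D.mem_toP.1 (d.invol_mem hn (pow_mem hy (2 ^ k))
    (by rw [← pow_two, ← pow_mul, ← pow_succ, h2]))
  have h3 := ho w
  rw [← hv, D.ρ_ι, left_eq_add, mul_smul] at h3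
  exact ⟨e • (D.ρ a w - w), by
    rw [SetLike.mem_coe, mem_Om, smul_smul]
    exact D.eq_zero_of_odd d.pg (odd_two_mul_add_one o) h3, by
    rw [he]; simp only [zsmulAddGroupHom_apply]; module⟩

theorem conj_mem_Sq (hX : ∀ g, ∀ v ∈ X, D.ρ g v ∈ X) (hM : M.index = 2) (hb : b ∈ M) (hQ : Q ≤ M)
    (hXQ : ∀ v ∈ X, D.ι v ∈ Q) (α : MulAut Q) (hv : v ∈ X) (hφ : φ ∈ Phi a)
    (e : autFun α (D.ι v) = φ * b) (hg : g ∈ Q) :
    ∃ w ∈ X, g * (φ * b) * g⁻¹ = D.ι ((2 : ℤ) • w) * (φ * b) := by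
  have hZ : D.toP (Sq X) ≤ Q := fun x hx => by
    obtain ⟨w, hw, rfl⟩ := D.mem_toP.1 hx
    exact hXQ w (Sq_le hw)
  have m := mulOn_autFun α
  have key : ∀ g ∈ Q, g * (φ * b) * g⁻¹ * (φ * b)⁻¹ ∈ img (D.toP (Sq X)) (autFun α) := by
    intro g hg
    have h1 := autFun_mem α⁻¹ hg
    obtain ⟨w, hw, e'⟩ := d.diff hX hM hb (hQ h1) hv
    rw [← autFun_autFun_inv α hg, ← e, ← m.map_conj h1 (hXQ v hv), ← m.map_inv (hXQ v hv),
      ← m _ (mul_mem (mul_mem h1 (hXQ v hv)) (inv_mem h1)) _ (inv_mem (hXQ v hv)), ← D.ι_comm, e',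
      add_sub_cancel_left]
    exact mem_img_of_mem _ (D.ι_mem_toP.2 ⟨w, hw, rfl⟩)
  have h2 : D.toP (Sq X) = img (D.toP (Sq X)) (autFun α) := eq_of_le_of_card_ge (fun x hx => by
    obtain ⟨_, ⟨w, hw, rfl⟩, rfl⟩ := D.mem_toP.1 hx
    obtain ⟨v', hv', e'⟩ := d.surj hX hφ hw
    have := key _ (hXQ v' hv')
    rwa [e', mul_inv_cancel_right] at this)
    (card_img (m.mono hZ) ((injOn_autFun α).mono hZ)).le
  obtain ⟨_, ⟨w, hw, rfl⟩, e'⟩ := D.mem_toP.1 (h2.ge (key g hg))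
  exact ⟨w, hw, by rw [← mul_inv_eq_iff_eq_mul]; exact e'.symm⟩

/-- No subgroup of the maximal subgroup containing `b` is essential. -/
theorem no_ess (hn : ∀ w, D.ρ a t - t ≠ (2 : ℤ) • w) (hM : M.index = 2) (hb : b ∈ M) (hQ : Q ≤ M)
    (hC : ∀ g, (∀ x ∈ Q, Commute x g) → g ∈ Q)
    (hN : ∀ g ∈ normalizer (Q : Set P), ∀ h ∈ normalizer (Q : Set P), g ∉ Q → h ∉ Q → g * h ∈ Q)
    (hF : ∀ g ∈ Q, g * g ∈ F)
    (hr : ∀ s ∈ normalizer (Q : Set P), s ∉ Q → ∃ α : MulAut Q, ∃ q ∈ Q, ∃ y,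
      autFun α (q⁻¹ * (s * q * s⁻¹)) = y ∧ y⁻¹ * (s * y * s⁻¹) ∉ F) : False := by
  have ha : a ∉ M := fun h => by
    rw [eq_top_of_gen d.gen h hb, index_top] at hM
    omega
  by_cases hU : ∀ v, D.ι v ∈ Q
  · have : Q.Normal := Normal.of_commutator_le P fun x hx => by
      obtain ⟨v, rfl⟩ := (D.range x).1 hx
      exact hU v
    have hT : ∀ g, g ∈ normalizer (Q : Set P) := fun g => by rw [normalizer_eq_top]; trivial
    have haQ : a ∉ Q := fun h => ha (hQ h)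
    have h1 := hN a (hT a) a (hT a) haQ haQ
    have h2 : b ∈ Q := by_contra fun h =>
      ha ((mul_mem_cancel_right hb).1 (hQ (hN a (hT a) b (hT b) haQ h)))
    have h3 : D.ι (D.ρ a t - t) ∈ F := by
      obtain ⟨w, e⟩ := d.conj_aa (one_mem _)
      have := PG.commutator_le_of_sq_mem (fun x hx => pow_two x ▸ hF x hx)
        (commutator_mem_commutator h1 h2)
      rw [one_mul] at e
      rwa [commutatorElement_def, e, mul_inv_cancel_right, D.ι_add, D.ι_two,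
        mul_mem_cancel_right (hF _ (hU w))] at this
    obtain ⟨α, q, hq, y, ey, hy⟩ := hr a (hT a) haQ
    obtain ⟨v, hv⟩ := (D.range ⁅q⁻¹, a⁆).1 (commutator_mem_commutator trivial trivial)
    rw [show q⁻¹ * (a * q * a⁻¹) = D.ι v by rw [hv, commutatorElement_def]; group] at ey
    rcases d.mem_M hM hb (hQ (ey ▸ autFun_mem α (hU v))) with h | ⟨φ, hφ, rfl⟩
    · obtain ⟨p, hp, m, rfl⟩ := (mem_sup_iff' le_rfl).1 h
      obtain ⟨w, rfl⟩ := (D.range p).1 hp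
      obtain ⟨n, hn⟩ := d.u_mem w
      obtain ⟨n', hn'⟩ := d.ρ_c ((a * a) ^ m)⁻¹
      refine hy ?_
      have := zpow_mem (zpow_mem h3 n') n
      rw [← D.ι_zsmul, ← D.ι_zsmul, ← hn', ← map_zsmul, ← hn, D.conj, ← neg_add_eq_sub, D.ι_add,
        D.ι_neg, D.conj] at this
      convert this using 1
      rw [← zpow_two, ← zpow_mul]; group
    · obtain ⟨w, -, e⟩ := d.conj_mem_Sq (X := ⊤) (fun _ _ _ => trivial) hM hb hQ (fun v _ => hU v) α
        trivial hφ ey h1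
      obtain ⟨w', e'⟩ := d.conj_aa hφ
      rw [e', mul_left_inj, D.inj.eq_iff] at e
      exact hn (w - w') (by linear_combination (norm := module) e)
  obtain ⟨k, h1, h2⟩ : ∃ k, (∀ v ∈ Om V (k + 1), D.ι v ∈ Q) ∧ ¬ ∀ v ∈ Om V (k + 2), D.ι v ∈ Q := by
    by_contra! h
    obtain ⟨n, hn'⟩ := D.exists_Om d.pg
    have : ∀ k, ∀ v ∈ Om V (k + 1), D.ι v ∈ Q := fun k => by
      induction k with
      | zero =>
        refine fun v hv => hC _ fun x hx => D.commute ?_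
        obtain ⟨w, hw, e⟩ := d.diff D.ρ_Om hM hb (hQ hx) hv
        rw [e, mem_Om_one.1 hw, add_zero]
      | succ k ih => exact h k ih
    exact hU fun v => this n v (Om_mono n.le_succ (hn' v))
  push Not at h2
  obtain ⟨w, hw, hs⟩ := h2
  have h3 : ∀ g ∈ M, D.ρ g w - w ∈ Om V (k + 1) := fun g hg => by
    obtain ⟨w', hw', e⟩ := d.diff D.ρ_Om hM hb hg hw
    rw [e, add_sub_cancel_left]
    exact two_mem_Om hw'
  have hsN : D.ι w ∈ normalizer (Q : Set P) := mem_normalizer_of_finite fun g hg => by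
    have := mul_mem (h1 _ (neg_mem (h3 g (hQ hg)))) hg
    rwa [neg_sub, D.ι_comm', inv_mul_cancel_right] at this
  have h4 : ∀ g, g⁻¹ * (D.ι w * g * (D.ι w)⁻¹) = D.ι (D.ρ g⁻¹ w - w) := fun g => by
    rw [D.ι_comm]; group
  obtain ⟨α, q, hq, y, ey, hy⟩ := hr _ hsN hs
  have h5 := h3 _ (inv_mem (hQ hq))
  rw [h4] at ey
  have hyQ : y ∈ Q := ey ▸ autFun_mem α (h1 _ h5)
  rcases d.mem_M hM hb (hQ hyQ) with h | ⟨φ, hφ, rfl⟩
  · obtain ⟨w', hw', e⟩ := d.diff_Phi hn (inv_mem h) (k := k) (by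
      rw [inv_pow, ← ey, ← (mulOn_autFun α).map_pow (h1 _ h5), ← D.ι_nsmul, D.ι_eq_one.2
        (by have := mem_Om.1 h5; exact_mod_cast this), (mulOn_autFun α).map_one, inv_one]) w
    rw [h4, ← e, zsmulAddGroupHom_apply, D.ι_two] at hy
    exact hy (hF _ (h1 _ hw'))
  have L := fun g => d.conj_mem_Sq (g := g) D.ρ_Om hM hb hQ h1 α h5 hφ ey
  have dec : ∀ p ∈ Om V (k + 1), ∀ g ∈ Q, ∃ v ∈ Om V (k + 1),
      Commute ((D.ι v)⁻¹ * g) (D.ι p * (φ * b)) := fun p hp g hg => by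
    obtain ⟨w1, hw1, e1⟩ := L g hg
    obtain ⟨w2, hw2, e2⟩ := d.diff D.ρ_Om hM hb (hQ hg) hp
    obtain ⟨v, hv, e3⟩ := d.surj D.ρ_Om (mul_mem (mem_sup_left (D.mem p)) hφ) (add_mem hw1 hw2)
    refine ⟨v, hv, commute_of_conj ?_⟩
    rw [← mul_assoc (D.ι p), e3, mul_assoc (D.ι p), ← mul_assoc (D.ι _) (D.ι p), ← D.ι_add,
      show (2 : ℤ) • (w1 + w2) + p = D.ρ g p + (2 : ℤ) • w1 by rw [e2]; module, D.ι_add,
      mul_assoc (D.ι _), ← e1, D.conj]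
    group
  have cent : ∀ g, Commute g (φ * b) → g ∈ Q := fun g hg => by
    by_contra hgQ
    have hgN : g ∈ normalizer (Q : Set P) := mem_normalizer_of_finite fun x hx => by
      obtain ⟨v, hv, e⟩ := dec 0 (zero_mem _) x hx
      rw [D.ι_zero, one_mul] at e
      have := mul_mem (h1 _ (D.ρ_Om g v hv)) (mul_mem (inv_mem (h1 v hv)) hx)
      rw [D.conj, ← (d.cent_comm hφ hg e).mul_inv_cancel] at this
      convert this using 1
      group
    obtain ⟨w1, hw1, e1⟩ := L _ (hN _ hsN g hgN hs hgQ)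
    refine hy ?_
    have := hF _ (mul_mem (mul_mem (inv_mem hyQ) (h1 _ hw1)) hyQ)
    rw [show D.ι w * g * (φ * b) * (D.ι w * g)⁻¹ = D.ι w * (g * (φ * b) * g⁻¹) * (D.ι w)⁻¹ by group,
      hg.mul_inv_cancel, D.ι_two] at e1
    rw [e1]
    convert this using 1
    group
  have h6 := neg_mem (h3 _ (hQ hyQ))
  have := D.finite
  have h7 := card_le_two_mul (Y := Sq (Om V (k + 1))) Sq_le h6 fun p hp => by
    obtain ⟨h, e⟩ := d.exists_conj hφ p
    have hhN : h⁻¹ ∈ normalizer (Q : Set P) := mem_normalizer_of_finite fun x hx => by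
      obtain ⟨v, hv, e'⟩ := dec p hp x hx
      have h8 : Commute (h⁻¹ * ((D.ι v)⁻¹ * x) * h) (φ * b) := by
        have := e'.conj h⁻¹
        rwa [← e, inv_inv, show h⁻¹ * (h * (φ * b) * h⁻¹) * h = φ * b by group] at this
      have := mul_mem (h1 _ (D.ρ_Om h⁻¹ v hv)) (cent _ h8)
      rw [D.conj] at this
      convert this using 1
      group
    by_cases hh : h ∈ Q
    · obtain ⟨w1, hw1, e1⟩ := L h hh
      rw [e, mul_left_inj, D.inj.eq_iff] at e1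
      exact .inl ⟨w1, hw1, e1.symm⟩
    · have h8 := hN h (inv_mem_iff.1 hhN) _ (inv_mem hsN) hh (by rwa [inv_mem_iff])
      obtain ⟨w1, hw1, e1⟩ := L _ h8
      obtain ⟨w2, hw2, e2⟩ := d.diff D.ρ_Om hM hb (hQ h8) h6
      refine .inr ⟨w1 + w2, add_mem hw1 hw2, D.inj (mul_right_cancel
        (b := D.ι (-(D.ρ (φ * b) w - w)) * (φ * b)) ?_)⟩
      rw [← mul_assoc (D.ι _) (D.ι _), ← mul_assoc (D.ι _) (D.ι _), ← D.ι_add, ← D.ι_add,
        sub_add_cancel, ← e,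
        show zsmulAddGroupHom 2 (w1 + w2) + -(D.ρ (φ * b) w - w) =
          D.ρ (h * (D.ι w)⁻¹) (-(D.ρ (φ * b) w - w)) + (2 : ℤ) • w1 by
          rw [e2, zsmulAddGroupHom_apply]; module, D.ι_add, mul_assoc (D.ι _), ← e1, D.conj, neg_sub,
        D.ι_comm']
      group
  have h8 := card_eq_mul (X := Om V (k + 1)) (Om_mono (by omega))
  have h9 := d.four_le hn
  have h10 : 0 < Nat.card (Sq (Om V (k + 1))) := Nat.card_pos
  nlinarith

end Dat

end Cfsg.Lib.Fus.Bic
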