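import Cfsg.Agent.Rank2.BicycFus
import Cfsg.Agent.Solv.MetacyclicTwo
import Cfsg.Agent.S0572

/-!
# Generators of a bicyclic 2-group that is not metacyclic
-/

set_option autoImplicit false

namespace Cfsg.Lib.Fus.Bic

open Subgroup Cfsg.Lib.Solv Cfsg.Lib.Rank2.Bic
open scoped commutatorElement

variable {P : Type*} [Group P] {a b g h x y : P}

theorem mem_of_odd_zpow (hP : IsPGroup 2 P) {H : Subgroup P} {i : ℤ} (hi : Odd i)
    (h : g ^ i ∈ H) : g ∈ H := by
  have : Fact (Nat.Prime 2) := ⟨Nat.prime_two⟩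
  obtain ⟨n, hn⟩ := IsPGroup.iff_orderOf.1 hP g
  refine zpowers_le.2 h (mem_zpowers_zpow_iff.2 ?_)
  rw [hn, Int.gcd_eq_natAbs, Int.natAbs_natCast]
  exact (Nat.coprime_two_right.2 (Int.natAbs_odd.2 hi)).pow_right n

theorem eq_top_of_gen (hg : closure {g, h} = ⊤) {H : Subgroup P} (h1 : g ∈ H) (h2 : h ∈ H) :
    H = ⊤ := eq_top_iff.2 (hg ▸ (closure_le _).2 (by rintro _ (rfl | rfl); exacts [h1, h2]))

theorem mem_closure_left : g ∈ closure {g, h} := subset_closure (.inl rfl)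
theorem mem_closure_right : h ∈ closure {g, h} := subset_closure (.inr rfl)

theorem commutator_le_of_gen (hg : closure {g, h} = ⊤) {D : Subgroup P} [D.Normal]
    (hc : ⁅g, h⁆ ∈ D) : commutator P ≤ D := by
  refine commutator_le_of_gens {g, h} hg.ge (fun _ _ => by rw [normalizer_eq_top]; trivial) ?_
  rintro _ (rfl | rfl) _ (rfl | rfl)
  · rw [commutatorElement_self]; exact one_mem _
  · exact hc
  · rw [← commutatorElement_inv]; exact inv_mem hc
  · rw [commutatorElement_self]; exact one_mem _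

theorem meta_of_comm_mem [Finite P] (hg : closure {g, h} = ⊤) (hc : ⁅g, h⁆ ∈ zpowers g) :
    IsMetacyclic P := by
  refine Meta.iff_gens.2 ⟨g, h, normalizer_eq_top_iff.1 (eq_top_of_gen hg
    (le_normalizer (mem_zpowers g)) (mem_Ns_zpowers ?_)), hg⟩
  have := mul_mem (inv_mem hc) (mem_zpowers g)
  rwa [show ⁅g, h⁆⁻¹ * g = h * g * h⁻¹ by rw [commutatorElement_def]; group] at this

theorem gen_of_bic (hb : ∀ g, ∃ i j : ℤ, g = x ^ i * y ^ j) : closure {x, y} = ⊤ :=
  eq_top_iff.2 fun g _ => by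
    obtain ⟨i, j, rfl⟩ := hb g
    exact mul_mem (zpow_mem mem_closure_left i) (zpow_mem mem_closure_right j)

theorem exists_invol_class_two [Finite P] (hP : IsPGroup 2 P) (hm : ¬ IsMetacyclic P)
    (hb : ∀ g, ∃ i j : ℤ, g = x ^ i * y ^ j) (h1 : ∀ g, Commute ⁅x, y⁆ g)
    (h2 : ⁅x, y⁆ * ⁅x, y⁆ = 1) :
    ∃ i j : ℤ, Odd i ∧ Odd j ∧ (x ^ i * y ^ j) * (x ^ i * y ^ j) = 1 := by
  set c := ⁅x, y⁆ with hc
  have hg := gen_of_bic hb
  have hN : (zpowers c).Normal := ⟨fun u ⟨k, hk⟩ g => by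
    rw [← hk, ((h1 g).zpow_left k).symm.mul_inv_cancel]; exact ⟨k, rfl⟩⟩
  have hD := commutator_le_of_gen hg (mem_zpowers c)
  have c1 : c ≠ 1 := fun e => hm (meta_of_comm_mem hg (by rw [← hc, e]; exact one_mem _))
  have key : ∀ i j : ℤ, (x ^ i * y ^ j) * (x ^ i * y ^ j) =
      c ^ (i * j) * (x ^ (2 * i) * y ^ (2 * j)) := fun i j => by
    have e := zpow_mul_zpow_comm (h1 x) (h1 y) (show x * y = c * y * x by
      rw [hc, commutatorElement_def]; group) i j
    have e' : y ^ j * x ^ i = c ^ (i * j) * (x ^ i * y ^ j) := by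
      rw [e, ← mul_assoc, ← mul_assoc, ← (Commute.refl c).mul_zpow, h2, one_zpow, one_mul]
    rw [mul_assoc, ← mul_assoc (y ^ j), e', ← mul_assoc, ← mul_assoc,
      ← ((h1 _).zpow_left _).eq]
    group
  have main : ∀ n : ℕ, ∀ i j : ℤ, i.natAbs + j.natAbs = n → ∀ k : ℕ, (x ^ i * y ^ j) ^ 2 ^ k = c →
      ∃ i j : ℤ, Odd i ∧ Odd j ∧ (x ^ i * y ^ j) * (x ^ i * y ^ j) = 1 := by
    intro n
    induction n using Nat.strong_induction_on with
    | _ n ih =>
    intro i j hn k hk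
    have hz : ∀ h, ⁅x ^ i * y ^ j, h⁆ ∈ zpowers (x ^ i * y ^ j) := fun h =>
      zpowers_le.2 (hk ▸ pow_mem (mem_zpowers _) _) (hD (commutator_mem_commutator trivial trivial))
    rcases Int.even_or_odd i with ⟨i, rfl⟩ | hi
    swap
    · exact (hm (meta_of_comm_mem (eq_top_of_gen hg (mem_of_odd_zpow hP hi
        ((mul_mem_cancel_right (zpow_mem mem_closure_right j)).1 mem_closure_left))
        mem_closure_right) (hz y))).elim
    rcases Int.even_or_odd j with ⟨j, rfl⟩ | hj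
    swap
    · exact (hm (meta_of_comm_mem (eq_top_of_gen hg mem_closure_right (mem_of_odd_zpow hP hj
        ((mul_mem_cancel_left (zpow_mem mem_closure_right _)).1 mem_closure_left))) (hz x))).elim
    rw [← two_mul, ← two_mul] at hk
    by_cases h3 : k = 0 ∧ Odd i ∧ Odd j
    · refine ⟨i, j, h3.2.1, h3.2.2, ?_⟩
      rw [h3.1, pow_zero, pow_one] at hk
      rw [key, hk, zpow_odd h2 (h3.2.1.mul h3.2.2), h2]
    refine ih _ ?_ i j rfl (k + 1) ?_
    · by_contra h4
      obtain ⟨rfl, rfl⟩ : i = 0 ∧ j = 0 := by omega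
      exact c1 (by simpa using hk.symm)
    · rw [pow_succ', pow_mul, pow_two, key, ((h1 _).zpow_left _).mul_pow, hk, ← zpow_natCast,
        ← zpow_mul, zpow_even h2, one_mul]
      rcases Nat.eq_zero_or_pos k with rfl | h4
      · refine Even.mul_right (Int.not_odd_iff_even.1 fun h5 => h3 ⟨rfl, Int.odd_mul.1 h5⟩) _
      · exact Even.mul_left (by simp [Int.even_pow, h4.ne']) _
  obtain ⟨i, j, e⟩ := hb c
  exact main _ i j rfl 0 (by simpa using e.symm)

variable (P) in
/-- The subgroup `Φ(P') [P', P]` when `P'` is abelian. -/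
def LL : Subgroup P :=
  normalClosure {x | ∃ p ∈ commutator P, x = p * p ∨ ∃ g, x = g * p * g⁻¹ * p⁻¹}

instance : (LL P).Normal := normalClosure_normal

theorem sq_mem_LL (hx : x ∈ commutator P) : x * x ∈ LL P := subset_normalClosure ⟨x, hx, .inl rfl⟩

theorem comm_mem_LL (hx : x ∈ commutator P) (g : P) : g * x * g⁻¹ * x⁻¹ ∈ LL P :=
  subset_normalClosure ⟨x, hx, .inr ⟨g, rfl⟩⟩

theorem LL_le_of {D : Subgroup P} [D.Normal] (h1 : ∀ x ∈ commutator P, x * x ∈ D)
    (h2 : ∀ x ∈ commutator P, ∀ g, g * x * g⁻¹ * x⁻¹ ∈ D) : LL P ≤ D :=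
  normalClosure_le_normal (by rintro _ ⟨p, hp, rfl | ⟨g, rfl⟩⟩; exacts [h1 p hp, h2 p hp g])

theorem LL_le : LL P ≤ commutator P :=
  LL_le_of (fun _ h => mul_mem h h) fun _ h g => mul_mem (Normal.conj_mem inferInstance _ h g) (inv_mem h)

theorem meta_of_quot [Finite P] (hP : IsPGroup 2 P) (h : IsMetacyclic (P ⧸ LL P)) :
    IsMetacyclic P := by
  have : Fact (Nat.Prime 2) := ⟨Nat.prime_two⟩
  refine PG.isMetacyclic_of_quotient hP _ (LL_le_of (fun x hx => mem_sup_left
    ⟨_, pow_mem_frattini (hP.to_subgroup _) ⟨x, hx⟩, pow_two x⟩) fun x hx g => mem_sup_right ?_) h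
  rw [Subgroup.commutator_comm]
  exact commutator_mem_commutator trivial hx

theorem gen_map {Q : Type*} [Group Q] (f : P →* Q) (hf : Function.Surjective f)
    (hg : closure {g, h} = ⊤) : closure {f g, f h} = ⊤ := by
  rw [← Set.image_pair, ← MonoidHom.map_closure, hg, map_top_of_surjective f hf]

/-- Blackburn's criterion. -/
theorem comm_not_mem [Finite P] (hP : IsPGroup 2 P) (hm : ¬ IsMetacyclic P)
    (hg : closure {g, h} = ⊤) : ⁅g, h⁆ ∉ zpowers g ⊔ LL P := fun hc => by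
  refine hm (meta_of_quot hP (meta_of_comm_mem
    (gen_map (QuotientGroup.mk' _) (QuotientGroup.mk'_surjective _) hg) ?_))
  rw [← map_commutatorElement, ← MonoidHom.map_zpowers, ← mem_comap, comap_map_eq,
    QuotientGroup.ker_mk']
  exact hc

/-- Generators `a`, `b` of a bicyclic 2-group that is not metacyclic. -/
structure Fr (a b : P) : Prop where
  pg : IsPGroup 2 P
  nm : ¬ IsMetacyclic P
  gen : closure {a, b} = ⊤
  bsq : b * b ∈ LL P
  mc : ∀ N : Subgroup P, N.index = 2 → b ∉ N → IsMetacyclic N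

theorem exists_fr [Finite P] (hP : IsPGroup 2 P) (hm : ¬ IsMetacyclic P)
    (hb : ∀ g, ∃ i j : ℤ, g = x ^ i * y ^ j) : ∃ b, Fr x b := by
  let π := QuotientGroup.mk' (LL P)
  have hπ : Function.Surjective π := QuotientGroup.mk'_surjective _
  have hc : ⁅x, y⁆ ∈ commutator P := commutator_mem_commutator trivial trivial
  obtain ⟨i, j, hi, hj, e⟩ := exists_invol_class_two (x := π x) (y := π y) (hP.to_quotient _)
    (fun h => hm (meta_of_quot hP h)) (fun g => by
      obtain ⟨g, rfl⟩ := hπ g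
      obtain ⟨i, j, rfl⟩ := hb g
      exact ⟨i, j, by simp only [map_mul, map_zpow]⟩) (fun g => by
      obtain ⟨g, rfl⟩ := hπ g
      have := (QuotientGroup.eq_one_iff _).2 (comm_mem_LL hc g)
      rw [← map_commutatorElement]
      exact (commutatorElement_eq_one_iff_commute.1 this).symm)
    (by rw [← map_commutatorElement, ← map_mul]; exact (QuotientGroup.eq_one_iff _).2 (sq_mem_LL hc))
  refine ⟨x ^ i * y ^ j, hP, hm, eq_top_of_gen (gen_of_bic hb) mem_closure_left (mem_of_odd_zpow hP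
    hj ((mul_mem_cancel_left (zpow_mem mem_closure_left _)).1 mem_closure_right)),
    (QuotientGroup.eq_one_iff _).1 (by simpa [π] using e), fun N hN h => ?_⟩
  by_cases hx : x ∈ N
  · exact meta_of_index_two hP hb hN hx
  refine meta_of_index_two hP (bicyclic_symm hb) hN (by_contra fun hy => h ?_)
  exact (mul_mem_iff_of_index_two hN).2 (iff_of_false
    (fun h' => Int.not_even_iff_odd.2 hi ((zpow_mem_iff hN hx i).1 h'))
    fun h' => Int.not_even_iff_odd.2 hj ((zpow_mem_iff hN hy j).1 h'))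

theorem comm_of_bic (hb : ∀ g, ∃ i j : ℤ, g = x ^ i * y ^ j) : IsMulCommutative (commutator P) := by
  have := Agent.S0572.result (zpowers x) (zpowers y) fun g => by
    obtain ⟨i, j, rfl⟩ := hb g
    exact ⟨_, ⟨i, rfl⟩, _, ⟨j, rfl⟩, rfl⟩
  refine ⟨⟨fun p q => Subtype.ext (commutatorElement_eq_one_iff_mul_comm.1 ?_)⟩⟩
  exact this.le (commutator_mem_commutator p.2 q.2)

end Cfsg.Lib.Fus.Bic
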