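import Cfsg.Agent.Fus.EssSuper
import Cfsg.Agent.Solv.CyclicP
import Cfsg.Agent.Solv.PConstrained

/-! `p'`-groups of automorphisms of abelian `p`-groups with distinct invariants. -/

namespace Cfsg.Lib.Fus.Ess

open Cfsg Subgroup Cfsg.Lib.Solv
open scoped commutatorElement

variable {E E' : Type*} [Group E] [Group E'] {p : ℕ}

/-- Every `p'`-group of automorphisms of `E` is abelian of exponent dividing `p - 1`. -/
def AutTor (p : ℕ) (E : Type*) [Group E] : Prop :=
  ∀ H : Subgroup (MulAut E), (Nat.card H).Coprime p → IsMulCommutative H ∧ ∀ h ∈ H, h ^ (p - 1) = 1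

theorem AutTor.of_injective (h : AutTor p E) (θ : MulAut E' →* MulAut E)
    (hθ : Function.Injective θ) : AutTor p E' := fun H hH => by
  obtain ⟨h1, h2⟩ := h (H.map θ) (by rwa [card_map_of_injective hθ])
  refine ⟨⟨⟨fun a b => Subtype.ext (hθ ?_)⟩⟩, fun a ha => hθ ?_⟩
  · simpa using congrArg Subtype.val (h1.1.1 ⟨_, mem_map_of_mem θ a.2⟩ ⟨_, mem_map_of_mem θ b.2⟩)
  · rw [map_pow, map_one]; exact h2 _ (mem_map_of_mem θ ha)

theorem AutTor.of_equiv (h : AutTor p E) (e : E' ≃* E) : AutTor p E' :=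
  h.of_injective (MulAut.congr e).toMonoidHom (MulAut.congr e).injective

theorem AutTor.of_prod (h : AutTor p (E × E')) : AutTor p E :=
  h.of_injective (MonoidHom.mk' (fun α => MulEquiv.prodCongr α (MulEquiv.refl E'))
    fun _ _ => rfl) fun _ _ e => MulEquiv.ext fun x => congrArg Prod.fst (DFunLike.congr_fun e (x, 1))

variable [hp : Fact p.Prime]

theorem AutTor.isPGroup [Finite E] (h : AutTor 2 E) (A : Subgroup (MulAut E)) : IsPGroup 2 A := by
  have : Fact (Nat.Prime 2) := ⟨Nat.prime_two⟩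
  exact isPGroup_of_forall_coprime_eq_one fun x _ hx => by
    simpa using (h (zpowers x) (by rwa [Nat.card_zpowers])).2 x (mem_zpowers x)

theorem comm_of_chain' [Finite E] {A : Subgroup (MulAut E)} (hE : IsPGroup p E)
    (hA : (Nat.card A).Coprime p) {m : ℕ}
    {c : Fin (m + 1) → Subgroup E} (h0 : c 0 ≤ frattini E) (h1 : c (Fin.last m) = ⊤)
    (h2 : ∀ i, AInv A (c i))
    (hn : ∀ i, (c i).Normal) (h3 : ∀ i : Fin m, ∃ x, c i.succ = c i.castSucc ⊔ zpowers x) :
    IsMulCommutative A ∧ ∀ h ∈ A, h ^ (p - 1) = 1 := by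
  have hco : ∀ β : A, (orderOf β).Coprime p := fun β => hA.coprime_dvd_left (orderOf_dvd_natCard β)
  have key : ∀ β : A, (∀ i : Fin m, secHom (h2 i.succ) (h2 i.castSucc) β = 1) → β = 1 :=
    fun β h => by
      have := ptr_chain_fin hE β.2 c h2 fun i => ptr_of_triv (h2 _) (h2 _) β.2
        ((secHom_eq_one_iff _ _ β).1 (h i))
      rw [h1] at this
      exact Subtype.ext (eq_one_of_coprime_of_isPGroup (isPGroup_pCoreIn A)
        ((this.mono le_rfl h0).of_frattini hE).mem_pCoreIn (orderOf_coe β ▸ hco β))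
  refine ⟨⟨⟨fun a b => commutatorElement_eq_one_iff_mul_comm.1 (key _ fun i => ?_)⟩⟩,
    fun h hh => congrArg Subtype.val (key (⟨h, hh⟩ ^ (p - 1)) fun i => ?_)⟩ <;>
  obtain ⟨x, hx⟩ := h3 i <;> have hc := isCyclic_sec hx
  · rw [map_commutatorElement, commutatorElement_eq_one_iff_mul_comm]
    exact hc.mulAutMulEquiv.injective (by rw [map_mul, map_mul, mul_comm])
  · obtain ⟨k, hk⟩ := IsPGroup.iff_card.1
      ((hE.to_subgroup (c i.succ)).to_quotient ((c i.castSucc).subgroupOf _))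
    refine orderOf_eq_one_iff.1 (Nat.eq_one_of_dvd_coprimes ((hco _).pow_right k)
      (orderOf_map_dvd _ _) (orderOf_dvd_of_pow_eq_one ?_))
    rw [map_pow, ← pow_mul]
    refine orderOf_dvd_iff_pow_eq_one.1 ((_root_.orderOf_dvd_natCard _).trans ?_)
    rw [hc.card_mulAut, hk]
    rcases k with _ | k
    · simp
    · rw [Nat.totient_prime_pow_succ hp.out, mul_comm]
      exact mul_dvd_mul_left _ (pow_dvd_pow p k.le_succ)

theorem zmod_eq_pow {n : ℕ} [NeZero n] (y : Multiplicative (ZMod n)) :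
    y = Multiplicative.ofAdd 1 ^ (Multiplicative.toAdd y).val := by
  rw [← ofAdd_nsmul, nsmul_one, ZMod.natCast_zmod_val, ofAdd_toAdd]

theorem autTor_pi {ι : Type*} [Fintype ι] {a : ι → ℕ} (ha : Function.Injective a) :
    AutTor p ((i : ι) → Multiplicative (ZMod (p ^ a i))) := fun H hH => by
  classical
  have : ∀ i, NeZero (p ^ a i) := fun i => ⟨pow_ne_zero _ hp.out.ne_zero⟩
  set G := (i : ι) → Multiplicative (ZMod (p ^ a i))
  have hz : ∀ i (y : Multiplicative (ZMod (p ^ a i))), y ^ p ^ a i = 1 := fun i y => by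
    simpa using pow_card_eq_one' (x := y)
  have hk : ∀ i k, a i ≤ k → ∀ y : Multiplicative (ZMod (p ^ a i)), y ^ p ^ k = 1 :=
    fun i k h y => by rw [← Nat.add_sub_cancel' h, pow_add, pow_mul, hz, one_pow]
  have hN : ∀ x : G, x ^ p ^ Finset.univ.sup a = 1 := fun x =>
    funext fun i => hk i _ (Finset.le_sup (Finset.mem_univ i)) _
  have hG : IsPGroup p G := fun x => ⟨_, hN x⟩
  let c : ℕ → Subgroup G := fun k => (powMonoidHom (p ^ k)).ker ⊔ (powMonoidHom p).range
  refine comm_of_chain' hG hH (m := Finset.univ.sup a) (c := fun k => c k) (sup_le ?_ ?_)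
    (eq_top_iff.2 fun x _ => mem_sup_left (hN x)) (fun k => AInv.sup (fun β _ x hx => ?_) ?_)
    (fun _ => inferInstance) fun k => ?_
  · intro x hx
    have : x = 1 := by simpa using hx
    exact this ▸ one_mem _
  · rintro _ ⟨x, rfl⟩
    exact pow_mem_frattini hG x
  · exact (map_pow β x _).symm.trans (by rw [show x ^ p ^ (k : ℕ) = 1 from hx, map_one])
  · rintro β - _ ⟨x, rfl⟩
    exact ⟨β x, (map_pow β x _).symm⟩
  have key : ∀ g : G, g ^ p ^ (k + 1 : ℕ) = 1 → (∀ i, a i = k + 1 →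
      Pi.mulSingle i (Multiplicative.ofAdd 1) ∈ zpowers g) → c (k + 1 : ℕ) = c k ⊔ zpowers g := by
    refine fun g hg h => le_antisymm (sup_le (fun x hx => ?_) (le_sup_of_le_left le_sup_right))
      (sup_le (sup_le_sup_right (fun x hx => ?_) _) (zpowers_le.2 (mem_sup_left hg)))
    · rw [← Finset.univ_prod_mulSingle x]
      refine prod_mem fun i _ => ?_
      rcases lt_trichotomy (a i) (k + 1) with h1 | h1 | h1
      · refine mem_sup_left (mem_sup_left ?_)
        rw [MonoidHom.mem_ker, powMonoidHom_apply, ← Pi.mulSingle_pow, hk i _ (by omega),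
          Pi.mulSingle_one]
      · rw [zmod_eq_pow (x i), Pi.mulSingle_pow]
        exact mem_sup_right (pow_mem (h i h1) _)
      · have h2 : x i ^ p ^ (k + 1 : ℕ) = 1 := congrFun hx i
        rw [zmod_eq_pow (x i), ← pow_mul, ← orderOf_dvd_iff_pow_eq_one, orderOf_ofAdd_eq_addOrderOf,
          ZMod.addOrderOf_one] at h2
        obtain ⟨r, hr⟩ : p ∣ (Multiplicative.toAdd (x i)).val := by
          have h3 := (pow_dvd_pow p (show k + 1 + 1 ≤ a i from h1)).trans h2
          rwa [pow_succ', Nat.mul_dvd_mul_iff_right (pow_pos hp.out.pos _)] at h3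
        rw [zmod_eq_pow (x i), hr, mul_comm, pow_mul, Pi.mulSingle_pow]
        exact mem_sup_left (mem_sup_right ⟨_, rfl⟩)
    · rw [MonoidHom.mem_ker, powMonoidHom_apply, pow_succ, pow_mul,
        show x ^ p ^ (k : ℕ) = 1 from hx, one_pow]
  by_cases h : ∃ i, a i = k + 1
  · obtain ⟨i, hi⟩ := h
    refine ⟨Pi.mulSingle i (Multiplicative.ofAdd 1), key _ ?_ fun j hj => ?_⟩
    · rw [← Pi.mulSingle_pow, hk i _ hi.le, Pi.mulSingle_one]
    · obtain rfl := ha (hj.trans hi.symm)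
      exact mem_zpowers _
  · exact ⟨1, key 1 (one_pow _) fun j hj => absurd ⟨j, hj⟩ h⟩

theorem not_autTor_sq {Z : Type*} [CommGroup Z] [Finite Z] [Nontrivial Z] (hZ : IsPGroup p Z) :
    ¬ AutTor p (Z × Z) := fun h => by
  obtain ⟨z, hz⟩ := exists_ne (1 : Z)
  rcases eq_or_ne p 2 with rfl | h2
  · let ω : MulAut (Z × Z) := ⟨⟨fun x => (x.2, (x.1 * x.2)⁻¹), fun x => ((x.1 * x.2)⁻¹, x.1),
      fun x => by simp, fun x => by simp [mul_comm]⟩, fun x y => by
        simp [mul_comm, mul_left_comm, mul_assoc]⟩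
    have h3 : ω ^ 3 = 1 := MulEquiv.ext fun x => by simp [ω, pow_succ, mul_comm]
    have := (h (zpowers ω) (by
      rw [Nat.card_zpowers]
      exact Nat.Coprime.coprime_dvd_left (orderOf_dvd_of_pow_eq_one h3) (by norm_num))).2 ω
        (mem_zpowers ω)
    exact hz (congrArg Prod.fst (DFunLike.congr_fun this (z, 1))).symm
  · have : Fact (Nat.Prime 2) := ⟨Nat.prime_two⟩
    let ρ : MulAut (Z × Z) := ⟨⟨fun x => (x.2⁻¹, x.1), fun x => (x.2, x.1⁻¹),
      fun x => by simp, fun x => by simp⟩, fun x y => by simp [mul_comm]⟩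
    let σ : MulAut (Z × Z) := MulEquiv.prodComm
    have h4 : ρ ^ 2 ^ 2 = 1 := MulEquiv.ext fun x => by simp [ρ, pow_succ]
    have h5 : σ ^ 2 ^ 1 = 1 := MulEquiv.ext fun x => rfl
    have h6 : σ * ρ * σ⁻¹ = ρ⁻¹ := MulEquiv.ext fun x => rfl
    have hρ := isPGroup_zpowers_of_pow h4
    have hσ := isPGroup_zpowers_of_pow h5
    have h7 := hσ.to_sup_of_normal_right' hρ (zpowers_le.2 (PG.mem_normalizer_zpowers
      (h6 ▸ inv_mem (mem_zpowers ρ))))
    obtain ⟨k, hk⟩ := IsPGroup.iff_card.1 h7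
    have h8 := congrArg Subtype.val ((h _ (hk ▸ ((Nat.coprime_primes Nat.prime_two hp.out).2
      h2.symm).pow_left k)).1.1.1 ⟨σ, mem_sup_left (mem_zpowers _)⟩ ⟨ρ, mem_sup_right (mem_zpowers _)⟩)
    have h9 : z = z⁻¹ := congrArg Prod.fst (DFunLike.congr_fun h8 (z, 1))
    obtain ⟨j, hj⟩ := hZ z
    exact hz (orderOf_eq_one_iff.1 (Nat.eq_one_of_dvd_coprimes (((Nat.coprime_primes Nat.prime_two
      hp.out).2 h2.symm).pow_right j) (orderOf_dvd_of_pow_eq_one (by
        rw [sq]; exact mul_eq_one_iff_eq_inv.2 h9)) (orderOf_dvd_of_pow_eq_one hj)))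

end Cfsg.Lib.Fus.Ess
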