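import Cfsg.Agent.Solv.MaxUnif
import Cfsg.Agent.Solv.HallBound

/-! Eigenvalues of commutators, and the Engel congruence in groups of prime exponent. -/

namespace Cfsg.Lib.Fus.Ess

open Subgroup Cfsg.Lib.Solv Cfsg.Lib.Trans
open scoped commutatorElement

variable {G : Type*} [Group G] {p : ℕ} {s y u v u' v' : G}

theorem comm_pow_eq {a b : ℕ} (h1 : Commute ⁅u, v⁆ u) (h2 : Commute ⁅u, v⁆ v)
    (h3 : Commute ((u ^ a)⁻¹ * u') v') (h4 : Commute u ((v ^ b)⁻¹ * v')) :
    ⁅u', v'⁆ = ⁅u, v⁆ ^ (a * b) := by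
  have e1 : ⁅u', v'⁆ = u ^ a * ⁅(u ^ a)⁻¹ * u', v'⁆ * (u ^ a)⁻¹ * ⁅u ^ a, v'⁆ := by group
  have e2 : ⁅u ^ a, v'⁆ = ⁅u ^ a, v ^ b⁆ * (v ^ b * ⁅u ^ a, (v ^ b)⁻¹ * v'⁆ * (v ^ b)⁻¹) := by group
  have e3 := commutatorElement_pow_left_of_commute h1 a
  rw [e1, e2, commutatorElement_eq_one_iff_commute.2 h3,
    commutatorElement_eq_one_iff_commute.2 (h4.pow_left a),
    commutatorElement_pow_right_of_commute (e3 ▸ h2.pow_left a), e3, pow_mul]
  group

/-- The eigenvalue of a commutator. -/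
theorem comm_pow_mod (W : Subgroup G) [W.Normal] {a b : ℕ} (h1 : ⁅⁅u, v⁆, u⁆ ∈ W)
    (h2 : ⁅⁅u, v⁆, v⁆ ∈ W) (h3 : ⁅(u ^ a)⁻¹ * u', v'⁆ ∈ W) (h4 : ⁅u, (v ^ b)⁻¹ * v'⁆ ∈ W) :
    (⁅u, v⁆ ^ (a * b))⁻¹ * ⁅u', v'⁆ ∈ W := by
  have key : ∀ {x y : G}, ⁅x, y⁆ ∈ W → Commute (QuotientGroup.mk' W x) (QuotientGroup.mk' W y) :=
    fun h => commutatorElement_eq_one_iff_commute.1
      ((map_commutatorElement _ _ _).symm.trans ((QuotientGroup.eq_one_iff _).2 h))
  rw [← QuotientGroup.eq, ← QuotientGroup.mk'_apply, ← QuotientGroup.mk'_apply, map_pow,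
    map_commutatorElement, map_commutatorElement]
  refine (comm_pow_eq ?_ ?_ ?_ ?_).symm
  · simpa only [map_commutatorElement] using key h1
  · simpa only [map_commutatorElement] using key h2
  · simpa only [map_mul, map_inv, map_pow] using key h3
  · simpa only [map_mul, map_inv, map_pow] using key h4

/-- The elements on which `T` acts as a given power modulo `W`. -/
theorem pow_mod_closure (T : G →* G) (W : Subgroup G) [W.Normal] {a : ℕ} {σ : Set G}
    (hc : ⁅closure σ, closure σ⁆ ≤ W) (h : ∀ x ∈ σ, (x ^ a)⁻¹ * T x ∈ W) :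
    ∀ x ∈ closure σ, (x ^ a)⁻¹ * T x ∈ W := by
  simp only [← QuotientGroup.eq, ← QuotientGroup.mk'_apply, map_pow] at h ⊢
  intro x hx
  induction hx using closure_induction with
  | mem x hx => exact h x hx
  | one => simp
  | mul x y hx hy h1 h2 =>
    rw [map_mul, map_mul, map_mul, ← h1, ← h2, Commute.mul_pow]
    exact commutatorElement_eq_one_iff_commute.1 ((map_commutatorElement _ _ _).symm.trans
      ((QuotientGroup.eq_one_iff _).2 (hc (commutator_mem_commutator hx hy))))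
  | inv x _ h1 => rw [map_inv, map_inv, map_inv, ← h1, inv_pow]

instance lcs_normal (N : Subgroup G) [N.Normal] (d : ℕ) : (N.lowerCentralSeries d).Normal := by
  induction d with
  | zero => assumption
  | succ d _ => exact Subgroup.commutator_normal _ _

/-- An endomorphism that is scalar on `N / N'` is scalar on the lower central factors. -/
theorem pow_mod_lcs (T : G →* G) {N : Subgroup G} [N.Normal] {a : ℕ}
    (h : ∀ x ∈ N, (x ^ a)⁻¹ * T x ∈ N.lowerCentralSeries 1) (d : ℕ) :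
    ∀ x ∈ N.lowerCentralSeries d, (x ^ a ^ (d + 1))⁻¹ * T x ∈ N.lowerCentralSeries (d + 1) := by
  have hc := fun i j k (e : k ≤ i + j + 1) {x y} hx hy => N.lowerCentralSeries_antitone e
    (commutator_lowerCentralSeries_lowerCentralSeries_le N i j
      (commutator_mem_commutator (g₁ := x) (g₂ := y) hx hy))
  induction d with
  | zero => simpa using h
  | succ d ih =>
    refine pow_mod_closure T _ (Subgroup.commutator_le.2 fun x hx y hy =>
      hc (d + 1) (d + 1) _ (by omega) hx hy) ?_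
    rintro _ ⟨x, hx, y, hy, rfl⟩
    have h1 := hc d 0 (d + 1) le_rfl hx hy
    rw [map_commutatorElement, pow_succ a]
    exact comm_pow_mod _ (hc _ d _ (by omega) h1 hx) (hc _ 0 _ le_rfl h1 hy)
      (hc _ 0 _ le_rfl (ih x hx) ((mul_mem_cancel_left (inv_mem (N.pow_mem hy a))).1
        (N.lowerCentralSeries_antitone zero_le_one (h y hy)))) (hc d 1 _ le_rfl hx (h y hy))

theorem mem_of_pow_of_pow [hp : Fact p.Prime] {W : Subgroup G} {a b : ℕ} (hu : u ^ p ∈ W)
    (h : (u ^ a)⁻¹ * u ^ b ∈ W) (hab : ¬ a ≡ b [MOD p]) : u ∈ W := by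
  rw [← zpow_natCast, ← zpow_natCast, ← zpow_neg, ← zpow_add] at h
  obtain ⟨i, j, e⟩ : IsCoprime (p : ℤ) (-a + b) :=
    (Nat.prime_iff_prime_int.1 hp.out).coprime_iff_not_dvd.2 fun e =>
      hab (Nat.modEq_iff_dvd.2 (by rwa [sub_eq_neg_add]))
  rw [← zpow_one u, ← e, zpow_add, mul_comm i, mul_comm j, zpow_mul, zpow_mul, zpow_natCast]
  exact mul_mem (zpow_mem hu i) (zpow_mem h j)

variable [hp : Fact p.Prime]

theorem engel_aux (T : G →* G) {g : ℕ} (hg : ∀ d, 1 ≤ d → d + 2 ≤ p → ¬ g ^ (d + 1) ≡ g [MOD p])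
    (hs : T s = s) (hy : T y = y ^ g) (hK : closure {s, y} = ⊤) (he : ∀ x : G, x ^ p = 1)
    (hb : gam G p = ⊥) : (dl s)^[p - 1] y = 1 := by
  have hp2 := hp.out.two_le
  let N := normalClosure ({y} : Set G)
  have hyN : y ∈ N := subset_normalClosure rfl
  have h1 : ∀ k : G, k⁻¹ * T k ∈ N := fun k => by
    rw [← QuotientGroup.eq, ← QuotientGroup.mk'_apply, ← QuotientGroup.mk'_apply]
    refine MonoidHom.eqOn_closure (f := QuotientGroup.mk' N) (g := (QuotientGroup.mk' N).comp T)
      (s := {s, y}) ?_ (hK ▸ mem_top k)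
    rintro _ (rfl | rfl)
    · simp [hs]
    · exact QuotientGroup.eq.2 (mul_mem (inv_mem hyN) (hy ▸ N.pow_mem hyN g))
  have h2 : ∀ x ∈ N, (x ^ g)⁻¹ * T x ∈ N.lowerCentralSeries 1 := by
    refine pow_mod_closure T _ le_rfl fun x hx => ?_
    obtain ⟨_, rfl, hx'⟩ := Group.mem_conjugatesOfSet_iff.1 hx
    obtain ⟨k, rfl⟩ := _root_.isConj_iff.1 hx'
    have := (inferInstance : (N.lowerCentralSeries 1).Normal).conj_mem _
      (commutator_mem_commutator (inv_mem (N.pow_mem hyN g)) (h1 k)) k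
    convert this using 1
    simp only [conj_pow, map_mul, map_inv, hy]
    group
  have h3 : ∀ d, N.lowerCentralSeries (d + 1) ≤ gam G (d + 2) := fun d => by
    have : N ≤ gam G 1 ⊔ zpowers y := by
      have : (gam G 1 ⊔ zpowers y).Normal := Subgroup.Normal.of_commutator_le _ le_sup_left
      exact normalClosure_le_normal (Set.singleton_subset_iff.2 (mem_sup_right (mem_zpowers y)))
    induction d with
    | zero => exact (commutator_mono this this).trans (Hall.commutator_sup_zpowers_le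
        (commutator_mono le_rfl le_top))
    | succ d ih => exact commutator_mono ih le_top
  have hN : ∀ v ∈ N, dl s v ∈ N := fun v hv =>
    mul_mem ((inferInstance : N.Normal).conj_mem' _ hv s) (inv_mem hv)
  have h4 : (dl s)^[p - 1] y ∈ N.lowerCentralSeries 1 := by
    simpa only [he, one_mul] using norm_formula_mod hp.out (V := fun j => N ⊓ gam G j)
      (N.lowerCentralSeries 1) (fun _ _ e => inf_le_inf_left _ (gam_anti e))
      (fun _ _ => le_sup_of_le_right (commutator_mono inf_le_left inf_le_left))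
      (inf_le_right.trans (hb.le.trans bot_le)) (fun v _ => he v ▸ one_mem _)
      (fun j v hv => ⟨hN v hv.1, dl_mem s hv.2⟩) ⟨hyN, mem_top y⟩ (by simp [he])
  have h5 : ∀ k, (((dl s)^[k] y) ^ g)⁻¹ * T ((dl s)^[k] y) ∈ gam G (k + 1) := fun k => by
    induction k with
    | zero => simp [hy]
    | succ k ih =>
      have := Unif.iterate_dl_mem (i := 0) s (mem_top y) k
      rw [zero_add] at this
      have h6 := comm_mem_gam (i := 0) (mem_top s⁻¹) this (k := k + 1) (by omega)
      rw [Function.iterate_succ_apply', dl_eq, map_commutatorElement, ← one_mul g]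
      exact comm_pow_mod _ (comm_mem_gam (j := 0) h6 (mem_top _) le_rfl)
        (comm_mem_gam (j := 0) h6 (mem_top _) le_rfl) (by simp [hs])
        (comm_mem_gam (i := 0) (mem_top _) ih (by omega))
  have h6 := h5 (p - 1)
  rw [Nat.sub_add_cancel hp.out.pos, hb, mem_bot, inv_mul_eq_one] at h6
  have h7 : ∀ d, d + 2 ≤ p → (dl s)^[p - 1] y ∈ N.lowerCentralSeries (d + 1) := fun d hd => by
    induction d with
    | zero => exact h4
    | succ d ih =>
      exact mem_of_pow_of_pow (he _ ▸ one_mem _)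
        (h6 ▸ pow_mod_lcs T h2 (d + 1) _ (ih (by omega))) (hg (d + 1) (by omega) (by omega))
  have := h3 _ (h7 (p - 2) (by omega))
  rwa [Nat.sub_add_cancel hp2, hb] at this

/-- The Engel congruence in a group of exponent `p`. -/
theorem engel (he : ∀ x : G, x ^ p = 1) (hb : gam G p = ⊥) (s y : G) : (dl s)^[p - 1] y = 1 := by
  obtain ⟨g, hg⟩ := IsCyclic.exists_ofOrder_eq_natCard (α := (ZMod p)ˣ)
  rw [Nat.card_eq_fintype_card, ZMod.card_units] at hg
  let a : ℕ → G := fun _ => s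
  let b : ℕ → G := fun n => y ^ (g : ZMod p).val ^ n
  let K := closure ({a, b} : Set (ℕ → G))
  have ha : a ∈ K := left_mem_closure_pair a b
  have hb' : b ∈ K := right_mem_closure_pair a b
  have e : Poly.shift b = b ^ (g : ZMod p).val := funext fun n => pow_mul y _ _
  let σ : (ℕ → G) →* ℕ → G := Poly.shift
  have hK : ∀ x : K, σ.comp K.subtype x ∈ K := fun x =>
    (closure_pair_le (H := K.comap σ)).2 ⟨ha, mem_comap.2 (e ▸ K.pow_mem hb' _)⟩ x.2
  have := engel_aux (G := K) (s := ⟨a, ha⟩) (y := ⟨b, hb'⟩) ((σ.comp K.subtype).codRestrict K hK)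
    (g := (g : ZMod p).val) (p := p) (fun d h1 h2 h => ?_) rfl (Subtype.ext (by exact e)) ?_
    (fun x => Subtype.ext (funext fun n => he _)) ?_
  · simpa [a, b, map_iterate_dl] using congrArg ((Pi.evalMonoidHom (fun _ => G) 0).comp K.subtype) this
  · rw [← ZMod.natCast_eq_natCast_iff, Nat.cast_pow, ZMod.natCast_zmod_val, ← Units.val_pow_eq_pow_val,
      Units.val_inj, pow_succ, mul_eq_right] at h
    have := Nat.le_of_dvd h1 (hg ▸ orderOf_dvd_of_pow_eq_one h)
    omega
  · rw [← map_subtype_inj, map_closure_pair, ← MonoidHom.range_eq_map, range_subtype]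
    rfl
  · refine eq_bot_iff.2 fun x hx => Subtype.ext (funext fun n => ?_)
    have := mem_map_of_mem ((Pi.evalMonoidHom (fun _ => G) n).comp K.subtype) hx
    rw [map_lowerCentralSeries] at this
    exact hb.le (lowerCentralSeries_mono _ le_top this)

variable [Finite G] {m : ℕ}

theorem Unif.exists_dl_not_mem (h : Unif p m s) (hm : 1 ≤ m) : ∃ y, dl s y ∉ gam G 2 := by
  have h1 : ∀ x : G, gam G 1 ⊔ zpowers x ≠ ⊤ := fun x e =>
    have : IsCyclic G := (isCyclic_iff_exists_zpowers_eq_top ..).2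
      ⟨x, h.mc.eq_top_of_sup (sup_comm (gam G 1) _ ▸ e)⟩
    MaxClass.not_isMulCommutative h.mc.ne hm inferInstance
  obtain ⟨y, -, hy⟩ := SetLike.exists_of_lt (h1 s).lt_top
  refine ⟨y, h.dl_not_mem (i := 0) hm (fun e => hy ?_) le_sup_left (mem_sup_right (mem_zpowers y))
    fun e => hy (mem_sup_left e)⟩
  rw [eq_of_lt_of_card_le (h.mc.pg.to_subgroup _) (h.mc.card_le_gam (h1 y))
    (left_lt_sup.2 fun e => h.not_mem hm (e (mem_zpowers s))) (sup_le le_sup_left
      (zpowers_le_of_mem e))]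
  exact mem_sup_right (mem_zpowers y)

/-- A group of maximal class and order greater than `p ^ p` does not have exponent `p` modulo the
term of index `p ^ (p + 1)`. -/
theorem MC.exists_pow_not_mem (h : MC p m G) (hm : p ≤ m + 1) : ∃ x : G, x ^ p ∉ gam G p := by
  have hp2 := hp.out.two_le
  by_contra! he
  obtain ⟨s, hs⟩ := h.exists_unif
  obtain ⟨y, hy⟩ := hs.exists_dl_not_mem (by omega)
  have := (hs.iterate_dl le_rfl (dl_mem (i := 0) s (mem_top y)) hy (p - 2) (by omega)).2
  rw [← Function.iterate_succ_apply, show 1 + (p - 2) + 1 = p by omega,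
    show (p - 2).succ = p - 1 by omega] at this
  refine this ((QuotientGroup.eq_one_iff _).1 ((map_iterate_dl (QuotientGroup.mk' _) s y _).trans
    (engel (fun x => ?_) ?_ _ _)))
  · obtain ⟨x, rfl⟩ := QuotientGroup.mk_surjective x
    exact (QuotientGroup.eq_one_iff _).2 (he x)
  · rw [← map_gam _ (QuotientGroup.mk'_surjective _), ← le_iff_map_mk'_eq_bot]

end Cfsg.Lib.Fus.Ess
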