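/-
Supersoluble fusion systems.
-/
import Cfsg.Agent.Fus.EssAbP
import Cfsg.Agent.Fus.Hyper
import Cfsg.Agent.Solv.Supersolvable

set_option autoImplicit false

namespace Cfsg.Lib.Fus.Ess

open Cfsg Cfsg.FusionSystem Subgroup Cfsg.Lib.Solv
open scoped commutatorElement

section Abs

variable {E : Type*} [Group E] [Finite E] {p : ℕ} [hp : Fact p.Prime] {A : Subgroup (MulAut E)}
  {X Y : Subgroup E}

open Polynomial in
theorem exists_eigen [Nontrivial E] [ElemAb p E] {b : MulAut E} (hb : b ^ (p - 1) = 1) :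
    ∃ v : E, v ≠ 1 ∧ ∃ c : ℕ, b v = v ^ c := by
  let f : Module.End (ZMod p) (Vec p E) := Vec.rep p (MonoidHom.id (MulAut E)) b
  have h1 : aeval f (X ^ p - X : (ZMod p)[X]) = 0 := by
    rw [map_sub, aeval_X_pow, aeval_X, ← map_pow, show b ^ p = b by
      rw [← Nat.sub_add_cancel hp.out.one_le, pow_succ, hb, one_mul], sub_self]
  have h2 : (X ^ p - X : (ZMod p)[X]).Splits := by
    have := FiniteField.roots_X_pow_card_sub_X (ZMod p)
    rw [ZMod.card] at this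
    rw [splits_iff_card_roots, this, FiniteField.X_pow_card_sub_X_natDegree_eq _ hp.out.one_lt,
      ← Finset.card_def, Finset.card_univ, ZMod.card]
  obtain ⟨c, hc⟩ := (h2.of_dvd (FiniteField.X_pow_card_sub_X_ne_zero _ hp.out.one_lt)
    (minpoly.dvd _ _ h1)).exists_eval_eq_zero
    (minpoly.degree_pos (Algebra.IsIntegral.isIntegral f)).ne'
  obtain ⟨v, hv⟩ := (Module.End.hasEigenvalue_of_isRoot hc).exists_hasEigenvector
  exact ⟨Vec.toMul v, hv.2, c.val, (congrArg Vec.toMul hv.apply_eq_smul).trans (Vec.toMul_smul c v)⟩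

theorem exists_aInv_zpowers [Nontrivial E] (hE : IsPGroup p E)
    (hc : ∀ a ∈ A, ∀ b ∈ A, ∀ z ∈ center E, a (b z) = b (a z))
    (he : ∀ a ∈ A, ∀ z ∈ center E, (a ^ (p - 1)) z = z) : ∃ x : E, x ≠ 1 ∧ AInv A (zpowers x) := by
  obtain ⟨X, ⟨h1, h2, h3, h4⟩, hmin⟩ := exists_minimal_of_wellFoundedLT (fun X : Subgroup E =>
    X ≠ ⊥ ∧ AInv A X ∧ X ≤ center E ∧ ∀ x ∈ X, x ^ p = 1) (by
      obtain ⟨z, -, hz, h1⟩ := PG.exists_mem_center_orderOf_eq hE ⊤ top_ne_bot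
      let V : Subgroup E :=
        { carrier := {u | u ∈ center E ∧ u ^ p = 1}
          one_mem' := ⟨one_mem _, one_pow _⟩
          mul_mem' := fun {u w} hu hw => ⟨mul_mem hu.1 hw.1, by
            rw [Commute.mul_pow (mem_center_iff.1 hw.1 u), hu.2, hw.2, one_mul]⟩
          inv_mem' := fun {u} hu => ⟨inv_mem hu.1, by rw [inv_pow, hu.2, inv_one]⟩ }
      exact ⟨V, fun e => hp.out.one_lt.ne' (h1.symm.trans (orderOf_eq_one_iff.2
        (e.le ⟨hz, h1 ▸ pow_orderOf_eq_one z⟩))), fun a ha x hx => ⟨AInv.of_char _ a ha x hx.1, by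
          rw [← map_pow, hx.2, map_one]⟩, fun _ hx => hx.1, fun _ hx => hx.2⟩)
  obtain ⟨x, hx, hx1⟩ := (bot_or_exists_ne_one X).resolve_left h1
  refine ⟨x, hx1, fun a ha => ?_⟩
  have : ElemAb p X := ⟨fun a b => Subtype.ext (mem_center_iff.1 (h3 b.2) a),
    fun a => Subtype.ext (h4 a a.2)⟩
  have := (nontrivial_iff_ne_bot X).2 h1
  obtain ⟨v, hv, c, e⟩ := exists_eigen (p := p) (b := subHom h2 ⟨a, ha⟩) (by
    rw [← map_pow]; exact MulEquiv.ext fun v => Subtype.ext (he a ha v (h3 v.2)))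
  let W : Subgroup E :=
    { carrier := {u | u ∈ X ∧ a u = u ^ c}
      one_mem' := ⟨one_mem _, by simp⟩
      mul_mem' := fun {u w} hu hw => ⟨mul_mem hu.1 hw.1, by
        rw [map_mul, hu.2, hw.2, Commute.mul_pow (mem_center_iff.1 (h3 hw.1) u)]⟩
      inv_mem' := fun {u} hu => ⟨inv_mem hu.1, by rw [map_inv, hu.2, inv_pow]⟩ }
  have h5 : X ≤ W := hmin (y := W) ⟨fun e' => hv (Subtype.ext (e'.le ⟨v.2, congrArg Subtype.val e⟩)),
    fun b hb u hu => ⟨h2 b hb u hu.1, by rw [hc a ha b hb u (h3 hu.1), hu.2, map_pow]⟩,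
    fun u hu => h3 hu.1, fun u hu => h4 u hu.1⟩ fun u hu => hu.1
  intro u hu
  obtain ⟨i, rfl⟩ := mem_zpowers_iff.1 hu
  rw [map_zpow, (h5 hx).2]
  exact zpow_mem (pow_mem (mem_zpowers x) c) i

theorem exists_aInv_sup_zpowers (hE : IsPGroup p E) {H : Subgroup (MulAut E)}
    (hA : ∀ a ∈ A, ∃ g : E, ∃ h ∈ H, a = MulAut.conj g * h) (hc : ∀ a ∈ H, ∀ b ∈ H, a * b = b * a)
    (he : ∀ a ∈ H, a ^ (p - 1) = 1) (hHA : H ≤ A) [Y.Normal] (hY : AInv A Y) (h : Y ≠ ⊤) :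
    ∃ x ∉ Y, AInv A (Y ⊔ zpowers x) := by
  have : Nontrivial (E ⧸ Y) := QuotientGroup.nontrivial_iff.2 h
  have key : ∀ a ∈ (quoHom hY).range, ∃ h : H, ∀ z ∈ center (E ⧸ Y),
      a z = quoHom hY ⟨h, hHA h.2⟩ z := by
    rintro _ ⟨⟨a, ha⟩, rfl⟩
    obtain ⟨g, h, hh, rfl⟩ := hA a ha
    refine ⟨⟨h, hh⟩, fun z hz => ?_⟩
    have h1 := AInv.of_char (A := ⊤) (center (E ⧸ Y)) (quoHom hY ⟨h, hHA hh⟩) trivial z hz
    obtain ⟨z, rfl⟩ := QuotientGroup.mk_surjective z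
    rw [quoHom_mk, quoHom_mk] at *
    simp only [MulAut.mul_apply, MulAut.conj_apply, QuotientGroup.mk_mul, QuotientGroup.mk_inv]
    rw [mem_center_iff.1 h1, mul_inv_cancel_right]
  have hZ : ∀ a : MulAut (E ⧸ Y), ∀ z ∈ center (E ⧸ Y), a z ∈ center (E ⧸ Y) :=
    fun a => AInv.of_char (A := ⊤) _ a trivial
  obtain ⟨x, hx, h1⟩ := exists_aInv_zpowers (A := (quoHom hY).range) (hE.to_quotient Y)
    (fun a ha b hb z hz => by
      obtain ⟨h, h1⟩ := key a ha
      obtain ⟨k, h2⟩ := key b hb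
      rw [h1 _ (hZ b z hz), h2 _ (hZ a z hz), h1 z hz, h2 z hz, ← MulAut.mul_apply,
        ← MulAut.mul_apply, ← map_mul, ← map_mul]
      exact congrArg (quoHom hY · z) (Subtype.ext (hc h h.2 k k.2)))
    fun a ha z hz => by
      obtain ⟨h, h1⟩ := key a ha
      have : ∀ n : ℕ, (a ^ n) z = (quoHom hY ⟨h, hHA h.2⟩ ^ n) z := fun n => by
        induction n with
        | zero => rfl
        | succ n ih => rw [pow_succ', pow_succ', MulAut.mul_apply, h1 _ (hZ _ z hz), ih]; rfl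
      rw [this, ← map_pow, show (⟨h, hHA h.2⟩ : A) ^ (p - 1) = 1 from Subtype.ext (he h h.2),
        map_one, MulAut.one_apply]
  obtain ⟨x, rfl⟩ := QuotientGroup.mk_surjective x
  refine ⟨x, fun e => hx ((QuotientGroup.eq_one_iff x).2 e), fun a ha u hu => ?_⟩
  have h2 : Y ⊔ zpowers x = (zpowers (x : E ⧸ Y)).comap (QuotientGroup.mk' Y) := by
    rw [← QuotientGroup.mk'_apply, ← MonoidHom.map_zpowers, comap_map_eq, QuotientGroup.ker_mk',
      sup_comm]
  rw [h2] at hu ⊢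
  exact h1 _ ⟨⟨a, ha⟩, rfl⟩ _ hu

omit hp in
theorem exists_chain (h : ∀ Y, AInv A Y → Y ≠ ⊤ → ∃ x ∉ Y, AInv A (Y ⊔ zpowers x)) (hY : AInv A Y) :
    ∃ (m : ℕ) (c : Fin (m + 1) → Subgroup E), c 0 = Y ∧ c (Fin.last m) = ⊤ ∧ (∀ i, AInv A (c i)) ∧
      ∀ i : Fin m, ∃ x, c i.succ = c i.castSucc ⊔ zpowers x := by
  induction Y using WellFoundedGT.induction with
  | ind Y ih =>
  by_cases hT : Y = ⊤
  · exact ⟨0, fun _ => Y, rfl, hT, fun _ => hY, fun i => i.elim0⟩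
  obtain ⟨x, hx, h1⟩ := h Y hY hT
  obtain ⟨m, c, h2, h3, h4, h5⟩ := ih _ (left_lt_sup.2 fun e => hx (e (mem_zpowers x))) h1
  exact ⟨m + 1, Fin.cons Y c, rfl, h3, fun i => i.cases hY h4, fun i => i.cases ⟨x, h2⟩ h5⟩

omit [Finite E] in
theorem isCyclic_sec {x : E} [Y.Normal] (h : X = Y ⊔ zpowers x) :
    IsCyclic (X ⧸ Y.subgroupOf X) := by
  subst h
  refine isCyclic_of_surjective ((QuotientGroup.mk' _).comp (inclusion le_sup_right)) fun u => ?_
  obtain ⟨⟨u, hu⟩, rfl⟩ := QuotientGroup.mk_surjective u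
  obtain ⟨y, hy, w, hw, rfl⟩ := mem_sup_of_normal_left.1 hu
  exact ⟨⟨w, hw⟩, QuotientGroup.eq.2 (show w⁻¹ * (y * w) ∈ Y from
    mul_assoc w⁻¹ y w ▸ Normal.conj_mem' inferInstance y hy w)⟩

theorem comm_of_chain (hE : IsPGroup p E) (hA : (Nat.card A).Coprime p) {m : ℕ}
    {c : Fin (m + 1) → Subgroup E} (h0 : c 0 = ⊥) (h1 : c (Fin.last m) = ⊤) (h2 : ∀ i, AInv A (c i))
    (hn : ∀ i, (c i).Normal) (h3 : ∀ i : Fin m, ∃ x, c i.succ = c i.castSucc ⊔ zpowers x) :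
    IsMulCommutative A ∧ ∀ h ∈ A, h ^ (p - 1) = 1 := by
  have hco : ∀ β : A, (orderOf β).Coprime p := fun β => hA.coprime_dvd_left (orderOf_dvd_natCard β)
  have key : ∀ β : A, (∀ i : Fin m, secHom (h2 i.succ) (h2 i.castSucc) β = 1) → β = 1 :=
    fun β h => by
      have := ptr_chain_fin hE β.2 c h2 fun i => ptr_of_triv (h2 _) (h2 _) β.2
        ((secHom_eq_one_iff _ _ β).1 (h i))
      rw [h0, h1] at this
      exact Subtype.ext (eq_one_of_coprime_of_isPGroup (isPGroup_pCoreIn A) this.mem_pCoreIn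
        (orderOf_coe β ▸ hco β))
  refine ⟨⟨⟨fun a b => commutatorElement_eq_one_iff_mul_comm.1 (key _ fun i => ?_)⟩⟩,
    fun h hh => congrArg Subtype.val (key (⟨h, hh⟩ ^ (p - 1)) fun i => ?_)⟩ <;>
  obtain ⟨x, hx⟩ := h3 i <;> have hc := isCyclic_sec hx
  · rw [map_commutatorElement, commutatorElement_eq_one_iff_mul_comm]
    exact hc.mulAutMulEquiv.injective (by rw [map_mul, map_mul, mul_comm])
  · obtain ⟨k, hk⟩ := IsPGroup.iff_card.1
      ((hE.to_subgroup (c i.succ)).to_quotient ((c i.castSucc).subgroupOf _))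
    refine orderOf_eq_one_iff.1 (Nat.eq_one_of_dvd_coprimes ((hco _).pow_right k)
      (orderOf_map_dvd _ _) (orderOf_dvd_of_pow_eq_one ?_))
    rw [map_pow, ← pow_mul]
    refine orderOf_dvd_iff_pow_eq_one.1 ((_root_.orderOf_dvd_natCard _).trans ?_)
    rw [hc.card_mulAut, hk]
    rcases k with _ | k
    · simp
    · rw [Nat.totient_prime_pow_succ hp.out, mul_comm]
      exact mul_dvd_mul_left _ (pow_dvd_pow p k.le_succ)

end Abs

variable {Ω : Type*} [Group Ω] {S : Subgroup Ω} {p : ℕ} [Finite S] [hp : Fact p.Prime]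

/-- The system has a chain of strongly closed subgroups with cyclic steps. -/
def SSol (F : FusionSystem S) : Prop :=
  ∃ (m : ℕ) (c : Fin (m + 1) → Subgroup Ω), c 0 = ⊥ ∧ c (Fin.last m) = S ∧
    (∀ i : Fin (m + 1), F.StronglyClosed (c i)) ∧
    ∀ i : Fin m, c i.castSucc ≤ c i.succ ∧ ∃ x ∈ S, c i.succ = c i.castSucc ⊔ Subgroup.zpowers x

omit [Finite S] hp in
theorem SSol.exists_chain {F : FusionSystem S} (h : SSol F) {E : Subgroup Ω} (hE : E ≤ S) :
    ∃ (m : ℕ) (c : Fin (m + 1) → Subgroup E), c 0 = ⊥ ∧ c (Fin.last m) = ⊤ ∧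
      (∀ i, AInv (F.autGroup E) (c i)) ∧ (∀ i, (c i).Normal) ∧
      ∀ i : Fin m, ∃ x, c i.succ = c i.castSucc ⊔ zpowers x := by
  obtain ⟨m, c, h0, h1, h2, h3⟩ := h
  refine ⟨m, fun i => (c i).subgroupOf E, by simp [h0], subgroupOf_eq_top.2 (hE.trans h1.ge),
    fun i => aInv_of_stronglyClosed hE (h2 i), fun i => ⟨fun a ha g =>
      (le_normalizer_of_stronglyClosed (h2 i) (hE g.2) a).1 ha⟩, fun i => ?_⟩
  obtain ⟨h4, x, hx, h5⟩ := h3 i
  have : ((c i.castSucc).subgroupOf S).Normal := (normal_subgroupOf_iff_le_normalizer (h2 _).1).2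
    (le_normalizer_of_stronglyClosed (h2 _))
  obtain ⟨y, -, hy⟩ := exists_eq_inf_sup_zpowers (inclusion hE) ((c i.succ).subgroupOf E)
    ((c i.castSucc).subgroupOf S) ⟨x, hx⟩ fun a ha => by
      have h6 := h5.le ha
      rw [← map_subgroupOf_eq_of_le (h2 _).1, show zpowers x = (zpowers (⟨x, hx⟩ : S)).map S.subtype
        from (MonoidHom.map_zpowers S.subtype ⟨x, hx⟩).symm, ← Subgroup.map_sup] at h6
      obtain ⟨b, hb, e⟩ := h6
      rwa [mem_comap, show inclusion hE a = b from Subtype.ext e.symm]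
  exact ⟨y, hy.trans (congrArg (· ⊔ _) (inf_eq_right.2 fun a ha => h4 ha))⟩

theorem SSol.isNormal {F : FusionSystem S} (h : SSol F) (hS : IsPGroup p S)
    (hF : F.IsSaturated p) : F.IsNormal S := by
  refine isNormal_top_of_no_essential hS hF fun E hE => ?_
  have := finite_of_le hE.1.1
  obtain ⟨t, ht⟩ := exists_rad_of_essential hS hF hE
  obtain ⟨m, c, h0, h1, h2, h3, h4⟩ := h.exists_chain hE.1.1
  refine ht.not_ptr (h0 ▸ h1 ▸ ptr_chain_fin ht.pg ht.mem c h2 fun i => ?_)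
  obtain ⟨x, hx⟩ := h4 i
  exact ptr_of_cyclic ht.pg ht.mem ht.pelt (h2 _) (h2 _) (by rw [normalizer_eq_top]; trivial) hx

/-- The saturated system attached to a `p'`-group of automorphisms. -/
theorem exists_saturated_of_coprime (hS : IsPGroup p S) {H : Subgroup (MulAut S)}
    (hH : (Nat.card H).Coprime p) :
    ∃ F : FusionSystem S, F.IsSaturated p ∧ H ≤ F.autGroup S := by
  have h : ∀ α ∈ H, ConjInv (innerFusionSystem S) (pext S α) := fun α _ =>
    conjInv_inner (mulOn_pext α) fun x hx => (pext_mem_iff α x).2 hx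
  have h1 : (innerFusionSystem S).autGroup S = Inn S := le_antisymm (fun α hα => by
    obtain ⟨-, s, hs, e⟩ := mor_inner.1 (piso_pext_of_mem le_rfl hα).mor
    exact mem_inn_pext.2 ⟨s, hs, e⟩) (sat_aut_top hS (inner_saturated hS)).le
  refine ⟨extSys _ H h, extSys_saturated hS (inner_saturated hS) h ?_,
    autGroup_extSys_top h ▸ le_sup_left⟩
  rw [h1]
  refine sylIn_of_not_dvd le_sup_right (sat_aut_top hS (inner_saturated hS)).pgroup fun e => ?_
  rw [relIndex_sup_right] at e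
  exact hp.out.one_lt.ne' (Nat.eq_one_of_dvd_coprimes hH
    (e.trans (relIndex_dvd_card _ _)) dvd_rfl)

theorem sSol_of_isNormal {F : FusionSystem S} (hS : IsPGroup p S) (hF : F.IsSaturated p)
    (hn : F.IsNormal S) (h : ∀ H : Subgroup (MulAut S), (Nat.card H).Coprime p →
      IsMulCommutative H ∧ ∀ h ∈ H, h ^ (p - 1) = 1) : SSol F := by
  have h1 := sat_aut_top hS hF
  obtain ⟨H, hH⟩ := exists_right_complement'_of_coprime (N := (Inn S).subgroupOf (F.autGroup S)) (by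
    obtain ⟨k, hk⟩ := IsPGroup.iff_card.1 h1.pgroup
    rw [card_subgroupOf_of_le h1.le, hk]
    exact (hp.out.coprime_iff_not_dvd.2 h1.not_dvd_relIndex).pow_left k)
  obtain ⟨h2, h3⟩ := h (H.map (F.autGroup S).subtype) (by
    rw [card_map_of_injective (subtype_injective _), ← hH.symm.index_eq_card]
    exact (hp.out.coprime_iff_not_dvd.2 h1.not_dvd_relIndex).symm)
  obtain ⟨m, c, h4, h5, h6, h7⟩ := exists_chain (A := F.autGroup S) (fun Y hY hT => by
    have : Y.Normal := ⟨fun a ha g => hY _ (h1.le ⟨g, rfl⟩) a ha⟩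
    refine exists_aInv_sup_zpowers hS (fun a ha => ?_) (fun _ ha _ hb => PG.mul_comm_of_mem ha hb) h3
      (map_subtype_le _) hY hT
    obtain ⟨⟨⟨n, g, hg⟩, k⟩, e⟩ := (hH.existsUnique ⟨a, ha⟩).exists
    exact ⟨g, _, ⟨k, k.2, rfl⟩, (congrArg Subtype.val e).symm.trans (congrArg (· * _) hg.symm)⟩)
    aInv_bot
  refine ⟨m, fun i => (c i).map S.subtype, by simp [h4], by
    simp only [h5, ← MonoidHom.range_eq_map, range_subtype], fun i =>
      stronglyClosed_of_invariant hn (map_subtype_le _) ?_, fun i => ?_⟩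
  · rintro f hf _ ⟨x, hx, rfl⟩
    exact ⟨_, h6 i _ hf.aut_mem x hx, rfl⟩
  · obtain ⟨x, hx⟩ := h7 i
    exact ⟨map_mono (hx.ge.trans' le_sup_left), x, x.2, by
      simp only [hx, Subgroup.map_sup, MonoidHom.map_zpowers, coe_subtype]⟩

theorem forall_sSol_iff (hS : IsPGroup p S) : (∀ F : FusionSystem S, F.IsSaturated p → SSol F) ↔
    (∀ F : FusionSystem S, F.IsSaturated p → F.IsNormal S) ∧ ∀ H : Subgroup (MulAut S),
      (Nat.card H).Coprime p → IsMulCommutative H ∧ ∀ h ∈ H, h ^ (p - 1) = 1 := by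
  refine ⟨fun h => ⟨fun F hF => (h F hF).isNormal hS hF, fun H hH => ?_⟩,
    fun h F hF => sSol_of_isNormal hS hF (h.1 F hF) h.2⟩
  obtain ⟨F, hF, h1⟩ := exists_saturated_of_coprime hS hH
  obtain ⟨m, c, h2, h3, h4, h5, h6⟩ := (h F hF).exists_chain le_rfl
  exact comm_of_chain hS hH h2 h3 (fun i => (h4 i).mono h1) h5 h6

end Cfsg.Lib.Fus.Ess
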