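import Cfsg.Agent.Fus.EssTorus
import Cfsg.Agent.Fus.EssEngel

/-! The torus of an essential subgroup, extended to the normalizer. -/

namespace Cfsg.Lib.Fus.Ess

open Cfsg Cfsg.FusionSystem Subgroup Cfsg.Lib.Solv
open scoped commutatorElement

variable {Ω : Type*} [Group Ω] {S E P Y : Subgroup Ω} {F : FusionSystem S} {p : ℕ} [Finite S]
  [hp : Fact p.Prime]

/-- Maps on subgroups larger than all essential subgroups extend to `S`. -/
theorem exists_ext_top (hS : IsPGroup p S) (hF : F.IsSaturated p) {k : ℕ}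
    (h : ∀ E, F.IsEssential p E → Nat.card E ≤ k) {f : Equiv.Perm Ω} (hf : Mor F P f)
    (hk : k < Nat.card P) : ∃ g : Equiv.Perm Ω, PIso F g S S ∧ ∀ x ∈ P, g x = f x := by
  refine alperin_essential hS hF (Φ := fun P f => k < Nat.card P →
    ∃ g : Equiv.Perm Ω, PIso F g S S ∧ ∀ x ∈ P, g x = f x) ?_ ?_ ?_ ?_ P f hf hk
  · exact fun P f g _ h e hk => (h hk).imp fun _ h => ⟨h.1, fun x hx => (h.2 x hx).trans (e x hx)⟩
  · exact fun P Q f hf h e hk => have := hf.finite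
      (h (hk.trans_le (card_le_of_le e))).imp fun _ h => ⟨h.1, fun x hx => h.2 x (e hx)⟩
  · intro P Q R f g hf _ h1 h2 hk
    obtain ⟨f', h3, h4⟩ := h1 hk
    obtain ⟨g', h5, h6⟩ := h2 (hf.card_eq ▸ hk)
    exact ⟨_, h3.trans h5, fun x hx => by
      rw [Equiv.Perm.mul_apply, h4 x hx, h6 _ (hf.maps hx), Equiv.Perm.mul_apply]⟩
  · rintro Q (rfl | hQ) - f hf hk
    · exact ⟨f, hf, fun _ _ => rfl⟩
    · exact absurd (h Q hQ) hk.not_ge

omit hp in
theorem exists_max_essential {Q : Subgroup Ω → Prop} (h : F.IsEssential p E) (hQ : Q E) :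
    ∃ E, F.IsEssential p E ∧ Q E ∧ ∀ E', F.IsEssential p E' → Q E' → Nat.card E' ≤ Nat.card E := by
  obtain ⟨_, ⟨E, h1, rfl⟩, h2⟩ := Set.exists_max_image
    ((fun E : Subgroup Ω => Nat.card E) '' {E | F.IsEssential p E ∧ Q E}) id
    ((Set.finite_le_nat (Nat.card S)).subset (by
      rintro _ ⟨E, hE, rfl⟩; exact card_le_of_le hE.1.1.1)) ⟨_, E, ⟨h, hQ⟩, rfl⟩
  exact ⟨E, h1.1, h1.2, fun E' h3 h4 => h2 _ ⟨E', ⟨h3, h4⟩, rfl⟩⟩

/-- The torus of an essential subgroup with a quotient of rank two. -/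
theorem exists_torus_ess (hS : IsPGroup p S) (hF : F.IsSaturated p) (hE : F.IsEssential p E)
    (hYE : Y ≤ E) (hY : AInv (F.autGroup E) (Y.subgroupOf E))
    (hc : Nat.card E = p ^ 2 * Nat.card Y)
    (hN : ∀ s ∈ normalizerIn S E, ∀ y ∈ Y, s * y * s⁻¹ = y) {a b : ℕ} (hab : a * b ≡ 1 [MOD p]) :
    ∃ (g : Equiv.Perm Ω) (z y : Ω), PIso F g (normalizerIn S E) (normalizerIn S E) ∧
      PPrimeOn p (normalizerIn S E) g ∧ PIso F g E E ∧ z ∈ E ∧ y ∈ E ∧ (z ^ a)⁻¹ * g z ∈ Y ∧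
      (y ^ b)⁻¹ * g y ∈ Y ∧ Y ⊔ (zpowers z ⊔ zpowers y) = E ∧
      (∀ s ∈ normalizerIn S E, z⁻¹ * (s * z * s⁻¹) ∈ Y) ∧
      ∃ s ∈ normalizerIn S E, y⁻¹ * (s * y * s⁻¹) ∉ Y := by
  have hES := hE.1.1
  have := finite_of_le hES
  have hEN : E ≤ normalizerIn S E := le_inf hES le_normalizer
  have : (Y.subgroupOf E).Normal := ⟨fun y hy e => by
    rwa [show e * y * e⁻¹ = y from Subtype.ext (hN e (hEN e.2) y hy)]⟩
  obtain ⟨s, hs, hsN, -, -, h⟩ := (radIn_of_essential hS hE).exists_rad hS le_rfl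
    (lt_of_isEssential hS hF hE)
  have h1 := h.quot hY fun h1 => h1.trans h.pg (h.ptr hY aInv_bot
    (triv_conjAut_bot_iff.2 fun x _ hx => hN s ⟨hs, hsN⟩ x hx)) aInv_bot
  have h2 : Nat.card (E ⧸ Y.subgroupOf E) = p ^ 2 := index_eq_of_card hYE hc
  have h3 : ∀ x : E ⧸ Y.subgroupOf E, x ^ p = 1 := fun x => Monoid.exponent_dvd_iff_forall_pow_eq_one.1
    ((not_isCyclic_iff_exponent_eq_prime hp.out h2).1 h1.not_isCyclic).dvd x
  obtain ⟨d, z, y, h4, h5, h6, h7, h8, h9, -⟩ := h1.exists_torus _ (sat_sylIn hS hF hE.2.1)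
    (conjAut_mem_autInducedBy hs hsN) h2 h3 hab
  obtain ⟨g, k1, k2, k3⟩ := exists_ext_normalizer hS hF hE.2.1 d.2 h4 h5
  obtain ⟨z, rfl⟩ := QuotientGroup.mk_surjective z
  obtain ⟨y, rfl⟩ := QuotientGroup.mk_surjective y
  refine ⟨g, z, y, k1, k2, k1.mor.piso_of_eqOn hEN (piso_pext_of_mem hES d.2) k3, z.2, y.2, ?_, ?_,
    ?_, fun u hu => ?_, s, ⟨hs, hsN⟩, fun e => h1.ne_one ?_⟩
  · rw [k3 _ z.2, pext_coe]
    exact (QuotientGroup.eq (s := Y.subgroupOf E) (a := z ^ a) (b := d.1 z)).1 h6.symm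
  · rw [k3 _ y.2, pext_coe]
    exact (QuotientGroup.eq (s := Y.subgroupOf E) (a := y ^ b) (b := d.1 y)).1 h7.symm
  · have := congrArg (fun X => (X.comap (QuotientGroup.mk' (Y.subgroupOf E))).map E.subtype) h8
    simp only [← QuotientGroup.mk'_apply, ← MonoidHom.map_zpowers, ← Subgroup.map_sup, comap_map_eq,
      QuotientGroup.ker_mk', comap_top, ← MonoidHom.range_eq_map, range_subtype] at this
    simpa only [Subgroup.map_sup, map_subgroupOf_eq_of_le hYE, sup_comm _ Y, MonoidHom.map_zpowers,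
      coe_subtype] using this
  · exact (QuotientGroup.eq (s := Y.subgroupOf E) (a := z) (b := conjAut E u hu.2 z)).1 (h9 ⟨_,
      autInducedBy_le_autGroup F hES (conjAut_mem_autInducedBy hu.1 hu.2)⟩
      (conjAut_mem_autInducedBy hu.1 hu.2)).symm
  · refine MulEquiv.ext fun v => (?_ : ⊤ ≤ fixS _) (mem_top v)
    exact h8 ▸ sup_le (zpowers_le.2 (h9 _ (conjAut_mem_autInducedBy hs hsN)))
      (zpowers_le.2 ((QuotientGroup.eq (s := Y.subgroupOf E) (a := y)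
        (b := conjAut E s hsN y)).2 e).symm)

end Cfsg.Lib.Fus.Ess
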