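import Cfsg.Agent.Fus.EssMax3

/-! The diagonal torus of the `SL₂(p)` generated by two opposite transvections. -/

namespace Cfsg.Lib.Fus.Ess

open Cfsg Cfsg.FusionSystem Subgroup Cfsg.Lib.Solv
open scoped commutatorElement

section Abs

variable {V E : Type*} [Group V] [Group E] {p : ℕ} {A T : Subgroup (MulAut E)} {t s : MulAut V}
  {z y : V} {X Y : Subgroup E}

theorem aInv_closure_aut [Finite E] {σ : Set (MulAut E)} (h : ∀ a ∈ σ, ∀ x ∈ X, a x ∈ X) :
    AInv (closure σ) X := fun a ha => by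
  induction ha using closure_induction with
  | mem a ha => exact h a ha
  | one => exact fun x hx => hx
  | mul a b _ _ ha hb => exact fun x hx => ha _ (hb x hx)
  | inv a _ ha => exact aInv_zpowers ha _ (inv_mem (mem_zpowers a))

theorem sup_fixS_eq_top [Finite E] [Fact p.Prime] (hE : IsPGroup p E) {β : MulAut E}
    (hβ : (orderOf β).Coprime p) (h : Triv β ⊤ X) : X ⊔ fixS β = ⊤ := by
  obtain ⟨k, hk⟩ := IsPGroup.iff_card.1 hE
  have := hE.isNilpotent
  have h1 := Act.comm_sup_fix (φ := MonoidHom.id _) (Act.inv_top (zpowers β)) (by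
    rw [Nat.card_zpowers, card_top, hk]; exact hβ.pow_right k) (.inr inferInstance)
  refine top_le_iff.1 (h1.ge.trans (sup_le_sup (Act.comm_le'.2 fun x _ b hb => ?_)
    fun x hx => Act.mem_fix_zpowers.1 hx.2))
  obtain ⟨n, rfl⟩ := PG.exists_pow_eq_of_mem_zpowers hb
  exact h.pow (fun _ _ => trivial) n x trivial

theorem pow_eq_pow_of_modEq' {x : E} (hx : x ^ p = 1) {a b : ℕ} (h : a ≡ b [MOD p]) :
    x ^ a = x ^ b := pow_eq_pow_iff_modEq.2 (h.of_dvd (orderOf_dvd_of_pow_eq_one hx))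

theorem Plane.exists_diag (h : Plane p t s z y) {a b : ℕ} (hab : a * b ≡ 1 [MOD p]) :
    ∃ δ ∈ closure ({t, s} : Set (MulAut V)), δ z = z ^ a ∧ δ y = y ^ b ∧
      (∀ w ∈ fixS t ⊓ fixS s, δ w = w) ∧ δ * t * δ⁻¹ = t ^ (a * a) := by
  let : CommGroup V := { ‹Group V› with mul_comm := h.comm }
  have h1 : ∀ n, (t ^ n) y = y * z ^ n := fun n => by
    rw [h.tv1.pow_apply, h.e1, inv_mul_cancel_left]
  have h2 : ∀ n, (s ^ n) z = z * y⁻¹ ^ n := fun n => by
    rw [h.tv2.pow_apply, h.e2, inv_mul_cancel_left]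
  have hz : z ^ (a * b) = z := (pow_eq_pow_of_modEq' h.tv1.pow hab).trans (pow_one z)
  have hy : y ^ (b * a) = y := (pow_eq_pow_of_modEq' h.tv2.pow (mul_comm a b ▸ hab)).trans (pow_one y)
  have h3 : (t ^ a * s ^ b * t ^ a) z = (y ^ b)⁻¹ := by
    rw [MulAut.mul_apply, MulAut.mul_apply, (h.tv1.npow a).fix, h2, map_mul, (h.tv1.npow a).fix,
      map_pow, map_inv, h1, inv_pow, mul_pow, ← pow_mul, hz, mul_inv, mul_left_comm,
      mul_inv_cancel, mul_one]
  have h4 : (t ^ a * s ^ b * t ^ a) y = z ^ a := by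
    rw [MulAut.mul_apply, MulAut.mul_apply, h1, map_mul, (h.tv2.npow b).fix, map_pow, h2, mul_pow,
      inv_pow, inv_pow, ← pow_mul, hy, mul_left_comm, mul_inv_cancel, mul_one, map_pow,
      (h.tv1.npow a).fix]
  have h5 : (t ^ a * s ^ b * t ^ a * (t * s * t)⁻¹) z = z ^ a := by
    rw [MulAut.mul_apply, ← h4, ← h.w_y, MulAut.inv_apply_self]
  have h6 : (t ^ a * s ^ b * t ^ a * (t * s * t)⁻¹) y = y ^ b := by
    rw [MulAut.mul_apply, ← inv_inv y, ← h.w_z, map_inv, MulAut.inv_apply_self, map_inv, h3, h.w_z,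
      inv_inv, inv_inv]
  have ht : t ∈ closure ({t, s} : Set (MulAut V)) := subset_closure (by simp)
  have hs : s ∈ closure ({t, s} : Set (MulAut V)) := subset_closure (by simp)
  have h7 : ∀ β ∈ closure ({t, s} : Set (MulAut V)), ∀ w ∈ fixS t ⊓ fixS s, β w = w :=
    fun β hβ w hw => by
      induction hβ using closure_induction with
      | mem x hx => rcases hx with rfl | rfl; exacts [hw.1, hw.2]
      | one => rfl
      | mul α β _ _ h1 h2 => rw [MulAut.mul_apply, h2, h1]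
      | inv α _ h1 => rw [← h1, MulAut.inv_apply_self, h1]
  have h8 := mul_mem (mul_mem (mul_mem (pow_mem ht a) (pow_mem hs b)) (pow_mem ht a))
    (inv_mem (Plane.w_mem (t := t) (s := s)))
  refine ⟨_, h8, h5, h6, h7 _ h8, mul_inv_eq_iff_eq_mul.2 (h.ext ?_ ?_ fun w hw => ?_)⟩
  · rw [MulAut.mul_apply, h.tv1.fix, h5, MulAut.mul_apply, h5, map_pow, (h.tv1.npow _).fix]
  · rw [MulAut.mul_apply, h.e1, map_mul, h5, h6, MulAut.mul_apply, h6, map_pow, h1, mul_pow,
      ← pow_mul, mul_assoc a, mul_comm a, pow_mul, hz]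
  · rw [h7 _ (mul_mem h8 ht) w hw, h7 _ (mul_mem (pow_mem ht _) h8) w hw]

variable [hp : Fact p.Prime]

/-- Lifting an element normalizing the image of a Sylow subgroup. -/
theorem SylIn.exists_lift {M M' : Type*} [Group M] [Group M'] [Finite M] {T : Subgroup M}
    (hT : SylIn p T ⊤) (θ : M →* M') {δ : M'} (hδ : δ ∈ θ.range)
    (hN : δ ∈ normalizer (T.map θ : Set M')) (hc : (orderOf δ).Coprime p) :
    ∃ d ∈ normalizer (T : Set M), (orderOf d).Coprime p ∧ θ d = δ := by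
  obtain ⟨g, rfl⟩ := hδ
  obtain ⟨n, ⟨τ, hτ, e⟩, hn⟩ := (hT.mono (le_comap_map θ T) le_top).frattini (g := g)
    fun x => by simpa only [SetLike.mem_coe, mem_comap, map_mul, map_inv] using hN (θ x)
  obtain ⟨k, h1, h2⟩ := exists_pow_pprime_part (τ⁻¹ * (n * g)) hc
  refine ⟨_, pow_mem (mul_mem (inv_mem (le_normalizer hτ)) hn) k, h1, ?_⟩
  rw [map_pow, map_mul, map_mul, map_inv, e, inv_mul_cancel_left]
  exact pow_eq_self_of_modEq (pow_orderOf_eq_one _) h2

theorem exists_torus_exp (hp5 : 5 ≤ p) : ∃ a b k : ℕ, a * b ≡ 1 [MOD p] ∧ ¬ a ≡ b [MOD p] ∧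
    a ^ k + 1 ≡ 0 [MOD p] ∧ b ^ k + 1 ≡ 0 [MOD p] := by
  obtain ⟨u, hu⟩ := IsCyclic.exists_ofOrder_eq_natCard (α := (ZMod p)ˣ)
  rw [Nat.card_eq_fintype_card, ZMod.card_units] at hu
  have h1 : ∀ v : (ZMod p)ˣ, orderOf v = p - 1 → (v : ZMod p).val ^ (p / 2) + 1 ≡ 0 [MOD p] :=
    fun v hv => by
      rw [← ZMod.natCast_eq_natCast_iff]
      push_cast
      rw [ZMod.natCast_zmod_val, (ZMod.pow_div_two_eq_neg_one_or_one p v.ne_zero).resolve_left
        fun e => ?_, neg_add_cancel]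
      have := Nat.le_of_dvd (by omega) (orderOf_dvd_of_pow_eq_one (x := v) (Units.ext e))
      omega
  refine ⟨(u : ZMod p).val, ((u⁻¹ : (ZMod p)ˣ) : ZMod p).val, p / 2, ?_, fun e => ?_, h1 u hu,
    h1 _ ((orderOf_inv u).trans hu)⟩
  · rw [← ZMod.natCast_eq_natCast_iff, Nat.cast_mul, ZMod.natCast_zmod_val, ZMod.natCast_zmod_val,
      Units.mul_inv, Nat.cast_one]
  · rw [← ZMod.natCast_eq_natCast_iff, ZMod.natCast_zmod_val, ZMod.natCast_zmod_val] at e
    have := Nat.le_of_dvd two_pos (orderOf_dvd_of_pow_eq_one (x := u) (n := 2) (by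
      rw [sq]; exact mul_eq_one_iff_eq_inv.2 (Units.ext e)))
    omega

variable [Finite V] [Finite E]

omit [Finite V] hp in
theorem Plane.pow_apply_diag {δ : MulAut V} {a : ℕ} (h : δ z = z ^ a) (k : ℕ) :
    (δ ^ k) z = z ^ a ^ k := by
  induction k with
  | zero => simp
  | succ k ih => rw [pow_succ, MulAut.mul_apply, h, map_pow, ih, ← pow_mul, pow_succ]

/-- In rank two a `p`-group of automorphisms containing a transvection is generated by it. -/
theorem Plane.le_zpowers (h : Plane p t s z y) (hc : Nat.card V = p ^ 2)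
    (hfix : ∀ x, t x = x → x ∈ zpowers z) {B : Subgroup (MulAut V)} (hB : IsPGroup p B)
    (ht : t ∈ B) : B ≤ zpowers t := fun u hu => by
  have hV : IsPGroup p V := IsPGroup.of_card hc
  have : Nontrivial V := ⟨_, _, h.ne⟩
  obtain ⟨K, -, -, h1, h2, h3⟩ := exists_aInv_step hV hB aInv_top aInv_bot bot_lt_top
  rw [card_bot, mul_one] at h2
  have h4 : K = zpowers z := eq_of_le_of_card_ge (fun x hx => hfix x (triv_bot_iff.1 (h3 t ht) x hx))
    (by rw [h2, Nat.card_zpowers, orderOf_eq_prime h.tv1.pow h.ne])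
  subst h4
  have h5 := triv_of_card_le hV ((hB ⟨u, hu⟩).imp fun k hk => congrArg Subtype.val hk)
    (X := ⊤) (fun _ _ => trivial) (h1 u hu) le_top (by rw [card_top, hc, h2, sq])
  obtain ⟨k, hk⟩ := h.tv1.exists_pow (y := y) (fun e => h.ne (by simpa [h.e1] using e)) (h5 y trivial)
  have h6 := triv_bot_iff.1 (h3 u hu)
  rw [show u = t ^ k from h.ext (by rw [h6 z (mem_zpowers z), (h.tv1.npow k).fix])
    (by rw [hk, mul_inv_cancel_left]) fun w hw => by
      rw [h6 w (hfix w hw.1), (h.tv1.npow k).fix_of_mem (hfix w hw.1)]]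
  exact pow_mem (mem_zpowers t) k

/-- The torus acting on a rank two module, lifted to the normalizer of a Sylow subgroup. -/
theorem Rad.exists_torus (θ : A →* MulAut V) {t : A} (h : Rad p θ.range (θ t)) (hT : SylIn p T A)
    (ht : t.1 ∈ T) (hc : Nat.card V = p ^ 2) (he : ∀ x : V, x ^ p = 1) {a b : ℕ}
    (hab : a * b ≡ 1 [MOD p]) : ∃ (d : A) (z y : V), d.1 ∈ normalizer (T : Set (MulAut E)) ∧
      (orderOf d.1).Coprime p ∧ θ d z = z ^ a ∧ θ d y = y ^ b ∧ zpowers z ⊔ zpowers y = ⊤ ∧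
      (∀ u : A, u.1 ∈ T → θ u z = z) ∧ (θ d * θ t = θ t * θ d → a ≡ b [MOD p]) := by
  obtain ⟨z, hz, hfix⟩ := h.exists_tv_of_card_sq hc he
  have hcomm := IsPGroup.isMulCommutative_of_card_eq_prime_sq hc
  obtain ⟨t', s, y, e, hs, hP⟩ := h.exists_plane hcomm.1.1 hz
  have ht' : t' ∈ zpowers (θ t) := e ▸ mem_zpowers t'
  have hfix' : ∀ x, t' x = x → x ∈ zpowers z := fun x hx =>
    hfix x (apply_of_mem_zpowers_aut (e.ge (mem_zpowers _)) hx)
  have h1 : zpowers (θ t) ≤ (T.subgroupOf A).map θ := zpowers_le.2 ⟨t, ht, rfl⟩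
  have h2 : (T.subgroupOf A).map θ = zpowers t' := le_antisymm
    (hP.le_zpowers hc hfix' (hT.subgroupOf_top.pgroup.map θ) (h1 ht')) (e ▸ h1)
  obtain ⟨δ, h3, h4, h5, h6, h7⟩ := hP.exists_diag hab
  have hp1 : ∀ c d : ℕ, c * d ≡ 1 [MOD p] → c ^ (p - 1) ≡ 1 [MOD p] := fun c d hcd =>
    Nat.totient_prime hp.out ▸ Nat.ModEq.pow_totient (Nat.coprime_of_mul_modEq_one d hcd)
  have h8 : δ ^ (p - 1) = 1 := hP.ext (by
      rw [Plane.pow_apply_diag h4, pow_eq_pow_of_modEq' (he z) (hp1 a b hab), pow_one]; rfl) (by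
      rw [Plane.pow_apply_diag h5, pow_eq_pow_of_modEq' (he y) (hp1 b a (mul_comm a b ▸ hab)),
        pow_one]; rfl) fun w hw => apply_of_mem_zpowers_aut (pow_mem (mem_zpowers δ) _) (h6 w hw)
  obtain ⟨d, h9, h10, rfl⟩ := SylIn.exists_lift hT.subgroupOf_top θ (δ := δ)
    ((closure_le _).2 (Set.pair_subset ((h1.trans (map_le_range _ _)) ht') hs) h3)
    (h2 ▸ PG.mem_normalizer_zpowers (h7 ▸ pow_mem (mem_zpowers t') _))
    (Nat.Coprime.coprime_dvd_left (orderOf_dvd_of_pow_eq_one h8)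
      ((Nat.coprime_self_sub_left hp.out.pos).2 (by simp)))
  refine ⟨d, z, y, ?_, orderOf_coe d ▸ h10, h4, h5, eq_top_iff.2 fun v _ => ?_,
    fun u hu => apply_of_mem_zpowers_aut (h2.le ⟨u, hu, rfl⟩) hP.tv1.fix, fun hc => ?_⟩
  · exact mem_normalizer_of_conj_mem fun x hx => (h9 ⟨x, hT.le hx⟩).1 hx
  · obtain ⟨u, hu, w, hw, rfl⟩ := hP.exists_decomp v
    exact mul_mem hu (mem_sup_left (hfix' w hw.1))
  · obtain ⟨n, rfl⟩ := ht'
    rw [(Commute.zpow_right hc n).eq, mul_inv_cancel_right] at h7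
    have h11 := DFunLike.congr_fun h7 y
    rw [hP.tv1.pow_apply, hP.e1, inv_mul_cancel_left, mul_right_inj] at h11
    have h12 : 1 ≡ a * a [MOD p] := orderOf_eq_prime hP.tv1.pow hP.ne ▸
      pow_eq_pow_iff_modEq.1 ((pow_one z).trans h11)
    calc a = a * 1 := (mul_one a).symm
      _ ≡ a * (a * b) [MOD p] := hab.symm.mul_left a
      _ = a * a * b := (mul_assoc _ _ _).symm
      _ ≡ 1 * b [MOD p] := h12.symm.mul_right b
      _ = b := one_mul b

end Abs

variable {Ω : Type*} [Group Ω] {S E : Subgroup Ω} {F : FusionSystem S} {p : ℕ} [Finite S]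
  [hp : Fact p.Prime]

/-- A `p'`-automorphism normalizing `Aut_S(E)` extends to a `p'`-automorphism of `N_S(E)`. -/
theorem exists_ext_normalizer (hS : IsPGroup p S) (hF : F.IsSaturated p)
    (hE : F.IsFullyNormalized E) {d : MulAut E} (hd : d ∈ F.autGroup E)
    (hN : d ∈ normalizer (autInducedBy S E : Set (MulAut E))) (hc : (orderOf d).Coprime p) :
    ∃ g : Equiv.Perm Ω, PIso F g (normalizerIn S E) (normalizerIn S E) ∧
      PPrimeOn p (normalizerIn S E) g ∧ ∀ x ∈ E, g x = pext E d x := by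
  obtain ⟨g, h1, h2⟩ := exists_ext_aut (sat_receptive hS hF hE) hd le_rfl fun x hx =>
    (hN _).1 (conjAut_mem_autInducedBy hx.1 hx.2)
  have hEN : E ≤ normalizerIn S E := le_inf hE.1 le_normalizer
  have h3 := h1.piso_of_eqOn hEN (piso_pext_of_mem hE.1 hd) h2
  have h4 := h1.piso_of_maps fun x hx => h3.map_normalizer h1 hEN hx hx.2
  obtain ⟨k, h5, h6⟩ := h4.exists_pprime_pow ((pPrimeOn_pext.2 hc).congr
    (fun x hx => (pext_mem_iff d x).2 hx) fun x hx => (h2 x hx).symm)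
  exact ⟨_, h4.pow k, h5, fun x hx => (h6 x hx).trans (h2 x hx)⟩

end Cfsg.Lib.Fus.Ess
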