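import Cfsg.Agent.Fus.Thompson
import Cfsg.Agent.Gold.FFCore

/-! Agemo subgroups of `Z(S)` in fusion systems. -/

set_option autoImplicit false
universe u

namespace Cfsg.Lib.Fus

open Cfsg Cfsg.FusionSystem Subgroup
open scoped commutatorElement IsMulCommutative

theorem natCast_pow_mul_eq_zero {R : Type*} [CommRing R] {p n : ℕ} (hp : p.Prime) {T : R}
    (h1 : (T + 1) ^ p = 1) (h2 : T ^ (n * (p - 1) + 1) = 0) : (p : R) ^ n * T = 0 := by
  rw [add_pow_prime_eq hp, ← Finset.add_sum_erase _ _ (Finset.mem_Ioo.2 ⟨one_pos, hp.one_lt⟩)] at h1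
  obtain ⟨r, hr⟩ : T ∣ ∑ k ∈ (Finset.Ioo 0 p).erase 1,
      T ^ (k - 1) * 1 ^ (p - k - 1) * ((p.choose k / p : ℕ) : R) := Finset.dvd_sum fun k hk =>
    ((dvd_pow_self T (by
      have := Finset.mem_erase.1 hk
      have := Finset.mem_Ioo.1 this.2
      omega)).mul_right _).mul_right _
  rw [hr, Nat.choose_one_right, Nat.div_self hp.pos] at h1
  obtain ⟨u, hu⟩ := ((Commute.all T r).isNilpotent_mul_right ⟨_, h2⟩).isUnit_one_add
  have h3 : (p : R) * T = T ^ (p - 1) * T * (-(u⁻¹ : Rˣ)) := by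
    rw [← pow_succ, Nat.sub_add_cancel hp.pos, mul_neg, ← neg_mul, Units.eq_mul_inv_iff_mul_eq, hu]
    linear_combination (exp := 1) h1
  have h4 : ∀ k, (p : R) ^ k * T = T ^ (k * (p - 1) + 1) * (-(u⁻¹ : Rˣ)) ^ k := fun k => by
    induction k with
    | zero => simp
    | succ k ih =>
      rw [pow_succ', mul_assoc, ih, pow_succ' T, ← mul_assoc, ← mul_assoc, h3]; ring
  rw [h4, h2, zero_mul]

theorem natCast_pow_mul_eq_zero' {R : Type*} [Ring R] {p n : ℕ} (hp : p.Prime) {T : R}
    (h1 : (T + 1) ^ p = 1) (h2 : T ^ (n * (p - 1) + 1) = 0) : (p : R) ^ n * T = 0 :=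
  congrArg Subtype.val (natCast_pow_mul_eq_zero (R := Algebra.adjoin ℤ {T}) hp
    (T := ⟨T, Algebra.self_mem_adjoin_singleton ℤ T⟩) (Subtype.ext h1) (Subtype.ext h2))

theorem apply_pow_of_iterate {V : Type*} [CommGroup V] {p n : ℕ} (hp : p.Prime) {σ : V →* V}
    (h1 : ∀ v, σ^[p] v = v) (h2 : ∀ v, (fun v => σ v * v⁻¹)^[n * (p - 1) + 1] v = 1) (v : V) :
    σ (v ^ p ^ n) = v ^ p ^ n := by
  have := natCast_pow_mul_eq_zero' (R := AddMonoid.End (Additive V)) hp (n := n)
    (T := (show AddMonoid.End (Additive V) from MonoidHom.toAdditive σ) - 1)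
    (by rw [sub_add_cancel]; exact AddMonoidHom.ext fun v =>
          (congrFun (AddMonoid.End.coe_pow _ _ _) v).trans (h1 v))
    (AddMonoidHom.ext fun v => (congrFun (AddMonoid.End.coe_pow _ _ _) v).trans (by
      refine Eq.trans (congrFun (congrArg (·^[_]) (funext fun v => ?_)) _) (h2 v)
      exact sub_eq_add_neg _ _))
  have := congrArg (fun f : AddMonoid.End (Additive V) => Additive.toMul (f (Additive.ofMul v))) this
  simp only [← Nat.cast_pow, AddMonoid.End.coe_mul, Function.comp, AddMonoid.End.natCast_apply] at this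
  change (σ v / v) ^ p ^ n = 1 at this
  rwa [div_pow, ← map_pow, div_eq_one] at this

variable {Ω : Type u} [Group Ω] {S T P Q V : Subgroup Ω} {F : FusionSystem S} {E : FusionSystem T}
  {p n : ℕ}

theorem mem_centralizer_powerClosure (hp : p.Prime) (hV : ∀ x ∈ V, ∀ y ∈ V, x * y = y * x) {g : Ω}
    (hg : g ∈ normalizer (V : Set Ω)) (h1 : g ^ p ∈ centralizer (V : Set Ω))
    (h2 : ∀ v ∈ V, (fun v => ⁅g, v⁆)^[n * (p - 1) + 1] v = 1) :
    g ∈ centralizer (powerClosure p n V : Set Ω) := by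
  have : IsMulCommutative V := ⟨⟨fun x y => Subtype.ext (hV x x.2 y y.2)⟩⟩
  rw [powerClosure, centralizer_closure]
  rintro _ ⟨v, hv, rfl⟩
  have := apply_pow_of_iterate hp (n := n) (σ := (conjAut V g hg).toMonoidHom) (fun v => ?_)
    (fun v => ?_) ⟨v, hv⟩
  · exact (mul_inv_eq_iff_eq_mul.1 (congrArg Subtype.val this)).symm
  · have : ∀ k, ((conjAut V g hg).toMonoidHom^[k] v : Ω) = g ^ k * v * (g ^ k)⁻¹ := fun k => by
      induction k with
      | zero => simp
      | succ k ih =>
        rw [Function.iterate_succ_apply']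
        change g * _ * g⁻¹ = _
        rw [ih, pow_succ']; group
    exact Subtype.ext ((this p).trans (mul_inv_eq_iff_eq_mul.2 (h1 v v.2).symm))
  · refine Subtype.ext (Eq.trans ?_ (h2 v v.2))
    exact (Function.Semiconj.iterate_right (f := ((↑) : V → Ω)) (fun _ => rfl) _ v)

theorem powerClosure_le' (p n : ℕ) (V : Subgroup Ω) : powerClosure p n V ≤ V :=
  (closure_le _).2 (by rintro _ ⟨v, hv, rfl⟩; exact V.pow_mem hv _)

theorem powerClosure_mono' (h : P ≤ Q) : powerClosure p n P ≤ powerClosure p n Q :=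
  closure_mono fun _ ⟨v, hv, e⟩ => ⟨v, h hv, e⟩

theorem MulOn.map_powerClosure {f : Ω → Ω} (hf : MulOn P f) (h : ∀ x ∈ P, f x ∈ Q) :
    ∀ x ∈ powerClosure p n P, f x ∈ powerClosure p n Q := by
  rw [← img_le_iff, powerClosure, img_closure hf (powerClosure_le' p n P), closure_le]
  rintro _ ⟨_, ⟨v, hv, rfl⟩, rfl⟩
  exact subset_closure ⟨f v, h v hv, hf.map_pow hv _⟩

theorem CharIn.powerClosure (h : CharIn S Q) : CharIn S (powerClosure p n Q) :=
  ⟨(powerClosure_le' p n Q).trans h.1, fun f hf e => (hf.mono h.1).map_powerClosure (h.2 f hf e)⟩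

theorem CharIn.piso (h : CharIn P Q) {f : Equiv.Perm Ω} (hf : PIso F f P P) : ∀ x ∈ Q, f x ∈ Q :=
  h.2 f hf.mor.mulOn hf.img_eq

theorem iterate_commutator_mem {g v : Ω} (hg : g ∈ S) (hv : v ∈ S) (k : ℕ) :
    (fun v => ⁅g, v⁆)^[k] v ∈ S.lowerCentralSeries k := by
  induction k with
  | zero => exact hv
  | succ k ih =>
    rw [Function.iterate_succ_apply', Subgroup.lowerCentralSeries_succ, commutator_comm]
    exact commutator_mem_commutator hg ih

theorem centralizerIn_self_comm : ∀ x ∈ centralizerIn P P, ∀ y ∈ centralizerIn P P, x * y = y * x :=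
  fun x hx _ hy => hy.2 x hx.1

theorem lowerCentralSeries_le_zIn {c : ℕ} (h : S.lowerCentralSeries c = ⊥) : S ≤ zIn S c := by
  have key : ∀ j i, i + j = c → S.lowerCentralSeries i ≤ zIn S j := fun j => by
    induction j with
    | zero => rintro i rfl; exact h.le.trans bot_le
    | succ j ih =>
      exact fun i e x hx => mem_zIn_succ.2 ⟨S.lowerCentralSeries_antitone (Nat.zero_le i) hx,
        fun y hy => ih (i + 1) (by omega) (commutator_mem_commutator hx hy)⟩
  exact key c 0 (zero_add c)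

theorem pow_mem_zIn {e : ℕ} (h : ∀ x ∈ centralizerIn S S, x ^ e = 1) (i : ℕ) :
    ∀ x ∈ zIn S (i + 1), x ^ e ∈ zIn S i := by
  induction i with
  | zero => exact fun x hx => (h x (mem_zIn_one.1 hx)).symm ▸ one_mem _
  | succ i ih =>
    intro x hx
    obtain ⟨h1, h2⟩ := mem_zIn_succ.1 hx
    refine mem_zIn_succ.2 ⟨S.pow_mem h1 e, fun y hy => ?_⟩
    have key : ∀ k : ℕ, ⁅x ^ k, y⁆ * (⁅x, y⁆ ^ k)⁻¹ ∈ zIn S i := fun k => by
      induction k with
      | zero => simp
      | succ k ih' =>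
        have h3 : ⁅x ^ k, y⁆ ∈ zIn S (i + 1) := by
          simpa using mul_mem (zIn_mono S (Nat.le_succ i) ih') (pow_mem (h2 y hy) k)
        have := mul_mem (inv_mem ((mem_zIn_succ.1 h3).2 x h1)) ih'
        convert this using 1
        simp only [pow_succ' x, pow_succ' ⁅x, y⁆, mul_inv_rev]
        rw [((Commute.refl ⁅x, y⁆).pow_left k).inv_inv.eq]
        simp only [commutatorElement_def, mul_inv_rev, inv_inv, mul_assoc, inv_mul_cancel_left,
          mul_inv_cancel_left]
    simpa using mul_mem (key e) (ih _ (h2 y hy))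

theorem pow_eq_one_of_mem_zIn {e : ℕ} (h : ∀ x ∈ centralizerIn S S, x ^ e = 1) (i : ℕ) :
    ∀ x ∈ zIn S i, x ^ e ^ i = 1 := by
  induction i with
  | zero => exact fun x hx => by simpa [zIn_zero] using hx
  | succ i ih => exact fun x hx => by rw [pow_succ', pow_mul]; exact ih _ (pow_mem_zIn h i x hx)

variable [Fact p.Prime]

/-- If `C_G(℧¹(V))` centralizes the abelian normal subgroup `V` then so does `J(G)`. -/
theorem thompsonA_le_centralizer {G : Type u} [Group G] [Finite G] (hG : IsPGroup p G)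
    {V : Subgroup G} [V.Normal] (hV : ∀ x ∈ V, ∀ y ∈ V, x * y = y * x)
    (h : centralizer (powerClosure p 1 V : Set G) ≤ centralizer (V : Set G)) :
    thompsonSubgroupA G ≤ centralizer (V : Set G) := by
  have hp : p.Prime := Fact.out
  have hV' : IsElementaryAbelian 0 V := ⟨⟨⟨fun x y => Subtype.ext (hV x x.2 y y.2)⟩⟩, by simp⟩
  rw [← Trans.thompsonSubgroup_zero, ← Trans.TJ.J_top, Trans.TJ.J_le_iff]
  intro A hA
  by_contra hc
  obtain ⟨B, -, -, h1, h2⟩ := (Gold.maxOff_of_maxEA hA hV' le_top).exists_quadratic hV'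
    (hG.to_subgroup V) (hG.to_subgroup A) le_normalizer_of_normal
    ((commutator_eq_bot_iff_le_centralizer.2 (le_centralizer (h := hA.ea.1) A)).le.trans bot_le)
    fun e => hc (le_centralizer_iff.1 (commutator_eq_bot_iff_le_centralizer.1 e))
  obtain ⟨b, hb, hb'⟩ := SetLike.not_le_iff_exists.1 fun h' : B ≤ centralizer (V : Set G) =>
    h2 (commutator_eq_bot_iff_le_centralizer.2 (le_centralizer_iff.1 h'))
  obtain ⟨k, hk⟩ := hG b
  obtain ⟨j, h3, h4⟩ := Solv.PG.exists_pow_not_mem_pow_mem hb' (hk ▸ one_mem _)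
  refine h3 (h (mem_centralizer_powerClosure hp hV (le_normalizer_of_normal (mem_top _)) h4
    fun v hv => ?_))
  obtain ⟨m, hm⟩ : ∃ m, 1 * (p - 1) + 1 = m + 2 := ⟨p - 2, by have := hp.two_le; omega⟩
  rw [hm, Function.iterate_add_apply]
  have : ⁅b ^ p ^ j, ⁅b ^ p ^ j, v⁆⁆ = 1 := by
    rw [commutator_comm, commutator_comm V] at h1
    exact mem_bot.1 (h1.le (commutator_mem_commutator (B.pow_mem hb _)
      (commutator_mem_commutator (B.pow_mem hb _) hv)))
  exact (congrArg _ this).trans (Function.iterate_fixed (by simp) m)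

variable [Finite S] (hS : IsPGroup p S)
include hS

theorem jA_le_centralizerIn (hVS : V ≤ S) (hn : S ≤ normalizer (V : Set Ω))
    (hV : ∀ x ∈ V, ∀ y ∈ V, x * y = y * x)
    (h : centralizerIn S (powerClosure p 1 V) ≤ centralizerIn S V) :
    thompsonSubgroupAOf S ≤ centralizerIn S V := by
  have := (normal_subgroupOf_iff_le_normalizer hVS).2 hn
  rintro _ ⟨x, hx, rfl⟩
  refine ⟨x.2, fun v hv => congrArg Subtype.val (thompsonA_le_centralizer hS (V := V.subgroupOf S)
    (fun a ha b hb => Subtype.ext (hV a ha b hb)) (fun g hg a ha => Subtype.ext ((h ⟨g.2, ?_⟩).2 a ha))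
    hx ⟨v, hVS hv⟩ hv)⟩
  rw [powerClosure, centralizer_closure]
  rintro _ ⟨v, hv, rfl⟩
  exact congrArg Subtype.val (hg (⟨v, hVS hv⟩ ^ p ^ 1) (subset_closure ⟨_, hv, rfl⟩))

omit [Fact p.Prime] hS in
theorem jA_eq_of_le (h : thompsonSubgroupAOf S ≤ Q) (hQ : Q ≤ S) :
    thompsonSubgroupAOf Q = thompsonSubgroupAOf S := by
  have := Trans.TJ.J_eq_of_le (p := 0) (U := (⊤ : Subgroup S)) (T := Q.subgroupOf S)
    (fun x hx => h ⟨x, by rwa [Trans.TJ.J_top, Trans.thompsonSubgroup_zero] at hx, rfl⟩) le_top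
  have := congrArg (map S.subtype) this
  rwa [Trans.TJ.map_J _ S.subtype_injective, Trans.TJ.map_J _ S.subtype_injective,
    map_subgroupOf_eq_of_le hQ, ← MonoidHom.range_eq_map, range_subtype,
    Trans.thompsonSubgroupOf_zero, Trans.thompsonSubgroupOf_zero] at this

variable (hF : F.IsSaturated p)
include hF

theorem isNormal_powerClosure_center (hcl : S.lowerCentralSeries (n * (p - 1) + 1) = ⊥) :
    F.IsNormal (powerClosure p n (centralizerIn S S)) := by
  have hle := powerClosure_le' p n (centralizerIn S S)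
  refine isNormal_of_stronglyClosed_of_comm hS hF (stronglyClosed_iff.2 ⟨hle.trans centralizerIn_le,
    fun P k hk x hx hx' => ?_⟩) fun x hx y hy => centralizerIn_self_comm x (hle hx) y (hle hy)
  obtain ⟨f, hf, e⟩ := hk.exists_perm
  refine e x hx ▸ alperin_cr hS hF (Φ := fun P f => ∀ x ∈ P, x ∈ powerClosure p n (centralizerIn S S) →
    f x ∈ powerClosure p n (centralizerIn S S)) (fun P f g _ h e x hx hx' => e x hx ▸ h x hx hx')
    (fun P Q f _ h hQ x hx => h x (hQ hx))
    (fun P Q R f g hf _ h h' x hx hx' => h' _ (hf.maps hx) (h x hx hx')) ?_ P f hf x hx hx'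
  intro Q hQ hc _ ih f hf x hx hx'
  rcases hQ.1.eq_or_lt with rfl | hlt
  · exact (charIn_center hS).powerClosure.piso hf x hx'
  have := finite_of_le hQ.1
  have hch := (charIn_center (hS.to_le hQ.1)).powerClosure (p := p) (n := n)
  obtain ⟨y, hy, hyQ⟩ := SetLike.exists_of_lt (lt_normalizerIn hS hlt)
  obtain ⟨k, hk⟩ := hS ⟨y, hy.1⟩
  obtain ⟨j, h3, h4⟩ := Solv.PG.exists_pow_not_mem_pow_mem hyQ
    ((show y ^ p ^ k = 1 from congrArg Subtype.val hk).symm ▸ one_mem Q)
  have hg := pow_mem hy (p ^ j)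
  generalize y ^ p ^ j = g at h3 h4 hg
  have h5 := mem_centralizer_powerClosure (n := n) Fact.out centralizerIn_self_comm
    (induced_center Q ▸ wNat_center.normalizer_le (hS.to_le hQ.1) hg.2) (fun v hv => (hv.2 _ h4).symm)
    fun v hv => mem_bot.1 (hcl.le (iterate_commutator_mem hg.1 (hQ.1 hv.1) _))
  have hst : ∀ α ∈ F.autGroup Q, α ∈ stabAut Q (powerClosure p n (centralizerIn Q Q)) := fun α hα =>
    have := finite_of_le hch.1
    mem_stabAut_of_maps hch.1 (hch.piso (piso_pext_of_mem hQ.1 hα))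
  have := finite_autGroup F hQ.1
  obtain ⟨l, hl, g', hg', e⟩ := exists_ext_mod_normal hS hF hQ
    (N := F.autGroup Q ⊓ fixAut Q (powerClosure p n (centralizerIn Q Q))) inf_le_left
    (fun a ha => have := finite_of_le (inf_le_left (b := fixAut Q (powerClosure p n (centralizerIn Q Q)))
        (a := F.autGroup Q))
      mem_normalizer_of_finite fun b hb => mem_inf.2 ⟨mul_mem (mul_mem ha hb.1) (inv_mem ha),
        conj_mem_fixAut (hst a ha) hb.2⟩)
    (R := zpowers g) (zpowers_le.2 hg) (fun a ha => by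
      obtain ⟨r, hr, e⟩ := mem_autInducedBy_pext.1 ha
      exact ⟨autInducedBy_le_autGroup' F hQ.1 (zpowers_le.2 hg.1) ha, fun v hv => by
        rw [e v (hch.1 hv), ← zpowers_le.2 h5 hr v hv, mul_inv_cancel_right]⟩) hf.aut_mem
  have h6 := ih _ g' (have := hg'.finite; card_lt_card_of_lt (left_lt_sup.2 fun h => h3
    (h (mem_zpowers g)))) hg' x (mem_sup_left hx) hx'
  have h7 : powerClosure p n (centralizerIn S S) ≤ powerClosure p n (centralizerIn Q Q) :=
    powerClosure_mono' fun z hz => mem_inf.2 ⟨isCentric_self hc (centralizerIn_anti hQ.1 hz),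
      (centralizerIn_anti hQ.1 hz).2⟩
  have h8 := (inv_mem hl).2 _ (h7 h6)
  rw [e x hx, pext_mul, pext_inv_pext, hf.pext_aut hx] at h8
  rwa [h8, ← hf.pext_aut hx, ← pext_mul, ← e x hx]

theorem sub_of_centSys_mho (h1 : (centSys F (powerClosure p 1 (centralizerIn S S))
      ((powerClosure_le' _ _ _).trans centralizerIn_le)).IsSubsystemOf E)
    (h2 : NSub F (thompsonSubgroupAOf S) E) : F.IsSubsystemOf E := by
  refine sub_induction (F := F) (C := fun {S} F => ∀ [Finite S], IsPGroup p S → F.IsSaturated p →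
    (centSys F (powerClosure p 1 (centralizerIn S S))
      ((powerClosure_le' _ _ _).trans centralizerIn_le)).IsSubsystemOf E →
    NSub F (thompsonSubgroupAOf S) E → F.IsSubsystemOf E) ?_ hS hF h1 h2
  intro S F _ ih _ hS hF h1 h2
  have hZJ : ∀ P, P ≤ S → centralizerIn S S ≤ centralizerIn (normalizerIn S P) (normalizerIn S P) :=
    fun P hP x hx => mem_inf.2 ⟨centralizerIn_le_normalizerIn (centralizerIn_anti hP hx),
      (centralizerIn_anti normalizerIn_le hx).2⟩
  by_cases hZ : centralizerIn S S ≤ F.core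
  · have hQ := isNormal_core F
    have hV := isNormal_center_of_isNormal hQ
    have := finite_of_le hQ.1
    have hch := (charIn_center (hS.to_le hQ.1)).powerClosure (p := p) (n := 1)
    have hU := isNormal_of_characteristic hQ hch.1 hch.characteristic
    have hn := le_normalizer_sup_centralizerIn (le_normalizer_of_isNormal hU)
    by_cases hR : F.IsNormal (powerClosure p 1 (centralizerIn F.core F.core) ⊔
      centralizerIn S (powerClosure p 1 (centralizerIn F.core F.core)))
    · have h3 : F.core ≤ centralizerIn S (centralizerIn F.core F.core) := fun x hx =>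
        ⟨hQ.1 hx, fun y hy => (hy.2 x hx).symm⟩
      have h4 := le_sup_right.trans (le_core hR)
      have h5 := (jA_le_centralizerIn hS hV.1 (le_normalizer_of_isNormal hV) centralizerIn_self_comm
        (h4.trans h3)).trans ((centralizerIn_anti (powerClosure_le' p 1 _)).trans h4)
      have h6 := charIn_jA (hS.to_le hQ.1)
      exact h2.sub (jA_eq_of_le h5 hQ.1 ▸ isNormal_of_characteristic hQ h6.1 h6.characteristic)
    · refine sub_of_stancu hS hF hU (subsys_trans (scSys_sub_centSys (powerClosure_mono' fun x hx =>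
        mem_inf.2 ⟨hZ hx, (centralizerIn_anti hQ.1 hx).2⟩) (powerClosure_le' _ _ _)) h1)
        ((nSub_iff_normTop (sup_le hU.1 centralizerIn_le) hn).2 (ih _ normTop_sub
          (not_sub_normTop hR _ _) hS (normTop_saturated hS hF)
          (subsys_trans (centSys_mono normTop_sub _ le_rfl) h1) (h2.of_sub normTop_sub (jA_le S))))
  · refine sub_of_wp hS hF (W := thompsonSubgroupAOf) (fun P hP => (jA_le P).trans hP)
      (wNat_jF.normalizerIn_le hS) (fun Q hQ h => hZ ((hZJ Q hQ).trans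
        ((centralizerIn_le_inducedFunctor (fun Q _ _ _ => center_le_jF Q)
          (hS.to_le normalizerIn_le)).trans (le_core h))))
      (fun Q hQ h => hZ ((centralizerIn_anti hQ.1).trans ((isCentric_self hQ).trans (le_core h)))) h2
      fun Q hQ hn H => (nSub_iff hQ.1).2 (ih _ normSys_sub (not_sub_normSys hn _)
        (hS.to_le normalizerIn_le) (normSys_saturated hS hF hQ)
        (subsys_trans (centSys_mono normSys_sub _ (powerClosure_mono' (hZJ Q hQ.1))) h1)
        (H.of_sub normSys_sub (jA_le _)))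

end Cfsg.Lib.Fus
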