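import Cfsg.Agent.Fus.ActSec
import Cfsg.Agent.Fus.Simple
import Cfsg.Agent.Trans.StableClosure
import Cfsg.Agent.Trans.ZJFactor

/-! `p`-stable fusion systems. -/

set_option autoImplicit false

namespace Cfsg.Lib.Fus

open Cfsg Cfsg.FusionSystem Subgroup
open scoped commutatorElement

/-- Every quadratically acting element of `A` lies in `O_p(A)`. -/
def StabAut (p : ℕ) {Q : Type*} [Group Q] (A : Subgroup (MulAut Q)) : Prop :=
  ∀ χ ∈ A, (∀ a : Q, χ a⁻¹ * a * χ a⁻¹ * χ (χ a) = 1) → χ ∈ pCoreIn p A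

/-- `p`-stable fusion systems. -/
def PStab {Ω : Type*} [Group Ω] {S : Subgroup Ω} (F : FusionSystem S) (p : ℕ) : Prop :=
  ∀ Q, F.IsFullyNormalized Q → StabAut p (F.autGroup Q)

variable {p : ℕ} {Q Q' : Type*} [Group Q] [Group Q'] {A B : Subgroup (MulAut Q)}

theorem StabAut.anti (h : StabAut p A) (hB : B ≤ A) : StabAut p B := fun χ hχ hq =>
  le_pCoreIn inf_le_left (isPGroup_pCoreIn A).to_inf_right
    (fun _ ha _ hx => ⟨B.mul_mem (B.mul_mem ha hx.1) (B.inv_mem ha), conj_mem_pCoreIn (hB ha) hx.2⟩)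
    ⟨hχ, h χ (hB hχ) hq⟩

theorem StabAut.of_map (e : Q ≃* Q') (h : StabAut p (A.map (MulAut.congr e).toMonoidHom)) :
    StabAut p A := fun χ hχ hq =>
  le_pCoreIn (N := A ⊓ (pCoreIn p (A.map (MulAut.congr e).toMonoidHom)).comap
    (MulAut.congr e).toMonoidHom) inf_le_left
    ((isPGroup_pCoreIn _).comap_of_injective _ (MulAut.congr e).injective).to_inf_right
    (fun a ha x hx => ⟨A.mul_mem (A.mul_mem ha hx.1) (A.inv_mem ha), by
      refine mem_comap.2 ?_
      rw [map_mul, map_mul, map_inv]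
      exact conj_mem_pCoreIn ⟨a, ha, rfl⟩ hx.2⟩)
    ⟨hχ, h _ ⟨χ, hχ, rfl⟩ fun a => by simpa using congrArg e (hq (e.symm a))⟩

theorem quad_iff {χ : MulAut Q} {a : Q} :
    χ a⁻¹ * a * χ a⁻¹ * χ (χ a) = 1 ↔ χ (a⁻¹ * χ a) = a⁻¹ * χ a := by
  rw [map_mul, map_inv, mul_assoc, mul_assoc, inv_mul_eq_one, ← inv_mul_eq_iff_eq_mul, eq_comm]

theorem stabAut_of_isCyclic [Finite Q] [Fact p.Prime] [IsCyclic Q] (hQ : IsPGroup p Q) :
    StabAut p A := fun χ hχ hq => by
  obtain ⟨n, hn⟩ := IsPGroup.iff_card.1 hQ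
  have h : ∀ k a, (χ ^ k) a = a * (a⁻¹ * χ a) ^ k := fun k a => by
    induction k with
    | zero => simp
    | succ k ih =>
      rw [pow_succ', MulAut.mul_apply, ih, map_mul, map_pow, quad_iff.1 (hq a), pow_succ',
        ← mul_assoc, mul_inv_cancel_left]
  refine le_pCoreIn (N := zpowers χ) (zpowers_le.2 hχ) (isPGroup_zpowers_of_pow (j := n) ?_)
    (fun a _ x hx => ?_) (mem_zpowers χ)
  · ext a
    rw [h, ← hn, pow_card_eq_one', mul_one, MulAut.one_apply]
  · obtain ⟨g, hg⟩ := IsCyclic.exists_generator (α := Q)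
    have : a * x = x * a := MulEquiv.toMonoidHom_injective (MonoidHom.eq_of_eqOn_dense
      ((zpowers_eq_closure g).symm.trans ((eq_top_iff' _).2 hg)) (by
        intro _ h
        rw [h]
        obtain ⟨i, hi⟩ := hg (a g)
        obtain ⟨j, hj⟩ := hg (x g)
        simp only at hi hj
        change a (x g) = x (a g)
        rw [← hj, ← hi, map_zpow, map_zpow, ← hi, ← hj, ← zpow_mul, ← zpow_mul, mul_comm]))
    rwa [this, mul_inv_cancel_right]

variable {Ω : Type*} [Group Ω] {S T R : Subgroup Ω} {F : FusionSystem S} {E : FusionSystem T}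

theorem autGroup_le_of_sub (h : E.IsSubsystemOf F) (hR : R ≤ T) : E.autGroup R ≤ F.autGroup R :=
  fun _ hα => ((piso_pext_of_mem hR hα).of_sub h).mor |> (mem_autGroup_of_mor · fun _ _ => rfl)

variable [Finite S]

theorem PStab.all (h : PStab F p) (hR : R ≤ S) : StabAut p (F.autGroup R) := by
  obtain ⟨R', f, hf, hn⟩ := exists_piso_fullyNormalized F hR
  exact StabAut.of_map hf.equiv ((h R' hn).anti hf.map_autGroup.le)

theorem PStab.of_sub (h : PStab F p) (hE : E.IsSubsystemOf F) : PStab E p := fun _ hR =>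
  (h.all (Mor.of_sub (Mor.pone E hR.1) hE).le).anti (autGroup_le_of_sub hE hR.1)

theorem PStab.normalizer (h : PStab F p) {N : FusionSystem (normalizerIn S R)}
    (hN : F.IsNormalizerSystem R N) : PStab N p :=
  h.of_sub (eq_normSys hN (le_of_isNormalizerSystem hN) ▸ normSys_sub)

variable [Fact p.Prime]

theorem pStab_of_noncyclic (hS : IsPGroup p S) (h : ∀ R, F.IsFullyNormalized R → ¬ IsCyclic R →
    ∀ N : FusionSystem (normalizerIn S R), F.IsNormalizerSystem R N → PStab N p) :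
    PStab F p := fun R hR => by
  by_cases hc : IsCyclic R
  · have := finite_of_le hR.1
    exact stabAut_of_isCyclic (hS.to_le hR.1)
  · exact autGroup_normSys (hQ := hR.1) ▸
      (h R hR hc _ (isNormalizerSystem_normSys F R hR.1)).all (le_normalizerIn hR.1)

theorem pStab_of_radical (hS : IsPGroup p S) (hF : F.IsSaturated p)
    (h : ∀ R, F.IsFullyNormalized R → F.IsCentric R → F.IsRadical p R →
    ∀ N : FusionSystem (normalizerIn S R), F.IsNormalizerSystem R N → PStab N p) :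
    PStab F p := fun R hR => by
  by_contra hn
  obtain ⟨R, h1, h2, h3, V, hV, A, hA, hn⟩ := exists_centric_radical_of hS hF
    (C := fun R => ∃ V ≤ R, ∃ A : Subgroup (MulAut V), (∀ α ∈ A, ∃ g : Equiv.Perm Ω,
      PIso F g R R ∧ ∀ x ∈ V, pext V α x = g x) ∧ ¬ StabAut p A) (by
      rintro R R' g hg ⟨V, hV, A, hA, hn⟩
      have hg' := hg.restrict hV
      refine ⟨img V g, hg.img_eq ▸ img_mono _ hV, _, ?_, fun h => hn (h.of_map hg'.equiv)⟩
      rintro _ ⟨α, hα, rfl⟩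
      obtain ⟨f, hf, e⟩ := hA α hα
      exact ⟨g * f * g⁻¹, mul_assoc g f g⁻¹ ▸ (hg.symm.trans hf).trans hg, fun x hx =>
        (hg'.pext_autCongr α hx).trans (congrArg g (e _ (hg'.inv_maps hx)))⟩) (by
      rintro R hR ⟨V, hV, A, hA, hn⟩
      refine ⟨V, hV.trans (le_radClosure hS hR.1), A, fun α hα => ?_, hn⟩
      obtain ⟨f, hf, e⟩ := hA α hα
      obtain ⟨g, hg, e'⟩ := hf.exists_ext_radClosure hS hF hR
      exact ⟨g, hg, fun x hx => (e x hx).trans (e' x (hV hx)).symm⟩) hR.1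
    ⟨R, le_rfl, _, fun α hα => ⟨_, piso_pext_of_mem hR.1 hα, fun _ _ => rfl⟩, hn⟩
  refine hn (((h R h1 h2 h3 _ (isNormalizerSystem_normSys F R h1.1)).all
    (hV.trans (le_normalizerIn h1.1))).anti fun α hα => ?_)
  obtain ⟨f, hf, e⟩ := hA α hα
  exact mem_autGroup_of_mor
    ((hf.mor.mor_normSys le_rfl (le_normalizerIn h1.1) hf.img_eq).restrict hV) e

omit [Finite S] [Fact p.Prime]

theorem quad_conjAut_iff {g : Ω} (hg : g ∈ normalizer (R : Set Ω)) :
    (∀ a : R, conjAut R g hg a⁻¹ * a * conjAut R g hg a⁻¹ * conjAut R g hg (conjAut R g hg a) = 1) ↔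
      ⁅⁅R, zpowers g⁆, zpowers g⁆ = ⊥ := by
  have key : ∀ a : R, conjAut R g hg a⁻¹ * a * conjAut R g hg a⁻¹ *
      conjAut R g hg (conjAut R g hg a) = 1 ↔ ⁅(a : Ω)⁻¹, g⁆ ∈ centralizer (zpowers g : Set Ω) := by
    intro a
    rw [quad_iff, Subtype.ext_iff, zpowers_eq_closure, centralizer_closure,
      mem_centralizer_singleton_iff, conjAut_apply, coe_mul, conjAut_apply, coe_inv,
      mul_inv_eq_iff_eq_mul, commutatorElement_def, inv_inv, eq_comm]
    simp only [mul_assoc]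
  rw [commutator_eq_bot_iff_le_centralizer]
  refine ⟨fun h => Trans.TJ.commutator_zpowers_right_le (Trans.normalizer_le_normalizer_centralizer _
    (le_normalizer (mem_zpowers _))) fun v hv => ?_, fun h a => (key a).2
      (h (commutator_mem_commutator (R.inv_mem a.2) (mem_zpowers g)))⟩
  simpa using (key ⟨v⁻¹, R.inv_mem hv⟩).1 (h _)

theorem inPCoreModIn_iff_conjAut {g : Ω} (hg : g ∈ normalizer (R : Set Ω)) :
    Trans.InPCoreModIn p (normalizer (R : Set Ω)) (centralizer (R : Set Ω)) g ↔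
      conjAut R g hg ∈ pCoreIn p (autInducedBy ⊤ R) := by
  let f := R.normalizerMonoidHom
  have hf : ∀ x : normalizer (R : Set Ω), f x = 1 ↔ (x : Ω) ∈ centralizer (R : Set Ω) :=
    fun x => by rw [← MonoidHom.mem_ker, normalizerMonoidHom_ker, mem_subgroupOf]
  constructor
  · rintro ⟨K, h1, h2, h3, h4⟩
    refine le_pCoreIn (autInducedBy_mono le_top) ?_ ?_ (conjAut_mem_autInducedBy h3 hg)
    · rintro ⟨_, hx⟩
      obtain ⟨x, hx', hxn, rfl⟩ := mem_autInducedBy'.1 hx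
      obtain ⟨m, hm⟩ := h4 x hx'
      exact ⟨m, Subtype.ext ((map_pow f ⟨x, hxn⟩ _).symm.trans ((hf _).2 hm))⟩
    · intro a ha x hx
      obtain ⟨a, -, han, rfl⟩ := mem_autInducedBy'.1 ha
      obtain ⟨x, hx', hxn, rfl⟩ := mem_autInducedBy'.1 hx
      refine mem_autInducedBy'.2 ⟨a * x * a⁻¹, (mem_normalizer_iff.1 (h2 han) x).1 hx',
        mul_mem (mul_mem han hxn) (inv_mem han), ?_⟩
      change f ⟨a, han⟩ * f ⟨x, hxn⟩ * (f ⟨a, han⟩)⁻¹ = _
      rw [← map_inv, ← map_mul, ← map_mul]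
      rfl
  · intro h
    have : ((pCoreIn p (autInducedBy ⊤ R)).comap f).Normal := ⟨fun x hx a => by
      rw [mem_comap, map_mul, map_mul, map_inv]
      exact conj_mem_pCoreIn (conjAut_mem_autInducedBy (mem_top _) a.2) hx⟩
    refine ⟨((pCoreIn p (autInducedBy ⊤ R)).comap f).map (Subgroup.subtype _), map_subtype_le _,
      Solv.le_normalizer_map_subtype _, ⟨⟨g, hg⟩, h, rfl⟩, ?_⟩
    rintro _ ⟨x, hx, rfl⟩
    obtain ⟨m, hm⟩ := isPGroup_pCoreIn _ ⟨_, hx⟩
    exact ⟨m, (hf (x ^ p ^ m)).1 ((map_pow f x _).trans (congrArg Subtype.val hm))⟩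

theorem pStab_group_iff [Finite Ω] [Fact p.Prime] (P : Sylow p Ω) :
    IsNormalizerPStable p Ω ↔ PStab (groupFusionSystem (P : Subgroup Ω)) p := by
  rw [Trans.isNormalizerPStable_iff]
  refine ⟨fun h R hR χ hχ hq => ?_, fun h R hR g hg hq => ?_⟩
  · rw [Grp.autGroup_group_eq hR.1] at hχ ⊢
    obtain ⟨g, -, hg, rfl⟩ := mem_autInducedBy'.1 hχ
    exact (inPCoreModIn_iff_conjAut hg).1
      (h R (P.isPGroup'.to_le hR.1) g hg ((quad_conjAut_iff hg).1 hq))
  · obtain ⟨x, -, hx⟩ := (Trans.isSylowIn_top P).exists_cj_le hR le_top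
    have h1 := h.all hx
    have hg' : x * g * x⁻¹ ∈ normalizer (Trans.cj x R : Set Ω) := by
      rwa [← Trans.cj_normalizer, Trans.conj_mem_cj]
    rw [Grp.autGroup_group_eq hx] at h1
    have h2 := ((inPCoreModIn_iff_conjAut hg').2 (h1 _ (conjAut_mem_autInducedBy (mem_top _) _)
      ((quad_conjAut_iff hg').2 (by
        rw [← Trans.cj_zpowers, ← Trans.cj_commutator, ← Trans.cj_commutator, hq,
          Trans.cj_bot])))).map (MulAut.conj x⁻¹).toMonoidHom
    change Trans.InPCoreModIn p (Trans.cj _ _) (Trans.cj _ _) _ at h2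
    rw [Trans.cj_normalizer, Trans.cj_centralizer, ← Trans.cj_mul, inv_mul_cancel,
      Trans.cj_one] at h2
    simpa [mul_assoc] using h2

end Cfsg.Lib.Fus
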