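import Mathlib.GroupTheory.Sylow
import Mathlib.GroupTheory.QuotientGroup.Basic

/-!
Lifting conjugation into a Sylow subgroup from a quotient group.
-/

set_option autoImplicit false

namespace Cfsg.Lib.Fus

/-- A `p`-subgroup of a subgroup `H` containing the Sylow subgroup `S` is `H`-conjugate into `S`. -/
theorem exists_conj_le_sylow_of_le {G : Type*} [Group G] [Finite G] {p : ℕ} [Fact p.Prime]
    (S : Sylow p G) (H Q : Subgroup G) (hSH : (S : Subgroup G) ≤ H) (hQH : Q ≤ H)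
    (hQ : IsPGroup p Q) : ∃ h ∈ H, ∀ x ∈ Q, h * x * h⁻¹ ∈ (S : Subgroup G) := by
  have hQ' : IsPGroup p (Q.subgroupOf H) := hQ.comap_subtype
  obtain ⟨R, hR⟩ := hQ'.exists_le_sylow
  obtain ⟨h, hh⟩ := MulAction.exists_smul_eq H R (S.subtype hSH)
  refine ⟨h, h.2, fun x hx => ?_⟩
  have h1 : (⟨x, hQH hx⟩ : H) ∈ (R : Subgroup H) := hR (Subgroup.mem_subgroupOf.2 hx)
  have h2 : h * (⟨x, hQH hx⟩ : H) * h⁻¹ ∈ ((h • R : Sylow p H) : Subgroup H) := by
    rw [Sylow.coe_subgroup_smul]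
    exact Subgroup.smul_mem_pointwise_smul _ _ _ h1
  rw [hh, Sylow.coe_subtype, Subgroup.mem_subgroupOf] at h2
  exact h2

/-- A `p`-subgroup of `S N` (`S` Sylow, `N` normal) is conjugate into `S` by an element of `N`. -/
theorem exists_normal_conj_le_sylow {G : Type*} [Group G] [Finite G] {p : ℕ} [Fact p.Prime]
    (S : Sylow p G) (N Q : Subgroup G) [N.Normal] (hQH : Q ≤ (S : Subgroup G) ⊔ N)
    (hQ : IsPGroup p Q) : ∃ n ∈ N, ∀ x ∈ Q, n * x * n⁻¹ ∈ (S : Subgroup G) := by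
  obtain ⟨h, hh, H⟩ := exists_conj_le_sylow_of_le S _ Q le_sup_left hQH hQ
  obtain ⟨s, hs, n, hn, rfl⟩ := Subgroup.mem_sup_of_normal_right.1 hh
  refine ⟨n, hn, fun x hx => ?_⟩
  have := (S : Subgroup G).mul_mem ((S : Subgroup G).mul_mem ((S : Subgroup G).inv_mem hs) (H x hx)) hs
  simpa [mul_assoc] using this

/-- Conjugation of the image of a `p`-subgroup into the image of a Sylow subgroup in `G/N` lifts
to `G`. -/
theorem exists_lift_conj_quotient {G : Type*} [Group G] [Finite G] {p : ℕ} [Fact p.Prime]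
    (S : Sylow p G) (N P : Subgroup G) [N.Normal] (hP : IsPGroup p P) (γ : G ⧸ N)
    (hγ : ∀ x ∈ P, γ * QuotientGroup.mk x * γ⁻¹ ∈ (S : Subgroup G).map (QuotientGroup.mk' N)) :
    ∃ g : G, (QuotientGroup.mk g : G ⧸ N) = γ ∧ ∀ x ∈ P, g * x * g⁻¹ ∈ (S : Subgroup G) := by
  obtain ⟨g, rfl⟩ := QuotientGroup.mk_surjective γ
  have hQ : IsPGroup p (P.map (MulAut.conj g).toMonoidHom) := hP.map _
  have hle : P.map (MulAut.conj g).toMonoidHom ≤ (S : Subgroup G) ⊔ N := by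
    rintro _ ⟨x, hx, rfl⟩
    obtain ⟨s, hs, hs'⟩ := hγ x hx
    have : (QuotientGroup.mk s : G ⧸ N) = QuotientGroup.mk (g * x * g⁻¹) := by
      simpa using hs'
    rw [QuotientGroup.eq] at this
    have h2 : g * x * g⁻¹ = s * (s⁻¹ * (g * x * g⁻¹)) := by group
    change g * x * g⁻¹ ∈ _
    rw [h2]
    exact Subgroup.mul_mem_sup hs this
  obtain ⟨n, hn, H⟩ := exists_normal_conj_le_sylow S N _ hle hQ
  refine ⟨n * g, ?_, fun x hx => ?_⟩
  · rw [QuotientGroup.mk_mul, (QuotientGroup.eq_one_iff n).2 hn, one_mul]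
  · have := H (g * x * g⁻¹) ⟨x, hx, rfl⟩
    simpa [mul_assoc] using this

end Cfsg.Lib.Fus
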