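import Cfsg.Agent.Fus.R3Inv
import Cfsg.Agent.Trans.ClassTwo

/-! Elementary abelian subgroups in groups of sectional rank three. -/

namespace Cfsg.Lib.Fus.R3

open Subgroup Cfsg.Lib.Solv Cfsg.Lib.Fus.Ess
open scoped commutatorElement

variable {G : Type*} [Group G] {p : ℕ} {D E H M N U W X Y Z : Subgroup G}
  {A : Subgroup (MulAut E)} {a β : MulAut E} {g s u v x y z : G}

/-- `X` is elementary abelian. -/
structure EA (p : ℕ) (X : Subgroup G) : Prop where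
  comm : ∀ a ∈ X, ∀ b ∈ X, a * b = b * a
  pow : ∀ a ∈ X, a ^ p = 1

theorem EA.mono (h : EA p X) (hY : Y ≤ X) : EA p Y :=
  ⟨fun a ha b hb => h.comm a (hY ha) b (hY hb), fun a ha => h.pow a (hY ha)⟩

theorem comm_eq_one : ⁅x, y⁆ = 1 ↔ x * y = y * x := commutatorElement_eq_one_iff_mul_comm

theorem EA.sup (h : EA p X) (h' : EA p Y) (hc : ∀ a ∈ X, ∀ b ∈ Y, a * b = b * a) :
    EA p (X ⊔ Y) := by
  have h1 : ∀ g ∈ X ⊔ Y, ∃ k ∈ X, ∃ l ∈ Y, g = k * l := fun g hg =>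
    (PG.mem_sup_iff_of_le_normalizer (le_trans (fun b hb => mem_centralizer_iff.2
      fun a ha => hc a ha b hb) (centralizer_le_normalizer _))).1 hg
  refine ⟨fun a ha b hb => ?_, fun a ha => ?_⟩
  · obtain ⟨k, hk, l, hl, rfl⟩ := h1 a ha
    obtain ⟨k', hk', l', hl', rfl⟩ := h1 b hb
    exact (Commute.mul_left (Commute.mul_right (h.comm k hk k' hk') (hc k hk l' hl'))
      (Commute.mul_right (hc k' hk' l hl).symm (h'.comm l hl l' hl'))).eq
  · obtain ⟨k, hk, l, hl, rfl⟩ := h1 a ha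
    rw [Commute.mul_pow (hc k hk l hl), h.pow k hk, h'.pow l hl, mul_one]

theorem ea_zpowers (hx : x ^ p = 1) : EA p (zpowers x) :=
  ⟨by rintro _ ⟨m, rfl⟩ _ ⟨n, rfl⟩; exact (Commute.zpow_zpow_self x m n).eq, by
    rintro _ ⟨m, rfl⟩; rw [← zpow_natCast, ← zpow_mul, mul_comm, zpow_mul, zpow_natCast, hx,
      one_zpow]⟩

theorem EA.sup_zpowers (h : EA p X) (hx : x ^ p = 1) (hc : ∀ a ∈ X, a * x = x * a) :
    EA p (X ⊔ zpowers x) := h.sup (ea_zpowers hx) (by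
  rintro a ha _ ⟨m, rfl⟩; exact (Commute.zpow_right (hc a ha) m).eq)

/-- The central elements of order dividing `p`. -/
def Zo (p : ℕ) (G : Type*) [Group G] : Subgroup G where
  carrier := {z | z ∈ center G ∧ z ^ p = 1}
  one_mem' := ⟨one_mem _, one_pow p⟩
  mul_mem' := fun {a b} ha hb => ⟨mul_mem ha.1 hb.1, by
    rw [Commute.mul_pow (mem_center_iff.1 hb.1 a), ha.2, hb.2, mul_one]⟩
  inv_mem' := fun ha => ⟨inv_mem ha.1, by rw [inv_pow, ha.2, inv_one]⟩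

theorem normal_of_le_center (h : X ≤ center G) : X.Normal :=
  ⟨fun x hx g => by rwa [mem_center_iff.1 (h hx) g, mul_inv_cancel_right]⟩

instance zo_normal : (Zo p G).Normal := normal_of_le_center fun _ h => h.1

theorem zo_comm (hz : z ∈ Zo p G) (g : G) : g * z = z * g := mem_center_iff.1 hz.1 g

/-- The elements commuting with `s` modulo `N`. -/
def cen (s : G) (N : Subgroup G) [hN : N.Normal] : Subgroup G where
  carrier := {x | ⁅s, x⁆ ∈ N}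
  one_mem' := by simp
  mul_mem' := fun {a b} ha hb => by
    have := mul_mem ha (hN.conj_mem _ hb a)
    rwa [show ⁅s, a⁆ * (a * ⁅s, b⁆ * a⁻¹) = ⁅s, a * b⁆ by group] at this
  inv_mem' := fun {a} ha => by
    have := hN.conj_mem' _ (inv_mem ha) a
    rwa [show a⁻¹ * ⁅s, a⁆⁻¹ * a = ⁅s, a⁻¹⁆ by group] at this

theorem mem_cen [N.Normal] : x ∈ cen s N ↔ ⁅s, x⁆ ∈ N := Iff.rfl

theorem self_mem_cen [N.Normal] : s ∈ cen s N := mem_cen.2 (by simp)

theorem mem_cen_of_comm [N.Normal] (h : s * x = x * s) : x ∈ cen s N :=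
  mem_cen.2 (comm_eq_one.2 h ▸ one_mem N)

theorem comm_mul_of_comm {e f : G} (h2 : u * f = f * u) (h3 : u * v = v * u)
    (h4 : v * e = e * v) : ⁅e * u, f * v⁆ = ⁅e, f⁆ := by
  have h6 : u * (f * v) * u⁻¹ = f * v := by
    rw [(Commute.mul_right h2 h3).eq, mul_inv_cancel_right]
  have h7 : v * e⁻¹ * v⁻¹ = e⁻¹ := by rw [(Commute.inv_right h4).eq, mul_inv_cancel_right]
  calc ⁅e * u, f * v⁆ = e * (u * (f * v) * u⁻¹) * e⁻¹ * (f * v)⁻¹ := by group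
    _ = e * f * (v * e⁻¹ * v⁻¹) * f⁻¹ := by rw [h6]; group
    _ = ⁅e, f⁆ := by rw [h7]; group

variable [Finite G]

theorem card_le_cen [N.Normal] (hNM : N ≤ M) (h : ∀ x ∈ H, ⁅v, x⁆ ∈ M) {k : ℕ}
    (hc : Nat.card M ≤ k * Nat.card N) : Nat.card H ≤ k * Nat.card ↥(cen v N ⊓ H) := by
  rw [← PG.relIndex_mul_card_inf (cen v N) H]
  refine Nat.mul_le_mul_right _ (le_trans ?_ (Nat.le_of_mul_le_mul_right
    ((PG.relIndex_mul_card hNM).trans_le hc) Nat.card_pos))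
  refine Nat.card_le_card_of_injective (fun q : H ⧸ (cen v N).subgroupOf H =>
    (QuotientGroup.mk ⟨_, h _ q.out.2⟩ : M ⧸ N.subgroupOf M)) fun q r e => ?_
  rw [← q.out_eq', ← r.out_eq', QuotientGroup.eq]
  have := Normal.conj_mem' inferInstance _ (mem_subgroupOf.1 (QuotientGroup.eq.1 e))
    (q.out.1 : G)
  refine mem_subgroupOf.2 (mem_cen.2 ?_)
  convert this using 1
  simp only [coe_mul, coe_inv]; group

variable [hp : Fact p.Prime]

theorem ea_iff (hG : IsPGroup p G) : EA p X ↔ Phi X ≤ ⊥ :=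
  ⟨fun h => phi_le_of hG (fun a ha b hb => comm_eq_one.2 (h.comm a ha b hb)) h.pow, fun h =>
    ⟨fun _ ha _ hb => comm_eq_one.1 (h (comm_mem_phi hG ha hb)), fun _ ha => h (pow_mem_phi hG ha)⟩⟩

theorem EA.card_le (h : EA p X) (hG : IsPGroup p G) (sr : SectionalPRankLE p 3 G) :
    Nat.card X ≤ p ^ 3 := by simpa using card_le_of_secRank hG sr bot_le ((ea_iff hG).1 h)

theorem EA.mem_of_comm (h : EA p X) (hG : IsPGroup p G) (sr : SectionalPRankLE p 3 G)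
    (hc : p ^ 3 ≤ Nat.card X) (hx : x ^ p = 1) (h1 : ∀ a ∈ X, a * x = x * a) : x ∈ X :=
  (eq_of_le_of_card_le le_sup_left (((h.sup_zpowers hx h1).card_le hG sr).trans hc)).ge
    (mem_sup_right (mem_zpowers x))

theorem card_le_or (hG : IsPGroup p G) (X : Subgroup G) (k : ℕ) :
    Nat.card X ≤ p ^ k ∨ p ^ (k + 1) ≤ Nat.card X := by
  obtain ⟨n, hn⟩ := IsPGroup.iff_card.1 (hG.to_subgroup X)
  rw [hn]
  exact (le_or_gt n k).imp (Nat.pow_le_pow_right hp.out.pos) (Nat.pow_le_pow_right hp.out.pos)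

theorem zo_le (hG : IsPGroup p G) (hc : Nat.card (Zo p G) ≤ p) [N.Normal] (hN : N ≠ ⊥) :
    Zo p G ≤ N := by
  obtain ⟨z, h1, h2, h3⟩ := PG.exists_mem_center_orderOf_eq hG N hN
  exact (eq_of_le_of_card_le (zpowers_le.2 (show z ∈ Zo p G from ⟨h2, h3 ▸ pow_orderOf_eq_one z⟩))
    (by rwa [Nat.card_zpowers, h3])).ge.trans (zpowers_le.2 h1)

theorem comm_of_card_le (hG : IsPGroup p G) (hUY : U ≤ Y) (h : ∀ u ∈ U, ∀ y ∈ Y, u * y = y * u)
    (hc : Nat.card Y ≤ p * Nat.card U) : ∀ a ∈ Y, ∀ b ∈ Y, a * b = b * a := fun a ha b hb => by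
  by_cases h1 : a ∈ U
  · exact h a h1 b hb
  · have h2 : U ⊔ zpowers a ≤ Y := sup_le hUY (zpowers_le.2 ha)
    have h3 := mul_card_le hG (le_sup_left (b := zpowers a)) fun e : U = _ =>
      h1 (e.ge (mem_sup_right (mem_zpowers a)))
    exact comm_eq_one.1 ((eq_of_le_of_card_le h2 (hc.trans h3)).ge.trans (sup_le
      (fun u hu => mem_cen_of_comm (N := ⊥) (h u hu a ha).symm) (zpowers_le.2 self_mem_cen)) hb)

theorem phi_le_of_mul (hG : IsPGroup p G) (hD : D ≤ E) (hU : U ≤ E)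
    (h : ∀ u ∈ U, u ^ p = 1 ∧ ∀ e ∈ E, u * e = e * u) (h1 : ∀ e ∈ E, ∃ d ∈ D, ∃ u ∈ U, e = d * u) :
    Phi E ≤ Phi D := phi_le_of hG (fun e he f hf => by
      obtain ⟨d, hd, u, hu, rfl⟩ := h1 e he
      obtain ⟨d', hd', v, hv, rfl⟩ := h1 f hf
      rw [comm_mul_of_comm ((h u hu).2 d' (hD hd')) ((h u hu).2 v (hU hv)) ((h v hv).2 d (hD hd))]
      exact comm_mem_phi hG hd hd') fun e he => by
  obtain ⟨d, hd, u, hu, rfl⟩ := h1 e he
  rw [Commute.mul_pow ((h u hu).2 d (hD hd)).symm, (h u hu).1, mul_one]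
  exact pow_mem_phi hG hd

omit [Finite G] in
/-- The collection formula modulo a normal subgroup. -/
theorem mul_pow_mem (hp2 : p ≠ 2) [N.Normal] (h1 : ⁅⁅y, x⁆, x⁆ ∈ N) (h2 : ⁅⁅y, x⁆, y⁆ ∈ N)
    (h3 : ⁅y, x⁆ ^ p ∈ N) : (x ^ p * y ^ p)⁻¹ * (x * y) ^ p ∈ N := by
  let π := QuotientGroup.mk' N
  have k : ∀ a, a ∈ N → π a = 1 := fun a => (QuotientGroup.eq_one_iff a).2
  have := Trans.mul_pow_of_odd_of_commutator_pow_eq_one (x := π x) (y := π y)
    (comm_eq_one.1 (by simpa only [map_commutatorElement] using k _ h1))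
    (comm_eq_one.1 (by simpa only [map_commutatorElement] using k _ h2))
    (hp.out.odd_of_ne_two hp2) (by simpa only [map_commutatorElement, map_pow] using k _ h3)
  refine QuotientGroup.eq.1 (show π _ = π _ from ?_)
  rw [map_mul, map_pow, map_pow, map_pow, map_mul, this]

theorem exp_cl (hp2 : p ≠ 2) (hZ : PInv A Z) (hX : X ≤ E)
    (h : ∀ z ∈ Z, z ^ p = 1 ∧ ∀ e ∈ E, z * e = e * z)
    (h1 : ∀ x ∈ X, x ^ p = 1 ∧ ∀ e ∈ E, ⁅x, e⁆ ∈ Z) :
    ∀ v ∈ cl A X, v ∈ E ∧ v ^ p = 1 ∧ ∀ e ∈ E, ⁅v, e⁆ ∈ Z := by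
  refine cl_le_iff (Y := subgroupOfFinite {v | v ∈ E ∧ v ^ p = 1 ∧ ∀ e ∈ E, ⁅v, e⁆ ∈ Z}
    ⟨one_mem _, one_pow p, by simp⟩ fun u v hu hv => ⟨mul_mem hu.1 hv.1, ?_, fun e he => ?_⟩).2
    fun a ha x hx => ⟨pmem a (hX hx), ?_, fun e he => ?_⟩
  · have h2 := h _ (hv.2.2 u hu.1)
    rw [Trans.mul_pow_of_odd_of_commutator_pow_eq_one (h2.2 u hu.1) (h2.2 v hv.1)
      (hp.out.odd_of_ne_two hp2) h2.1, hu.2.1, hv.2.1, mul_one]
  · rw [commutatorElement_mul_left_eq_conj_mul, ← (h _ (hv.2.2 e he)).2 u hu.1,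
      mul_inv_cancel_right]
    exact mul_mem (hv.2.2 e he) (hu.2.2 e he)
  · rw [← ppow a (hX hx), (h1 x hx).1, pone]
  · have := hZ a ha _ ((h1 x hx).2 _ (pmem a⁻¹ he))
    rwa [pcomm a (hX hx) (pmem _ he), p_apply_inv] at this

namespace Loc

variable (h : Loc p E A)
include h

omit [Finite G] in
theorem mem_center_of (h1 : ∀ e ∈ E, e * x = x * e) (hs : s ∉ E) (h2 : s * x = x * s) :
    x ∈ center G := mem_center_iff.2 fun g => (comm_eq_one.1 (h.top_le (X := cen x ⊥)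
  (fun e he => mem_cen_of_comm (h1 e he).symm) hs (mem_cen_of_comm h2.symm) (mem_top g))).symm

theorem zo_le_E : Zo p G ≤ E := fun _ hz => h.center_le hz.1

theorem prime_le_zo : p ≤ Nat.card (Zo p G) := by
  obtain ⟨z, -, h2, h3⟩ := PG.exists_mem_center_orderOf_eq h.pg ⊤ fun e =>
    h.coatom.1 (eq_top_iff.2 (e.le.trans bot_le))
  have := card_le_card_of_le (zpowers_le.2 (show z ∈ Zo p G from ⟨h2, h3 ▸ pow_orderOf_eq_one z⟩))
  rwa [Nat.card_zpowers, h3] at this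

theorem zo_ne_bot : Zo p G ≠ ⊥ := fun e => by
  have := h.prime_le_zo
  rw [e, card_bot] at this
  exact hp.out.one_lt.not_ge this

omit [Finite G] in
theorem exists_mul (hX : ¬ X ≤ E) (g : G) : ∃ e ∈ E, ∃ x ∈ X, g = e * x :=
  have := h.normal
  (PG.mem_sup_iff_of_le_normalizer (le_top.trans (normalizer_eq_top E).ge)).1
    ((h.sup_eq_top hX).ge (mem_top g))

theorem card_inf (hX : ¬ X ≤ E) : Nat.card X = p * Nat.card ↥(E ⊓ X) := by
  have := h.normal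
  have h1 := PG.card_sup_mul_card_inf (K := E) (H := X) (le_top.trans (normalizer_eq_top E).ge)
  rw [h.sup_eq_top hX, card_top, h.card, mul_right_comm, mul_comm (Nat.card E)] at h1
  exact (Nat.eq_of_mul_eq_mul_right Nat.card_pos h1).symm

theorem cl_zo (hp2 : p ≠ 2) (hu : u ∈ cl A (Zo p G)) :
    u ∈ E ∧ u ^ p = 1 ∧ ∀ e ∈ E, u * e = e * u := by
  have := exp_cl hp2 (pInv_bot (A := A)) h.zo_le_E (by simp)
    (fun x hx => ⟨hx.2, fun e _ => comm_eq_one.2 (zo_comm hx e).symm⟩) u hu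
  exact ⟨this.1, this.2.1, fun e he => comm_eq_one.1 (this.2.2 e he)⟩

theorem mem_of_comm_cl (hp2 : p ≠ 2) (hn : ¬ PInv A (Zo p G))
    (hs : ∀ u ∈ cl A (Zo p G), s * u = u * s) : s ∈ E := by
  by_contra h1
  exact hn fun a ha z hz => have h2 := h.cl_zo hp2 (mem_cl ha hz)
    ⟨h.mem_center_of (fun e he => (h2.2.2 e he).symm) h1 (hs _ (mem_cl ha hz)), h2.2.1⟩

theorem card_cl_zo (hn : ¬ PInv A (Zo p G)) :
    p * Nat.card (Zo p G) ≤ Nat.card (cl A (Zo p G)) :=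
  mul_card_le h.pg le_cl fun e => hn (e ▸ pInv_cl h.zo_le_E)

theorem fx_of_center (hX : X ≤ center G) (hi : PInv A X) : Fx A X ⊥ :=
  h.fx_of_comm hi pInv_bot (hX.trans h.center_le) fun g x hx => by
    rw [mem_center_iff.1 (hX hx) g]; simp

omit [Finite G] hp in
theorem le_center_of_fx (hX : X ≤ E) (hf : Fx A X ⊥) : X ≤ center G := fun x hx =>
  mem_center_iff.2 fun g => by
    have := hf.eq (h.cA_mem g) hx
    rwa [pext_cA _ _ (hX hx), mul_inv_eq_iff_eq_mul] at this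

theorem not_ea_of_comm (sr : SectionalPRankLE p 3 G) (hc : Nat.card (Zo p G) ≤ p)
    (hn : ¬ PInv A (Zo p G)) (hY : EA p Y) (hYE : Y ≤ E) (h1 : p ^ 3 ≤ Nat.card Y)
    (h2 : ∀ y ∈ Y, ∀ e ∈ E, ⁅y, e⁆ ∈ Zo p G) (hy : y ∈ Y) (hx : x ∈ E) : y * x = x * y := by
  obtain ⟨a, ha, z, hz, h3⟩ : ∃ a ∈ A, ∃ z ∈ Zo p G, pext E a z ∉ Zo p G := by
    by_contra! h3
    exact hn h3
  have h4 : ∀ w ∈ Zo p G, pext E a w ∈ Zo p G → w = 1 := fun w hw hw' => by
    by_contra h5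
    have := normal_of_le_center (zpowers_le.2 hw.1)
    exact h3 (mem_preS.1 (zpowers_le.2 (mem_preS.2 ⟨h.zo_le_E hw, hw'⟩)
      (zo_le h.pg hc (zpowers_ne_bot.2 h5) hz))).2
  have h5 : pext E a y ∈ Y := hY.mem_of_comm h.pg sr h1
    (by rw [← ppow a (hYE hy), hY.pow y hy, pone]) fun b hb => by
      have h6 := h4 _ (comm_symm (h2 y hy _ (pmem a⁻¹ (hYE hb)))) (by
        rw [pcomm a (pmem _ (hYE hb)) (hYE hy), p_apply_inv]; exact h2 b hb _ (pmem a (hYE hy)))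
      have h7 := congrArg (pext E a) h6
      rwa [pcomm a (pmem _ (hYE hb)) (hYE hy), p_apply_inv, pone, comm_eq_one] at h7
  exact comm_eq_one.1 (h4 _ (h2 y hy x hx) (by
    rw [pcomm a (hYE hy) hx]; exact h2 _ h5 _ (pmem a hx)))

end Loc

end Cfsg.Lib.Fus.R3
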