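import Cfsg.Agent.Fus.EssTor2
import Cfsg.Agent.Fus.Res
import Cfsg.Agent.Solv.SecRank

/-! A maximal subgroup of a `p`-group with a group of automorphisms generated by `p`-elements. -/

namespace Cfsg.Lib.Fus.R3

open Subgroup Cfsg.Lib.Solv Cfsg.Lib.Fus.Ess
open scoped commutatorElement

variable {G : Type*} [Group G] {p : ℕ} {E W X Y Z : Subgroup G} {A : Subgroup (MulAut E)}
  {a β : MulAut E} {g s x y : G}

/-- `X` is invariant under `A`. -/
def PInv (A : Subgroup (MulAut E)) (X : Subgroup G) : Prop := ∀ a ∈ A, ∀ x ∈ X, pext E a x ∈ X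

/-- The `p'`-elements of `A` act trivially on `X / Y`. -/
def PA (p : ℕ) (A : Subgroup (MulAut E)) (X Y : Subgroup G) : Prop :=
  ∀ β ∈ A, (orderOf β).Coprime p → ∀ x ∈ X, x⁻¹ * pext E β x ∈ Y

/-- `A` acts trivially on `X / Y`. -/
def Fx (A : Subgroup (MulAut E)) (X Y : Subgroup G) : Prop :=
  ∀ a ∈ A, ∀ x ∈ X, x⁻¹ * pext E a x ∈ Y

/-- The Frattini subgroup of a subgroup. -/
abbrev Phi (X : Subgroup G) : Subgroup G := (frattini X).map X.subtype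

/-- The preimage of `Y` under `a`. -/
def preS (a : MulAut E) (Y : Subgroup G) : Subgroup G :=
  ((Y.subgroupOf E).comap a.toMonoidHom).map E.subtype

theorem mem_preS : x ∈ preS a Y ↔ x ∈ E ∧ pext E a x ∈ Y :=
  ⟨by rintro ⟨x, hx, rfl⟩; exact ⟨x.2, by rw [coe_subtype, pext_coe]; exact hx⟩,
    fun h => ⟨⟨x, h.1⟩, by have := h.2; rwa [pext_of_mem a h.1] at this, rfl⟩⟩

theorem pmem (a : MulAut E) (hx : x ∈ E) : pext E a x ∈ E := (pext_mem_iff a x).2 hx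

theorem pmul (a : MulAut E) (hx : x ∈ E) (hy : y ∈ E) :
    pext E a (x * y) = pext E a x * pext E a y := (mulOn_pext a).map_mul hx hy

theorem pinv' (a : MulAut E) (hx : x ∈ E) : pext E a x⁻¹ = (pext E a x)⁻¹ :=
  (mulOn_pext a).map_inv hx

theorem ppow (a : MulAut E) (hx : x ∈ E) (n : ℕ) : pext E a (x ^ n) = pext E a x ^ n :=
  (mulOn_pext a).map_pow hx n

theorem pcomm (a : MulAut E) (hx : x ∈ E) (hy : y ∈ E) :
    pext E a ⁅x, y⁆ = ⁅pext E a x, pext E a y⁆ := (mulOn_pext a).map_commutatorElement hx hy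

theorem pone (a : MulAut E) : pext E a 1 = 1 := (mulOn_pext a).map_one

theorem p_inv_apply (a : MulAut E) (x : G) : pext E a⁻¹ (pext E a x) = x := by
  rw [map_inv, perm_inv_apply]

theorem p_apply_inv (a : MulAut E) (x : G) : pext E a (pext E a⁻¹ x) = x := by
  rw [map_inv, perm_apply_inv]

theorem p_mul_apply (a b : MulAut E) (x : G) : pext E (a * b) x = pext E a (pext E b x) := by
  rw [map_mul, Equiv.Perm.mul_apply]

theorem PInv.aInv (h : PInv A X) : AInv A (X.subgroupOf E) := fun a ha x hx => by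
  have := h a ha x hx
  rwa [pext_coe] at this

theorem pInv_of_aInv (hX : X ≤ E) (h : AInv A (X.subgroupOf E)) : PInv A X := fun a ha x hx => by
  rw [pext_of_mem a (hX hx)]; exact h a ha ⟨x, hX hx⟩ hx

theorem pInv_map_subtype {V : Subgroup E} (h : AInv A V) : PInv A (V.map E.subtype) := by
  rintro a ha _ ⟨x, hx, rfl⟩
  exact ⟨a x, h a ha x hx, (pext_coe a x).symm⟩

theorem pInv_self : PInv A E := fun a _ _ hx => pmem a hx

theorem pInv_bot : PInv A ⊥ := fun a _ x hx => by rw [mem_bot.1 hx, pone]; exact one_mem _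

theorem PInv.mem_iff (h : PInv A X) (ha : a ∈ A) : pext E a x ∈ X ↔ x ∈ X :=
  ⟨fun hx => p_inv_apply a x ▸ h _ (inv_mem ha) _ hx, h a ha x⟩

theorem PInv.inf (h : PInv A X) (h' : PInv A Y) : PInv A (X ⊓ Y) :=
  fun a ha x hx => ⟨h a ha x hx.1, h' a ha x hx.2⟩

theorem pInv_of_le (h : ∀ a ∈ A, X ≤ preS a X) : PInv A X :=
  fun a ha _ hx => (mem_preS.1 (h a ha hx)).2

theorem PInv.sup (h : PInv A X) (h' : PInv A Y) (hX : X ≤ E) (hY : Y ≤ E) : PInv A (X ⊔ Y) :=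
  pInv_of_le fun a ha => sup_le (fun x hx => mem_preS.2 ⟨hX hx, mem_sup_left (h a ha x hx)⟩)
    fun x hx => mem_preS.2 ⟨hY hx, mem_sup_right (h' a ha x hx)⟩

theorem PInv.commutator (h : PInv A X) (h' : PInv A Y) (hX : X ≤ E) (hY : Y ≤ E) :
    PInv A ⁅X, Y⁆ := pInv_of_le fun a ha => commutator_le.2 fun x hx y hy => mem_preS.2
  ⟨mul_mem (mul_mem (mul_mem (hX hx) (hY hy)) (inv_mem (hX hx))) (inv_mem (hY hy)), by
    rw [pcomm a (hX hx) (hY hy)]; exact commutator_mem_commutator (h a ha x hx) (h' a ha y hy)⟩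

/-- The elements of `E` centralizing `X` modulo `Y`. -/
theorem PInv.commLe (h : PInv A X) (h' : PInv A Y) (hX : X ≤ E) [Y.Normal] :
    PInv A (E ⊓ commLe X Y) := fun a ha e he => ⟨pmem a he.1, by rw [normalizer_eq_top]; trivial,
  fun x hx => by
    have := h' a ha _ (he.2.2 _ (h _ (inv_mem ha) x hx))
    rwa [pcomm a he.1 (pmem _ (hX hx)), p_apply_inv] at this⟩

theorem mem_commLe [Y.Normal] : g ∈ commLe X Y ↔ ∀ x ∈ X, ⁅g, x⁆ ∈ Y :=
  ⟨fun h => h.2, fun h => ⟨by rw [normalizer_eq_top]; trivial, h⟩⟩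

instance commLe_normal [X.Normal] [hY : Y.Normal] : (commLe X Y).Normal := ⟨fun n hn g =>
  mem_commLe.2 fun x hx => by
    have := hY.conj_mem _ (mem_commLe.1 hn _ (Normal.conj_mem' inferInstance x hx g)) g
    rwa [show g * ⁅n, g⁻¹ * x * g⁆ * g⁻¹ = ⁅g * n * g⁻¹, x⁆ by group] at this⟩

/-- The closure of `X` under `A`. -/
def cl (A : Subgroup (MulAut E)) (X : Subgroup G) : Subgroup G :=
  closure {y | ∃ a ∈ A, ∃ x ∈ X, y = pext E a x}

theorem mem_cl (ha : a ∈ A) (hx : x ∈ X) : pext E a x ∈ cl A X := subset_closure ⟨a, ha, x, hx, rfl⟩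

theorem le_cl : X ≤ cl A X := fun x hx => by simpa using mem_cl A.one_mem hx

theorem cl_le_iff : cl A X ≤ Y ↔ ∀ a ∈ A, ∀ x ∈ X, pext E a x ∈ Y :=
  ⟨fun h _ ha _ hx => h (mem_cl ha hx), fun h => (closure_le _).2 (by
    rintro _ ⟨a, ha, x, hx, rfl⟩; exact h a ha x hx)⟩

theorem cl_le (h : PInv A Y) (hXY : X ≤ Y) : cl A X ≤ Y :=
  cl_le_iff.2 fun a ha x hx => h a ha x (hXY hx)

theorem pInv_cl (hX : X ≤ E) : PInv A (cl A X) := pInv_of_le fun a ha => cl_le_iff.2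
  fun b hb x hx => mem_preS.2 ⟨pmem b (hX hx), p_mul_apply a b x ▸ mem_cl (mul_mem ha hb) hx⟩

theorem Fx.pa (h : Fx A X Y) : PA p A X Y := fun β hβ _ => h β hβ

theorem Fx.mono (h : Fx A X Y) (hX : W ≤ X) (hY : Y ≤ Z) : Fx A W Z :=
  fun a ha x hx => hY (h a ha x (hX hx))

theorem Fx.eq (h : Fx A X ⊥) (ha : a ∈ A) (hx : x ∈ X) : pext E a x = x :=
  (inv_mul_eq_one.1 (mem_bot.1 (h a ha x hx))).symm

theorem Fx.pInv (h : Fx A X Y) (hYW : Y ≤ W) (hW : W ≤ X) : PInv A W := fun a ha x hx => by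
  simpa using mul_mem hx (hYW (h a ha x (hW hx)))

theorem PA.mono (h : PA p A X Y) (hX : W ≤ X) (hY : Y ≤ Z) : PA p A W Z :=
  fun a ha hc x hx => hY (h a ha hc x (hX hx))

theorem PA.eq (h : PA p A X ⊥) (ha : a ∈ A) (hc : (orderOf a).Coprime p) (hx : x ∈ X) :
    pext E a x = x := (inv_mul_eq_one.1 (mem_bot.1 (h a ha hc x hx))).symm

theorem PA.triv (h : PA p A X Y) (ha : a ∈ A) (hc : (orderOf a).Coprime p) :
    Triv a (X.subgroupOf E) (Y.subgroupOf E) :=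
  triv_subgroupOf_iff.2 fun x _ hx => h a ha hc x hx

theorem pa_of_triv (hX : X ≤ E) (h : ∀ a ∈ A, (orderOf a).Coprime p →
    Triv a (X.subgroupOf E) (Y.subgroupOf E)) : PA p A X Y :=
  fun a ha hc x hx => triv_subgroupOf_iff.1 (h a ha hc) x (hX hx) hx

theorem pa_of_ptr (hX : X ≤ E) (h : ∀ t ∈ A, PTr p A t (X.subgroupOf E) (Y.subgroupOf E)) :
    PA p A X Y := pa_of_triv hX fun a ha hc =>
  let ⟨_, _, _, h3, h4⟩ := h a ha
  h4 a h3 hc

theorem PA.ptr (h : PA p A X Y) (ha : a ∈ A) : PTr p A a (X.subgroupOf E) (Y.subgroupOf E) :=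
  pt_of_forall ha fun _ hβ hc => h.triv hβ hc

/-- The conjugation action on a normal subgroup. -/
def cA (hn : E.Normal) : G →* MulAut E := @MulAut.conjNormal _ _ E hn

theorem pext_cA (hn : E.Normal) (g : G) (hx : x ∈ E) : pext E (cA hn g) x = g * x * g⁻¹ := by
  rw [pext_of_mem _ hx]; rfl

theorem conj_cA (hn : E.Normal) (a : MulAut E) (hx : x ∈ E) :
    a * cA hn x * a⁻¹ = cA hn (pext E a x) := aut_ext_pext fun y hy => by
  rw [p_mul_apply, p_mul_apply, pext_cA hn _ (pmem _ hy), pext_cA hn _ hy,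
    pmul a (mul_mem hx (pmem _ hy)) (inv_mem hx), pmul a hx (pmem _ hy), pinv' a hx, p_apply_inv]

variable [hp : Fact p.Prime] [Finite G]

theorem phi_le_iff (hG : IsPGroup p G) : Phi X ≤ Y ↔ ⁅X, X⁆ ≤ Y ∧ ∀ x ∈ X, x ^ p ∈ Y :=
  map_frattini_le_iff (hG.to_subgroup X) Y

omit hp [Finite G] in
theorem phi_le : Phi X ≤ X := map_subtype_le _

theorem comm_mem_phi (hG : IsPGroup p G) (hx : x ∈ X) (hy : y ∈ X) : ⁅x, y⁆ ∈ Phi X :=
  ((phi_le_iff hG).1 le_rfl).1 (commutator_mem_commutator hx hy)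

theorem pow_mem_phi (hG : IsPGroup p G) (hx : x ∈ X) : x ^ p ∈ Phi X :=
  ((phi_le_iff hG).1 le_rfl).2 x hx

theorem phi_le_of (hG : IsPGroup p G) (h1 : ∀ x ∈ X, ∀ y ∈ X, ⁅x, y⁆ ∈ Y)
    (h2 : ∀ x ∈ X, x ^ p ∈ Y) : Phi X ≤ Y := (phi_le_iff hG).2 ⟨commutator_le.2 h1, h2⟩

theorem phi_mono (hG : IsPGroup p G) (h : X ≤ Y) : Phi X ≤ Phi Y :=
  map_frattini_mono (hG.to_subgroup Y) h

theorem PInv.phi (hG : IsPGroup p G) (h : PInv A X) (hX : X ≤ E) : PInv A (Phi X) :=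
  pInv_of_le fun a ha => phi_le_of hG (fun x hx y hy => mem_preS.2 ⟨hX (phi_le
    (comm_mem_phi hG hx hy)), by
      rw [pcomm a (hX hx) (hX hy)]; exact comm_mem_phi hG (h a ha x hx) (h a ha y hy)⟩)
    fun x hx => mem_preS.2 ⟨pow_mem (hX hx) p, by
      rw [ppow a (hX hx)]; exact pow_mem_phi hG (h a ha x hx)⟩

omit hp [Finite G] in
instance phi_normal [X.Normal] : (Phi X).Normal := ConjAct.normal_of_characteristic_of_normal

theorem card_le_of_secRank {k : ℕ} (hG : IsPGroup p G) (h : SectionalPRankLE p k G) (hYX : Y ≤ X)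
    (hP : Phi X ≤ Y) : Nat.card X ≤ p ^ k * Nat.card Y := by
  have h1 := (phi_le_iff hG).1 hP
  have h2 := PG.secRank_iff.1 h X Y h1.1 h1.2
  rw [← (Y.subgroupOf X).index_mul_card, Nat.card_congr (subgroupOfEquivOfLe hYX).toEquiv]
  exact Nat.mul_le_mul_right _ h2

omit [Finite G] in
theorem PA.trans (hG : IsPGroup p G) (h1 : PA p A X Y) (h2 : PA p A Y Z) (hX : X ≤ E)
    (hZ : PInv A Z) : PA p A X Z := pa_of_triv hX fun a ha hc =>
  Triv.trans (hG.to_subgroup E) hc (h1.triv ha hc) (h2.triv ha hc) (hZ.aInv a ha)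

theorem PA.of_phi (hG : IsPGroup p G) (h : PA p A X (Phi X)) (hX : X ≤ E) (hi : PInv A X) :
    PA p A X ⊥ := pa_of_triv hX fun a ha hc => by
  have hE := hG.to_subgroup E
  have h1 : subHom hi.aInv ⟨a, ha⟩ = 1 := by
    refine eq_one_of_triv_frattini (hE.to_subgroup _) (Nat.Coprime.coprime_dvd_left
      (orderOf_map_dvd _ _) (by rwa [← orderOf_coe])) fun x _ => ?_
    have h2 := h a ha hc x.1 x.2
    have h3 := map_map_frattini_of_isPGroup (hE.to_subgroup (X.subgroupOf E)) E.subtype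
    rw [map_subgroupOf_eq_of_le hX] at h3
    rw [Phi, ← h3, pext_coe] at h2
    obtain ⟨_, ⟨u, hu, rfl⟩, e⟩ := h2
    rwa [show x⁻¹ * subHom hi.aInv ⟨a, ha⟩ x = u from Subtype.ext (Subtype.ext e.symm)]
  rw [bot_subgroupOf]
  exact (subHom_eq_one_iff _ _).1 h1

/-- `E` has index `p`, and `A` is generated by `p`-elements, has the automorphisms induced by `G`
as a Sylow subgroup, and is not a `p`-group. -/
structure Loc (p : ℕ) (E : Subgroup G) (A : Subgroup (MulAut E)) : Prop where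
  pg : IsPGroup p G
  normal : E.Normal
  index : E.index = p
  syl : SylIn p (cA normal).range A
  gen : A ≤ pGenIn p A
  np : ¬ IsPGroup p A

namespace Loc

variable (h : Loc p E A)
include h

omit hp [Finite G] in
theorem cA_mem (g : G) : cA h.normal g ∈ A := h.syl.le ⟨g, rfl⟩

omit hp [Finite G] in
theorem normal_of (hi : PInv A X) (hX : X ≤ E) : X.Normal :=
  ⟨fun x hx g => pext_cA h.normal g (hX hx) ▸ hi _ (h.cA_mem g) x hx⟩

omit hp [Finite G] in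
theorem card : Nat.card G = p * Nat.card E := by rw [← h.index, index_mul_card]

omit [Finite G] in
theorem coatom : IsCoatom E := PG.isCoatom_of_index_prime (h.index ▸ hp.out)

omit [Finite G] in
theorem exists_not_mem : ∃ s, s ∉ E := by
  by_contra! h1
  exact h.coatom.1 (eq_top_iff.2 fun x _ => h1 x)

omit [Finite G] in
theorem sup_eq_top (hX : ¬ X ≤ E) : E ⊔ X = ⊤ := h.coatom.2 _ (left_lt_sup.2 hX)

omit [Finite G] in
theorem top_le (hE : E ≤ X) (hs : s ∉ E) (hX : s ∈ X) : ⊤ ≤ X :=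
  (h.sup_eq_top (mt zpowers_le.1 hs)).ge.trans (sup_le hE (zpowers_le.2 hX))

theorem le_of_res {K : Subgroup (MulAut E)} (h1 : ∀ g, cA h.normal g ∈ K)
    (h2 : ∀ a ∈ A, (orderOf a).Coprime p → a ∈ K) : A ≤ K := fun a ha => by
  obtain ⟨b, hb, _, ⟨g, rfl⟩, rfl⟩ := h.syl.exists_resIn_mul ha
  exact mul_mem (resIn_le_iff.2 h2 hb) (h1 g)

theorem le_of_normal {K : Subgroup (MulAut E)} (h1 : ∀ g, cA h.normal g ∈ K)
    (h2 : ∀ a ∈ A, ∀ b ∈ K, a * b * a⁻¹ ∈ K) : A ≤ K :=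
  h.gen.trans (h.syl.pGenIn_le (by rintro _ ⟨g, rfl⟩; exact h1 g) h2)

theorem fx_of_comm (hi : PInv A X) (hi' : PInv A Y) (hX : X ≤ E)
    (hc : ∀ g, ∀ x ∈ X, x⁻¹ * (g * x * g⁻¹) ∈ Y) : Fx A X Y := fun a ha x hx =>
  triv_subgroupOf_iff.1 (h.le_of_normal (K := trivSub hi.aInv (Y.subgroupOf E))
    (fun g => ⟨h.cA_mem g, triv_subgroupOf_iff.2 fun x hx hx' => by
      rw [pext_cA _ _ hx]; exact hc g x hx'⟩)
    (fun a ha b hb => ⟨mul_mem (mul_mem ha hb.1) (inv_mem ha),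
      hb.2.conj (hi.aInv _ (inv_mem ha)) (hi'.aInv _ ha)⟩) ha).2 x (hX hx) hx

theorem fx_of_card (hi : PInv A X) (hi' : PInv A Y) (hX : X ≤ E) (hYX : Y ≤ X)
    (hc : Nat.card X ≤ p * Nat.card Y) : Fx A X Y := fun a ha x hx =>
  triv_subgroupOf_iff.1 ((h.gen.trans (pGenIn_le_iff.2 fun b hb k hk =>
    (show b ∈ trivSub hi.aInv (Y.subgroupOf E) from ⟨hb, triv_of_card_le (h.pg.to_subgroup E)
      ⟨k, hk ▸ pow_orderOf_eq_one b⟩ (hi.aInv b hb) (hi'.aInv b hb) (fun _ hy => hYX hy)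
      (by rwa [Nat.card_congr (subgroupOfEquivOfLe hX).toEquiv,
        Nat.card_congr (subgroupOfEquivOfLe (hYX.trans hX)).toEquiv])⟩))) ha).2 x (hX hx) hx

theorem not_pa : ¬ PA p A E ⊥ := fun h1 => h.np (isPGroup_iff_resIn_eq_bot.2 (eq_bot_iff.2
  (resIn_le_iff.2 fun a ha hc => aut_ext_pext fun x hx => by rw [h1.eq ha hc hx]; simp)))

/-- A normal subgroup of `A` containing an outer element contains the `p'`-elements. -/
theorem mem_of_normal {K : Subgroup (MulAut E)} (hs : s ∉ E)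
    (h1 : cA h.normal s ∈ K) (h2 : ∀ a ∈ A, ∀ b ∈ K, a * b * a⁻¹ ∈ K) (hβ : β ∈ A)
    (hc : (orderOf β).Coprime p) : β ∈ K := by
  have : (K.subgroupOf A).Normal := ⟨fun b hb a => h2 a a.2 b hb⟩
  let π := QuotientGroup.mk' (K.subgroupOf A)
  let I : Subgroup A := (E.map (cA h.normal)).subgroupOf A
  have hI : IsPGroup p (I.map π) := (((h.pg.to_subgroup E).map _).comap_subtype).map π
  have h3 : A ≤ ((I.map π).comap π).map A.subtype := by
    refine h.le_of_normal (fun g => ?_) ?_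
    · refine h.top_le (X := (((I.map π).comap π).map A.subtype).comap (cA h.normal))
        (fun e he => ⟨⟨_, h.cA_mem e⟩, ⟨⟨_, h.cA_mem e⟩, ⟨e, he, rfl⟩, rfl⟩, rfl⟩) hs
        ⟨⟨_, h.cA_mem s⟩, ⟨1, one_mem _, ?_⟩, rfl⟩ (mem_top g)
      rw [map_one]; exact ((QuotientGroup.eq_one_iff (⟨_, h.cA_mem s⟩ : A)).2 h1).symm
    · rintro a ha _ ⟨b, ⟨⟨_, hi⟩, ⟨e, he, rfl⟩, e1⟩, rfl⟩
      refine ⟨⟨a, ha⟩ * b * ⟨a, ha⟩⁻¹, ⟨⟨a, ha⟩ * ⟨_, hi⟩ * ⟨a, ha⟩⁻¹,
        ⟨_, pmem a he, (conj_cA h.normal a he).symm⟩, ?_⟩, rfl⟩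
      rw [map_mul, map_mul, map_mul, map_mul, e1]
  obtain ⟨b, hb, rfl⟩ := h3 hβ
  exact (QuotientGroup.eq_one_iff b).1 (eq_one_of_coprime_of_isPGroup hI hb
    (Nat.Coprime.coprime_dvd_left (orderOf_map_dvd π b) (by rwa [← orderOf_coe])))

theorem pa_of_ptr_out (hX : X ≤ E) (hs : s ∉ E)
    (h1 : PTr p A (cA h.normal s) (X.subgroupOf E) (Y.subgroupOf E)) : PA p A X Y :=
  pa_of_triv hX fun a ha hc =>
    let ⟨_, _, h2, h3, h4⟩ := h1
    h4 a (h.mem_of_normal hs h3 h2 ha hc) hc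

theorem pa_of_out (hi : PInv A X) (hi' : PInv A Y) (hX : X ≤ E) (hs : s ∉ E)
    (hc : ∀ x ∈ X, x⁻¹ * (s * x * s⁻¹) ∈ Y) : PA p A X Y :=
  h.pa_of_ptr_out hX hs (ptr_of_triv hi.aInv hi'.aInv (h.cA_mem s)
    (triv_subgroupOf_iff.2 fun x hx hx' => by rw [pext_cA _ _ hx]; exact hc x hx'))

theorem pa_of_comm (hi : PInv A X) (hi' : PInv A Y) (hX : X ≤ E) (hs : s ∉ E)
    (hc : ∀ x ∈ X, ⁅s, x⁆ ∈ Y) : PA p A X Y :=
  h.pa_of_out hi hi' hX (mt inv_mem_iff.1 hs) fun x hx => by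
    have := (h.normal_of hi hX).conj_mem
    have h1 := inv_mem (hc _ (this _ (inv_mem hx) s⁻¹))
    rwa [show ⁅s, s⁻¹ * x⁻¹ * s⁻¹⁻¹⁆⁻¹ = s⁻¹ * x⁻¹ * s * x by group, ← inv_mem_iff,
      show (s⁻¹ * x⁻¹ * s * x)⁻¹ = x⁻¹ * (s⁻¹ * x * s⁻¹⁻¹) by group] at h1

theorem mem_of_comm (hs : ∀ x ∈ E, s * x = x * s) : s ∈ E := by
  by_contra h1
  exact h.not_pa (h.pa_of_comm pInv_self pInv_bot le_rfl h1 fun x hx =>
    commutatorElement_eq_one_iff_mul_comm.2 (hs x hx))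

theorem center_le : center G ≤ E := fun _ hz => h.mem_of_comm fun x _ => (mem_center_iff.1 hz x).symm

theorem pInv_of_pa (h1 : PA p A X Y) (hYW : Y ≤ W) (hW : W ≤ X) (hX : X ≤ E) [hn : W.Normal] :
    PInv A W := by
  refine pInv_of_aInv (hW.trans hX) fun a ha => ?_
  refine h.le_of_res (K := subgroupOfFinite {a | ∀ x ∈ W.subgroupOf E, a x ∈ W.subgroupOf E}
    (fun _ hx => hx) fun _ _ ha hb x hx => ha _ (hb x hx)) (fun g x hx => hn.conj_mem _ hx g)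
    (fun b hb hc x hx => ?_) ha
  simpa [mem_subgroupOf] using mul_mem (mem_subgroupOf.1 hx) (hYW (h1 b hb hc x (hW hx)))

/-- Elements fixed by `G` and by the `p'`-elements are fixed by `A`. -/
theorem fx_of_pa (h1 : PA p A X Y) (hi : PInv A Y) (hX : X ≤ E)
    (hc : ∀ g, ∀ x ∈ X, x⁻¹ * (g * x * g⁻¹) ∈ Y) : Fx A X Y := fun a ha x hx => by
  refine h.le_of_res (K := subgroupOfFinite {a | a ∈ A ∧ x⁻¹ * pext E a x ∈ Y} ⟨one_mem _, by simp⟩
    fun a b ha hb => ⟨mul_mem ha.1 hb.1, ?_⟩) (fun g => ⟨h.cA_mem g, ?_⟩)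
    (fun b hb hc => ⟨hb, h1 b hb hc x hx⟩) ha |>.2
  · have := mul_mem ha.2 (hi a ha.1 _ hb.2)
    rwa [pmul a (inv_mem (hX hx)) (pmem _ (hX hx)), pinv' a (hX hx), mul_assoc,
      mul_inv_cancel_left, ← p_mul_apply] at this
  · rw [pext_cA _ _ (hX hx)]; exact hc g x hx

theorem not_pa_phi : ¬ PA p A E (Phi E) := fun h1 => h.not_pa (h1.of_phi h.pg le_rfl pInv_self)

end Loc

end Cfsg.Lib.Fus.R3
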