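import Cfsg.Agent.Fus.R3Aux

/-! Two maximal subgroups without a common invariant subgroup, in sectional rank three. -/

namespace Cfsg.Lib.Fus.R3

open Subgroup Cfsg.Lib.Solv Cfsg.Lib.Fus.Ess
open scoped commutatorElement

variable {G : Type*} [Group G] {p : ℕ} {E E₁ E₂ U W X Y Z : Subgroup G}
  {A : Subgroup (MulAut E)} {A₁ : Subgroup (MulAut E₁)} {A₂ : Subgroup (MulAut E₂)}
  {g s u v x y z : G} [hp : Fact p.Prime] [Finite G]

theorem mul_card_le_sup (hG : IsPGroup p G) (hx : x ∉ X) :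
    p * Nat.card X ≤ Nat.card ↥(X ⊔ zpowers x) :=
  mul_card_le hG le_sup_left fun e => hx (e.ge (mem_sup_right (mem_zpowers x)))

theorem le_sup_zpowers (hG : IsPGroup p G) (hXY : X ≤ Y) (hx : x ∈ Y) (hx' : x ∉ X)
    (hc : Nat.card Y ≤ p * Nat.card X) : Y ≤ X ⊔ zpowers x :=
  (eq_of_le_of_card_le (sup_le hXY (zpowers_le.2 hx)) (hc.trans (mul_card_le_sup hG hx'))).ge

omit hp in
/-- Commutation modulo a subgroup of the centre of `E`. -/
def cenE (E N : Subgroup G) (hN : ∀ n ∈ N, ∀ e ∈ E, n * e = e * n) (s : G) : Subgroup G :=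
  subgroupOfFinite {x | x ∈ E ∧ ⁅s, x⁆ ∈ N} ⟨one_mem _, by simp⟩ fun a b ha hb =>
    ⟨mul_mem ha.1 hb.1, by
      have := mul_mem ha.2 hb.2
      rwa [show ⁅s, a * b⁆ = ⁅s, a⁆ * (a * ⁅s, b⁆ * a⁻¹) by group, ← hN _ hb.2 a ha.1,
        mul_inv_cancel_right]⟩

omit [Finite G] hp in
theorem cen_symm {N : Subgroup G} [N.Normal] (h : x ∈ cen y N) : y ∈ cen x N :=
  mem_cen.2 (comm_symm (mem_cen.1 h))

theorem w_aux (hG : IsPGroup p G) (sr : SectionalPRankLE p 3 G) [Z.Normal]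
    (hc : Nat.card Z ≤ p) (hU : Nat.card U ≤ p * Nat.card Z)
    (hZU : Z ≤ U) (hUW : U ≤ W)
    (hUp : ∀ u ∈ U, ∀ e ∈ W, u * e = e * u) (hW : ∀ v ∈ W, v ^ p = 1 ∧ ∀ e ∈ W, ⁅v, e⁆ ∈ U)
    (hC : ∀ v ∈ W, v ∉ U → Nat.card ↥(cen v ⊥ ⊓ W) ≤ p ^ 3) (hv : v ∈ W) (hvU : v ∉ U) :
    Nat.card W ≤ p ^ 4 := by
  have hpp := hp.out.pos
  refine (card_le_or hG W 4).resolve_right fun h1 => ?_
  have h5 : p ^ 4 < p ^ (4 + 1) := pow_lt_pow_right₀ hp.out.one_lt (by norm_num)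
  have k1 : ∀ v ∈ W, v ∉ U → ¬ W ≤ cen v Z := fun v hv hvU e => by
    have h2 := card_le_cen (N := ⊥) bot_le e (k := p) (by simpa using hc)
    have h3 := h2.trans (Nat.mul_le_mul_left p (hC v hv hvU))
    rw [← pow_succ'] at h3
    exact absurd (h1.trans h3) h5.not_ge
  have k2 : Nat.card W ≤ p ^ 3 * Nat.card U := card_le_of_secRank hG sr hUW
    (phi_le_of hG (fun a ha b hb => (hW a ha).2 b hb) fun a ha => (hW a ha).1 ▸ one_mem _)
  have k3 : ∀ v ∈ W, ∀ H ≤ W, Nat.card H ≤ p * Nat.card ↥(cen v Z ⊓ H) :=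
    fun v hv H hH => card_le_cen hZU (fun x hx => (hW v hv).2 x (hH hx)) hU
  have k4 : ∀ v ∈ W, U ≤ cen v Z := fun v hv u hu => mem_cen_of_comm (hUp u hu v hv).symm
  obtain ⟨t, ht, ht'⟩ := SetLike.not_le_iff_exists.1 (k1 v hv hvU)
  have k5 := k3 v hv W le_rfl
  have k6 := k3 t ht _ (inf_le_right (a := cen v Z))
  obtain ⟨r, hr, hr'⟩ : ∃ r ∈ cen t Z ⊓ (cen v Z ⊓ W), r ∉ U := by
    by_contra! k7
    have k8 := k5.trans (Nat.mul_le_mul_left p (k6.trans (Nat.mul_le_mul_left p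
      ((card_le_card_of_le k7).trans (hU.trans (Nat.mul_le_mul_left p hc))))))
    exact absurd (h1.trans (k8.trans_eq (by ring))) h5.not_ge
  have k7 := mul_card_le_sup hG hr'
  have k8 := mul_card_le_sup hG (X := U ⊔ zpowers r) (x := v) fun e =>
    ht' (cen_symm (sup_le (k4 t ht) (zpowers_le.2 hr.1) e))
  have k9 := mul_card_le_sup hG (X := U ⊔ zpowers r ⊔ zpowers v) (x := t) fun e =>
    ht' (sup_le (sup_le (k4 v hv) (zpowers_le.2 hr.2.1)) (zpowers_le.2 self_mem_cen) e)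
  refine k1 r hr.2.2 hr' ((eq_of_le_of_card_le (sup_le (sup_le (sup_le hUW
    (zpowers_le.2 hr.2.2)) (zpowers_le.2 hv)) (zpowers_le.2 ht)) ?_).ge.trans
    (sup_le (sup_le (sup_le (k4 r hr.2.2) (zpowers_le.2 self_mem_cen))
      (zpowers_le.2 (cen_symm hr.2.1))) (zpowers_le.2 (cen_symm hr.1))))
  calc Nat.card W ≤ p * (p * (p * Nat.card U)) := k2.trans_eq (by ring)
    _ ≤ _ := (Nat.mul_le_mul_left p ((Nat.mul_le_mul_left p k7).trans k8)).trans k9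

omit hp in
theorem w_aux2 {w : G} (hN : ∀ n ∈ zpowers ⁅w, v⁆, ∀ e ∈ W, n * e = e * n)
    (hUp : ∀ u ∈ U, ∀ e ∈ W, u * e = e * u) (hY : EA p Y) (hYW : Y ≤ W) (hUW : U ≤ W)
    (hw : w ∈ W) (hv : v ∈ W) (hYv : Y ≤ U ⊔ zpowers v) (hWw : W ≤ Y ⊔ zpowers w) :
    ⁅W, W⁆ ≤ zpowers ⁅w, v⁆ := by
  have k1 : Y ≤ cenE W _ hN w := hYv.trans (sup_le (fun u hu => ⟨hUW hu, by
    rw [comm_eq_one.2 (hUp u hu w hw).symm]; exact one_mem _⟩)
    (zpowers_le.2 ⟨hv, mem_zpowers _⟩))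
  have k2 : W ≤ cenE W _ hN w := hWw.trans (sup_le k1 (zpowers_le.2 ⟨hw, by simp⟩))
  have k3 : ∀ y ∈ Y, W ≤ cenE W _ hN y := fun y hy => hWw.trans (sup_le (fun u hu => ⟨hYW hu, by
    rw [comm_eq_one.2 (hY.comm y hy u hu)]; exact one_mem _⟩)
    (zpowers_le.2 ⟨hw, comm_symm (k1 hy).2⟩))
  exact commutator_le.2 fun x hx y hy => ((hWw.trans (sup_le (c := cenE W _ hN x)
    (fun u hu => ⟨hYW hu, comm_symm (k3 u hu hx).2⟩)
    (zpowers_le.2 ⟨hw, comm_symm (k2 hx).2⟩))) hy).2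

theorem Loc.pInv_of_ea (h : Loc p E A) (hp2 : p ≠ 2) (sr : SectionalPRankLE p 3 G)
    (hc : Nat.card (Zo p G) ≤ p) (hn : ¬ PInv A (Zo p G))
    (hU : Nat.card (cl A (Zo p G)) ≤ p ^ 2) (hY : EA p Y) [Y.Normal] (hUY : cl A (Zo p G) ≤ Y)
    (hYE : Y ≤ E) : PInv A Y := by
  have hpp := hp.out.pos
  have hz := h.prime_le_zo
  have hU2 := h.card_cl_zo hn
  have hUi : PInv A (cl A (Zo p G)) := pInv_cl h.zo_le_E
  have hirr : ∀ X ≤ E, PInv A X → X ≠ ⊥ → cl A (Zo p G) ≤ X := fun X h1 h2 h3 =>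
    have := h.normal_of h2 h1
    cl_le h2 (zo_le h.pg hc h3)
  have hUp : ∀ u ∈ cl A (Zo p G), u ^ p = 1 ∧ ∀ e ∈ E, u * e = e * u := fun u hu =>
    (h.cl_zo hp2 hu).2
  have hZU : Zo p G ≤ cl A (Zo p G) := le_cl
  generalize cl A (Zo p G) = U at hU hUY hU2 hUi hirr hUp hZU
  have hUE := hUY.trans hYE
  have := h.normal_of hUi hUE
  have hU3 : p ^ 2 ≤ Nat.card U := (sq p).trans_le ((Nat.mul_le_mul_left p hz).trans hU2)
  have hU4 : p ^ 3 ≤ p * Nat.card U := (pow_succ' p 2).trans_le (Nat.mul_le_mul_left p hU3)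
  have hY3 := hY.card_le h.pg sr
  have hW := exp_cl hp2 hUi hYE hUp fun y hy => ⟨hY.pow y hy, fun e _ =>
    comm_symm (comm_of_card h.pg hUY (hY3.trans hU4) e hy)⟩
  have hWi : PInv A (cl A Y) := pInv_cl hYE
  have hYW : Y ≤ cl A Y := le_cl
  suffices h0 : cl A Y ≤ Y from fun a ha y hy => h0 (mem_cl ha hy)
  have hYU : Y ≤ U → cl A Y ≤ Y := fun e => (cl_le hUi e).trans hUY
  generalize cl A Y = W at hW hWi hYW hYU
  have hWE : W ≤ E := fun w hw => (hW w hw).1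
  have hEA : EA p U := hY.mono hUY
  intro w hw
  by_contra hwY
  obtain ⟨v, hv, hvU⟩ : ∃ v ∈ Y, v ∉ U := by
    by_contra! h1
    exact hwY (hYU h1 hw)
  have hE' : ∀ v ∈ W, EA p (U ⊔ zpowers v) := fun v hv =>
    hEA.sup_zpowers (hW v hv).2.1 fun a ha => (hUp a ha).2 v (hWE hv)
  have hC : ∀ v ∈ W, v ∉ U → cen v ⊥ ⊓ W ≤ U ⊔ zpowers v := fun v hv hvU x hx =>
    (hE' v hv).mem_of_comm h.pg sr (hU4.trans (mul_card_le_sup h.pg hvU)) (hW x hx.2).2.1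
      fun a ha => (comm_eq_one.1 (sup_le (b := zpowers v) (c := cen x ⊥)
        (fun u hu => mem_cen_of_comm ((hUp u hu).2 x (hWE hx.2)).symm)
        (zpowers_le.2 (cen_symm hx.1)) ha)).symm
  have hYv : Y ≤ U ⊔ zpowers v := le_sup_zpowers h.pg hUY hv hvU (hY3.trans hU4)
  have hY4 := mul_card_le_sup h.pg hvU
  have hY5 := card_le_card_of_le (sup_le hUY (zpowers_le.2 hv))
  have h1 := w_aux h.pg sr hc (hU.trans ((sq p).trans_le (Nat.mul_le_mul_left p hz))) hZU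
    (hUY.trans hYW) (fun u hu e he => (hUp u hu).2 e (hWE he))
    (fun v hv => ⟨(hW v hv).2.1, fun e he => (hW v hv).2.2 e (hWE he)⟩)
    (fun v hv hvU => (card_le_card_of_le (hC v hv hvU)).trans ((hE' v hv).card_le h.pg sr))
    (hYW hv) hvU
  have hWw : W ≤ Y ⊔ zpowers w := le_sup_zpowers h.pg hYW hw hwY (h1.trans ((pow_succ' p 3).trans_le
    (Nat.mul_le_mul_left p (hU4.trans (hY4.trans hY5)))))
  have k4 := w_aux2 (fun n hn e he => (hUp n (zpowers_le.2 ((hW w hw).2.2 v (hYE hv)) hn)).2 e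
    (hWE he)) (fun u hu e he => (hUp u hu).2 e (hWE he)) hY hYW (hUY.trans hYW) hw (hYW hv) hYv hWw
  have k5 := card_le_card_of_le ((hirr _ ((commutator_le_self W).trans hWE)
    (hWi.commutator hWi hWE hWE) fun e => hwY ((sup_le hUY (zpowers_le.2 hv)) (hC v (hYW hv) hvU
      ⟨e.le (commutator_mem_commutator (hYW hv) hw), hw⟩))).trans k4)
  have k6 := orderOf_le_of_pow_eq_one hpp (hUp _ ((hW w hw).2.2 v (hYE hv))).1
  rw [Nat.card_zpowers] at k5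
  exact absurd (hU3.trans (k5.trans k6)) (by simpa using (pow_lt_pow_right₀ hp.out.one_lt
    (show 1 < 2 by norm_num)))

theorem le_of_mul_le {a b k : ℕ} (h : p * a ≤ b) (h' : b ≤ p ^ (k + 1)) : a ≤ p ^ k :=
  Nat.le_of_mul_le_mul_left (h.trans (h'.trans_eq (pow_succ' p k))) hp.out.pos

theorem Loc.ea_cl (h : Loc p E A) (hp2 : p ≠ 2) : EA p (cl A (Zo p G)) :=
  ⟨fun _ ha b hb => (h.cl_zo hp2 ha).2.2 b (h.cl_zo hp2 hb).1, fun _ ha => (h.cl_zo hp2 ha).2.1⟩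

theorem Loc.cl_le_E (h : Loc p E A) (hp2 : p ≠ 2) : cl A (Zo p G) ≤ E :=
  fun _ hu => (h.cl_zo hp2 hu).1

theorem Loc.not_pa_cl (h : Loc p E A) (hp2 : p ≠ 2) (hn : ¬ PInv A (Zo p G)) :
    ¬ PA p A (cl A (Zo p G)) ⊥ := fun e => hn (h.pInv_of_pa e bot_le le_cl (h.cl_le_E hp2))

theorem Loc.cl_le_of (h : Loc p E A) (hc : Nat.card (Zo p G) ≤ p) (hX : X ≤ E) (hi : PInv A X)
    (hn : X ≠ ⊥) : cl A (Zo p G) ≤ X :=
  have := h.normal_of hi hX
  cl_le hi (zo_le h.pg hc hn)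

/-- An elementary abelian `E` with `|Ω₁ Z(G)| = p` not invariant is irreducible. -/
theorem Loc.cl_eq (h : Loc p E A) (hp2 : p ≠ 2) (sr : SectionalPRankLE p 3 G)
    (hn : ¬ PInv A (Zo p G)) (hE : EA p E) : cl A (Zo p G) = E := by
  by_contra hne
  have h1 := hE.card_le h.pg sr
  have h2 := (Nat.mul_le_mul_left p h.prime_le_zo).trans (h.card_cl_zo hn)
  obtain ⟨e, he, he', he''⟩ := h.exists_center_not_mem hp2 ((ea_iff h.pg).1 hE)
    (pInv_cl h.zo_le_E) (lt_of_le_of_ne (h.cl_le_E hp2) hne)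
    (le_of_mul_le (mul_card_le h.pg (h.cl_le_E hp2) hne) h1)
    (h1.trans ((show p ^ 3 = p * (p * p) by ring).trans_le (Nat.mul_le_mul_left p h2)))
  exact he'' (le_cl (X := Zo p G) ⟨he, hE.pow e he'⟩)

/-- Two local data without a common invariant subgroup. -/
structure Two (p : ℕ) (A₁ : Subgroup (MulAut E₁)) (A₂ : Subgroup (MulAut E₂)) : Prop where
  l1 : Loc p E₁ A₁
  l2 : Loc p E₂ A₂
  ne : E₁ ≠ E₂
  p2 : p ≠ 2
  sr : SectionalPRankLE p 3 G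

/-- The exceptional configuration. -/
structure OutB (p : ℕ) (A₁ : Subgroup (MulAut E₁)) (E₂ : Subgroup G) : Prop where
  ea : EA p E₁
  c1 : Nat.card E₁ = p ^ 3
  cG : Nat.card G = p ^ 4
  ex : ∀ x ∈ E₂, x ^ p = 1
  nab : ¬ ∀ x ∈ E₂, ∀ y ∈ E₂, x * y = y * x
  cz : Nat.card (center G) = p
  irr : ∀ X ≤ E₁, PInv A₁ X → X ≠ ⊥ → X = E₁

namespace Two

omit hp [Finite G] in
theorem symm (h : Two p A₁ A₂) : Two p A₂ A₁ := ⟨h.l2, h.l1, h.ne.symm, h.p2, h.sr⟩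

variable (h : Two p A₁ A₂)
include h

omit [Finite G] in
theorem not_le : ¬ E₁ ≤ E₂ := fun e =>
  h.ne ((h.l1.coatom.le_iff.1 e).resolve_left h.l2.coatom.1).symm

omit [Finite G] in
theorem mem_center (h1 : ∀ e ∈ E₁, e * x = x * e) (h2 : ∀ e ∈ E₂, e * x = x * e) :
    x ∈ center G :=
  let ⟨s, hs, hs'⟩ := SetLike.not_le_iff_exists.1 h.symm.not_le
  h.l1.mem_center_of h1 hs' (h2 s hs)

omit [Finite G] in
theorem card_eq : Nat.card E₁ = Nat.card E₂ :=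
  Nat.eq_of_mul_eq_mul_left hp.out.pos (h.l1.card.symm.trans h.l2.card)

theorem card_inf : Nat.card E₁ = p * Nat.card ↥(E₁ ⊓ E₂) := by
  rw [h.l2.card_inf h.not_le, inf_comm]

theorem phi_le_phi (hU : U ≤ E₁) (h1 : ∀ u ∈ U, u ^ p = 1 ∧ ∀ e ∈ E₁, u * e = e * u)
    (h2 : ¬ U ≤ E₂) : Phi E₁ ≤ Phi (E₁ ⊓ E₂) :=
  phi_le_of_mul h.l1.pg inf_le_left hU h1 fun e he => by
    obtain ⟨d, hd, u, hu, rfl⟩ := h.l2.exists_mul h2 e
    exact ⟨d, ⟨(mul_mem_cancel_right (hU hu)).1 he, hd⟩, u, hu, rfl⟩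

theorem caseA (h1 : ¬ PInv A₁ (Zo p G)) (h2 : ¬ PInv A₂ (Zo p G)) : ¬ cl A₁ (Zo p G) ≤ E₂ := by
  intro h3
  have hG := h.l1.pg
  have h4 : cl A₂ (Zo p G) ≤ E₁ := fun s hs => h.l1.mem_of_comm_cl h.p2 h1 fun u hu =>
    (h.l2.cl_zo h.p2 hs).2.2 u (h3 hu)
  have k1 := fun u => h.l1.cl_zo h.p2 (u := u)
  have k2 := fun u => h.l2.cl_zo h.p2 (u := u)
  have c1 := h.l1.card_cl_zo h1
  have c2 := h.l2.card_cl_zo h2
  have hZ : Zo p G ≤ cl A₂ (Zo p G) := le_cl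
  have hn := h.l2.normal_of (pInv_cl h.l2.zo_le_E) (h.l2.cl_le_E h.p2)
  have hY := (h.l1.ea_cl h.p2).sup (h.l2.ea_cl h.p2) fun a ha b hb => (k1 a ha).2.2 b (h4 hb)
  have h5 : ¬ ∀ u ∈ cl A₂ (Zo p G), ∀ e ∈ E₁, u * e = e * u := fun e => by
    have := c2.trans (card_le_card_of_le (R := Zo p G) fun u hu => ⟨h.mem_center
      (fun x hx => (e u hu x hx).symm) fun x hx => ((k2 u hu).2.2 x hx).symm, (k2 u hu).2.1⟩)
    have h0 : 0 < Nat.card (Zo p G) := Nat.card_pos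
    nlinarith [hp.out.one_lt]
  have h6 : ¬ ∀ u ∈ cl A₁ (Zo p G), ∀ e ∈ E₂, u * e = e * u := fun e => by
    have := c1.trans (card_le_card_of_le (R := Zo p G) fun u hu => ⟨h.mem_center
      (fun x hx => ((k1 u hu).2.2 x hx).symm) fun x hx => (e u hu x hx).symm, (k1 u hu).2.1⟩)
    have h0 : 0 < Nat.card (Zo p G) := Nat.card_pos
    nlinarith [hp.out.one_lt]
  have c3 := mul_card_le hG (le_sup_left (a := cl A₁ (Zo p G)) (b := cl A₂ (Zo p G))) fun e =>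
    h5 fun u hu => (k1 u (e.ge (mem_sup_right hu))).2.2
  have c4 := mul_card_le hG (le_sup_right (a := cl A₁ (Zo p G)) (b := cl A₂ (Zo p G))) fun e =>
    h6 fun u hu => (k2 u (e.ge (mem_sup_left hu))).2.2
  have c5 := hY.card_le hG h.sr
  have c6 := h.l1.prime_le_zo
  have c7 : Nat.card (Zo p G) ≤ p := by simpa using le_of_mul_le c1 (le_of_mul_le c3 c5)
  refine h5 fun u hu e he => h.l1.not_ea_of_comm h.sr c7 h1 hY (sup_le (h.l1.cl_le_E h.p2) h4)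
    (le_trans ?_ c3) (fun y hy e he => comm_symm (mem_cen.1 (sup_le (c := cen e (Zo p G))
      (fun a ha => mem_cen_of_comm ((k1 a ha).2.2 e he).symm) (fun a ha => comm_of_card hG hZ
        ((le_of_mul_le c4 c5).trans ((sq p).trans_le (Nat.mul_le_mul_left p c6))) e ha) hy)))
    (mem_sup_right hu) he
  exact (show p ^ 3 = p * (p * p) by ring).trans_le (Nat.mul_le_mul_left p
    ((Nat.mul_le_mul_left p c6).trans c1))

variable (core : ∀ T ≤ E₁ ⊓ E₂, PInv A₁ T → PInv A₂ T → T = ⊥)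
include core

theorem card_zo (h1 : ¬ PInv A₁ (Zo p G)) (h2 : PInv A₂ (Zo p G)) : Nat.card (Zo p G) ≤ p := by
  have hG := h.l1.pg
  refine ((card_le_or hG _ 1).resolve_right fun c0 => ?_).trans_eq (pow_one p)
  have c1 := h.l1.card_cl_zo h1
  have hU := h.l1.ea_cl h.p2
  have c2 := hU.card_le hG h.sr
  have k1 := fun u => h.l1.cl_zo h.p2 (u := u)
  have hZ : Zo p G ≤ cl A₁ (Zo p G) := le_cl
  have hi : PInv A₁ (cl A₁ (Zo p G)) := pInv_cl h.l1.zo_le_E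
  have hn := h.l1.normal_of hi (h.l1.cl_le_E h.p2)
  have c3 : Nat.card (cl A₁ (Zo p G)) ≤ p * Nat.card (Zo p G) :=
    c2.trans ((pow_succ' p 2).trans_le (Nat.mul_le_mul_left p c0))
  obtain ⟨u, hu, hu'⟩ := SetLike.not_le_iff_exists.1 fun e : cl A₁ (Zo p G) ≤ Zo p G =>
    h1 fun a ha x hx => e (mem_cl ha hx)
  obtain ⟨s, hs⟩ := h.l1.exists_not_mem
  have hz := comm_of_card hG hZ c3 s hu
  have := normal_of_le_center (X := zpowers ⁅s, u⁆) (zpowers_le.2 hz.1)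
  obtain ⟨y, -, W, -, hW, hf, -, c4, -⟩ := h.l1.plane hi pInv_bot (h.l1.cl_le_E h.p2) bot_le
    ((ea_iff hG).1 hU) (fun e he x hx => by simp [← (k1 x hx).2.2 e he]) (h.l1.not_pa_cl h.p2 h1) hs
    (hZ hz) (fun x hx => mem_sup_right (conj_mem_of_comm (mem_cen.1 ((le_sup_zpowers hG hZ hu hu'
      c3).trans (sup_le (c := cen s (zpowers ⁅s, u⁆)) (fun z hz => mem_cen_of_comm (zo_comm hz s))
      (zpowers_le.2 (mem_zpowers _))) hx)))) (by rw [zo_comm hz s, mul_inv_cancel_right, inv_mul_cancel]; exact one_mem _)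
  have hWZ : W ≤ Zo p G := fun w hw =>
    ⟨h.l1.le_center_of_fx (hW.trans (h.l1.cl_le_E h.p2)) hf hw, hU.pow w (hW hw)⟩
  rw [core W (le_inf (hWZ.trans h.l1.zo_le_E) (hWZ.trans h.l2.zo_le_E)) (hf.pInv bot_le le_rfl)
    ((h.l2.fx_of_center (X := Zo p G) (fun _ hz => hz.1) h2).pInv bot_le hWZ), card_bot, mul_one] at c4
  have := le_of_mul_le c1 c4
  exact absurd (c0.trans this) (pow_lt_pow_right₀ hp.out.one_lt (by norm_num)).not_ge

omit core in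
theorem caseB1 (h1 : ¬ PInv A₁ (Zo p G)) (h2 : PInv A₂ (Zo p G)) (hc : Nat.card (Zo p G) ≤ p)
    (h3 : ¬ cl A₁ (Zo p G) ≤ E₂) : OutB p A₁ E₂ := by
  have hG := h.l1.pg
  have hE : EA p E₁ := (ea_iff hG).2 (le_of_eq (by_contra fun e => h3 ((h.l1.cl_le_of hc phi_le
    (pInv_self.phi hG le_rfl) e).trans ((h.phi_le_phi (h.l1.cl_le_E h.p2)
      (fun u hu => (h.l1.cl_zo h.p2 hu).2) h3).trans (phi_le.trans inf_le_right)))))
  have c0 := h.l1.prime_le_zo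
  have hZ := (h.l2.fx_of_center (X := Zo p G) (fun _ hz => hz.1) h2).pa (p := p)
  have hn : ¬ PA p A₂ E₂ (Zo p G) := fun e => h.l2.not_pa (e.trans hG hZ le_rfl pInv_bot)
  have c1 : Nat.card E₁ = p ^ 3 := le_antisymm (hE.card_le hG h.sr)
    ((card_le_or hG _ 2).resolve_left fun e => hn (h.l2.fx_of_card pInv_self h2 le_rfl h.l2.zo_le_E
      (h.card_eq ▸ e.trans ((sq p).trans_le (Nat.mul_le_mul_left p c0)))).pa)
  have c2 : Nat.card ↥(E₁ ⊓ E₂) = p ^ 2 :=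
    Nat.eq_of_mul_eq_mul_left hp.out.pos (h.card_inf.symm.trans (c1.trans (pow_succ' p 2)))
  have hZD : Zo p G ≤ E₁ ⊓ E₂ := le_inf h.l1.zo_le_E h.l2.zo_le_E
  have hD : ¬ E₁ ⊓ E₂ ≤ Zo p G := fun e => absurd (c2.ge.trans ((card_le_card_of_le e).trans
    (hc.trans_eq (pow_one p).symm))) (pow_lt_pow_right₀ hp.out.one_lt (by norm_num)).not_ge
  have := h.l1.normal
  have := h.l2.normal
  have hV := (h.l2.irr pInv_self h2 (pInv_cl (X := E₁ ⊓ E₂) inf_le_right) le_rfl (hZD.trans le_cl)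
    (cl_le pInv_self inf_le_right) (h.card_eq ▸ c1.trans_le ((pow_succ p 2).trans_le
      (Nat.mul_le_mul_left _ c0))) hn).resolve_left fun e => hD (le_cl.trans e.le)
  have hc' : center G = Zo p G :=
    le_antisymm (fun z hz => ⟨hz, hE.pow z (h.l1.center_le hz)⟩) fun z hz => hz.1
  refine ⟨hE, c1, by rw [h.l1.card, c1]; ring, fun x hx => (exp_cl h.p2 h2 inf_le_right
    (fun z hz => ⟨hz.2, fun e _ => (zo_comm hz e).symm⟩) (fun d hd => ⟨hE.pow d hd.1, fun e _ =>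
      comm_symm (comm_of_card hG hZD (c2.trans_le ((sq p).trans_le (Nat.mul_le_mul_left p c0))) e
        hd)⟩) x (hV.ge hx)).2.1, fun e => hD fun d hd => ⟨h.mem_center
      (fun x hx => hE.comm x hx d hd.1) fun x hx => e x hx d hd.2, hE.pow d hd.1⟩,
    hc' ▸ le_antisymm hc c0, fun X hX hi hn => le_antisymm hX
      ((h.l1.cl_eq h.p2 h.sr h1 hE).ge.trans (h.l1.cl_le_of hc hX hi hn))⟩

theorem caseB2 (h1 : ¬ PInv A₁ (Zo p G)) (h2 : PInv A₂ (Zo p G)) (hc : Nat.card (Zo p G) ≤ p) :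
    ¬ cl A₁ (Zo p G) ≤ E₂ := by
  intro h3
  have hG := h.l1.pg
  have hU := h.l1.ea_cl h.p2
  have k1 := fun u => h.l1.cl_zo h.p2 (u := u)
  have hZ : Zo p G ≤ cl A₁ (Zo p G) := le_cl
  have hi : PInv A₁ (cl A₁ (Zo p G)) := pInv_cl h.l1.zo_le_E
  have hUE := h.l1.cl_le_E h.p2
  have hn := h.l1.normal_of hi hUE
  have c0 := h.l1.prime_le_zo
  have c1 := (Nat.mul_le_mul_left p c0).trans (h.l1.card_cl_zo h1)
  have hb : ∀ T, cl A₁ (Zo p G) ≤ T → T ≤ E₁ ⊓ E₂ → PInv A₁ T → ¬ PInv A₂ T := fun T a b c d =>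
    h.l1.zo_ne_bot (le_bot_iff.1 (hZ.trans (a.trans (core T b c d).le)))
  rcases card_le_or hG (cl A₁ (Zo p G)) 2 with c2 | c2
  · have hV := exp_cl h.p2 h2 h3 (fun z hz => ⟨hz.2, fun e _ => (zo_comm hz e).symm⟩)
      fun u hu => ⟨hU.pow u hu, fun e _ => comm_symm (comm_of_card hG hZ
        (c2.trans ((sq p).trans_le (Nat.mul_le_mul_left p c0))) e hu)⟩
    have hVi : PInv A₂ (cl A₂ (cl A₁ (Zo p G))) := pInv_cl h3
    have hUV : cl A₁ (Zo p G) ≤ cl A₂ (cl A₁ (Zo p G)) := le_cl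
    have hVa : cl A₂ (cl A₁ (Zo p G)) ≤ E₁ → ∀ a ∈ cl A₂ (cl A₁ (Zo p G)),
        ∀ b ∈ cl A₂ (cl A₁ (Zo p G)), a * b = b * a := fun e a ha b hb =>
      have := h.l2.normal_of hVi fun v hv => (hV v hv).1
      comm_eq_one.1 (mem_commLe.1 (cl_le (hVi.commLe pInv_bot fun v hv => (hV v hv).1)
        (fun u hu => ⟨h3 hu, mem_commLe.2 fun x hx => comm_eq_one.2 ((k1 u hu).2.2 x (e hx))⟩) ha).2
        b hb)
    generalize cl A₂ (cl A₁ (Zo p G)) = V at hV hVi hUV hVa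
    have hVE : V ≤ E₂ := fun v hv => (hV v hv).1
    have := h.l2.normal_of hVi hVE
    have := h.l1.normal
    by_cases hV1 : V ≤ E₁
    · exact hb V hUV (le_inf hV1 hVE) (h.l1.pInv_of_ea h.p2 h.sr hc h1 c2
        ⟨hVa hV1, fun v hv => (hV v hv).2.1⟩ hUV hV1) hVi
    have c3 : Nat.card V ≤ p ^ 3 * Nat.card (Zo p G) := card_le_of_secRank hG h.sr (hZ.trans hUV)
      (phi_le_of hG (fun a ha b hb => (hV a ha).2.2 b (hVE hb)) fun a ha =>
        (hV a ha).2.1 ▸ one_mem _)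
    have c4 : Nat.card ↥(E₁ ⊓ V) ≤ p * Nat.card (cl A₁ (Zo p G)) :=
      (le_of_mul_le (h.l1.card_inf hV1).ge (c3.trans ((Nat.mul_le_mul_left _ hc).trans_eq
        (pow_succ p 3).symm))).trans ((show p ^ 3 = p * (p * p) by ring).trans_le
          (Nat.mul_le_mul_left p c1))
    have hYi := h.l1.pInv_of_ea h.p2 h.sr hc h1 c2 (Y := E₁ ⊓ V) ⟨comm_of_card_le hG
      (le_inf hUE hUV) (fun u hu y hy => (k1 u hu).2.2 y hy.1) c4, fun v hv => (hV v hv.2).2.1⟩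
      (le_inf hUE hUV) inf_le_left
    obtain ⟨v, hv, hv'⟩ := SetLike.not_le_iff_exists.1 hV1
    have hpa := (h.l1.pa_of_comm pInv_self hYi le_rfl hv' fun x hx =>
      ⟨comm_mem_right v hx, comm_mem_left x hv⟩).trans hG (h.l1.fx_of_card hYi hi inf_le_left
        (le_inf hUE hUV) c4).pa le_rfl hi
    have hE : EA p E₁ := (ea_iff hG).2 (le_of_eq (by_contra fun e => h.l1.not_pa_phi
      (hpa.mono le_rfl (h.l1.cl_le_of hc phi_le (pInv_self.phi hG le_rfl) e))))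
    exact h.not_le ((h.l1.cl_eq h.p2 h.sr h1 hE).ge.trans h3)
  · refine hb _ le_rfl (le_inf hUE h3) hi fun a ha u hu => ?_
    have hy : pext E₂ a u ^ p = 1 := by rw [← ppow a (h3 hu), hU.pow u hu, pone]
    refine hU.mem_of_comm hG h.sr c2 hy fun x hx => (k1 x hx).2.2 _ (by_contra fun hy' => ?_)
    have c3 := card_le_cen (H := cl A₁ (Zo p G)) (v := pext E₂ a u) (N := ⊥) (M := Zo p G) bot_le
      (fun x hx => ?_) (k := p) (by simpa using hc)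
    · have c4 := card_le_card_of_le (R := Zo p G)
        fun x (hx : x ∈ cen (pext E₂ a u) ⊥ ⊓ cl A₁ (Zo p G)) => ⟨h.l1.mem_center_of
          (fun e he => ((k1 x hx.2).2.2 e he).symm) hy' (comm_eq_one.1 hx.1), hU.pow x hx.2⟩
      exact absurd (c2.trans (c3.trans ((Nat.mul_le_mul_left p (c4.trans hc)).trans_eq (sq p).symm)))
        (pow_lt_pow_right₀ hp.out.one_lt (by norm_num)).not_ge
    · have h4 := comm_mem_right (pext E₂ a u) hx
      refine ⟨h.l1.mem_center_of (fun e he => ((k1 _ h4).2.2 e he).symm) hy' ?_, hU.pow _ h4⟩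
      have h5 := comm_mem_left (pext E₂ a⁻¹ x) hu
      have h6 := pcomm a (h3 hu) (pmem a⁻¹ (h3 hx))
      rw [p_apply_inv] at h6
      rw [← h6, ← pmul a (h3 hu) (h3 h5), hU.comm _ hu _ h5, pmul a (h3 h5) (h3 hu)]

theorem outB (h2 : PInv A₂ (Zo p G)) : OutB p A₁ E₂ := by
  have h1 : ¬ PInv A₁ (Zo p G) := fun h1 =>
    h.l1.zo_ne_bot (core _ (le_inf h.l1.zo_le_E h.l2.zo_le_E) h1 h2)
  have hc := h.card_zo core h1 h2
  exact h.caseB1 h1 h2 hc (h.caseB2 core h1 h2 hc)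

theorem core_cases : (EA p E₁ ∧ EA p E₂) ∨ OutB p A₁ E₂ ∨ OutB p A₂ E₁ := by
  by_cases h2 : PInv A₂ (Zo p G)
  · exact .inr (.inl (h.outB core h2))
  by_cases h1 : PInv A₁ (Zo p G)
  · exact .inr (.inr (h.symm.outB (fun T a b c => core T (inf_comm E₁ E₂ ▸ a) c b) h1))
  have hG := h.l1.pg
  have k1 := (h.phi_le_phi (h.l1.cl_le_E h.p2) (fun u hu => (h.l1.cl_zo h.p2 hu).2)
    (h.caseA h1 h2)).trans (phi_mono hG inf_le_right)
  have k2 := (h.symm.phi_le_phi (h.l2.cl_le_E h.p2) (fun u hu => (h.l2.cl_zo h.p2 hu).2)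
    (h.symm.caseA h2 h1)).trans (phi_mono hG inf_le_right)
  have k3 := core (Phi E₁) (le_inf phi_le (k1.trans phi_le)) (pInv_self.phi hG le_rfl)
    (le_antisymm k2 k1 ▸ pInv_self.phi hG le_rfl)
  exact .inl ⟨(ea_iff hG).2 k3.le, (ea_iff hG).2 (k2.trans k3.le)⟩

end Two

end Cfsg.Lib.Fus.R3
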