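import Cfsg.Agent.FT.BG4.Small
import Cfsg.Agent.Solv.PGroupBasic
import Cfsg.Agent.Local.ProdCard

/-! A `p`-group in which an elementary abelian subgroup of order `p ^ 3` has a normal normaliser of
order `p ^ 4`. -/

set_option autoImplicit false

namespace Cfsg.Lib.Fus.R3

open Subgroup
open scoped commutatorElement

namespace En

variable {G : Type*} [Group G] {p : ℕ}

theorem comm_mul_left (u v h : G) : ⁅u * v, h⁆ = u * ⁅v, h⁆ * u⁻¹ * ⁅u, h⁆ := by
  simp only [commutatorElement_def]; group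

theorem comm_mul_right (u h k : G) : ⁅u, h * k⁆ = ⁅u, h⁆ * (h * ⁅u, k⁆ * h⁻¹) := by
  simp only [commutatorElement_def]; group

theorem comm_pow_left {u h : G} (c : Commute u ⁅u, h⁆) (n : ℕ) : ⁅u ^ n, h⁆ = ⁅u, h⁆ ^ n := by
  induction n with
  | zero => simp
  | succ n ih => rw [pow_succ', comm_mul_left, ih, (c.pow_right n).eq, pow_succ]; group

theorem comm_pow_right {u h : G} (c : Commute h ⁅u, h⁆) (n : ℕ) : ⁅u, h ^ n⁆ = ⁅u, h⁆ ^ n := by
  rw [← commutatorElement_inv, comm_pow_left (commutatorElement_inv u h ▸ c.inv_right), ← inv_pow,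
    commutatorElement_inv]

/-- The elements of `M` whose commutators with `S` lie in `K`. -/
def cmS (M K : Subgroup G) (hK : ∀ m ∈ M, ∀ k ∈ K, m * k * m⁻¹ ∈ K) (S : Set G) : Subgroup G where
  carrier := {u | u ∈ M ∧ ∀ v ∈ S, ⁅u, v⁆ ∈ K}
  one_mem' := ⟨one_mem _, fun _ _ => by simp⟩
  mul_mem' {u v} hu hv := ⟨mul_mem hu.1 hv.1, fun h hh => by
    rw [comm_mul_left]; exact mul_mem (hK _ hu.1 _ (hv.2 h hh)) (hu.2 h hh)⟩
  inv_mem' {u} hu := ⟨inv_mem hu.1, fun h hh => by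
    convert hK _ (inv_mem hu.1) _ (inv_mem (hu.2 h hh)) using 1
    simp only [commutatorElement_def]; group⟩

/-- Commutation with an element whose commutators are central. -/
def cmHom (u : G) (hu : ∀ h, ⁅u, h⁆ ∈ center G) : G →* G :=
  MonoidHom.mk' (⁅u, ·⁆) fun h k => by
    rw [comm_mul_right, mem_center_iff.1 (hu k) h, mul_inv_cancel_right]

theorem mem_of_wt [hp : Fact p.Prime] {K : Subgroup G} {w : G} (h1 : w ^ p ∈ K) {m k : ℕ}
    (h2 : (w ^ m)⁻¹ * w ^ k ∈ K) (h3 : (m : ZMod p) ≠ k) : w ∈ K := by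
  obtain ⟨a, b, e⟩ : IsCoprime (p : ℤ) (k - m) :=
    (Nat.prime_iff_prime_int.1 hp.out).irreducible.coprime_iff_not_dvd.2 fun h =>
      h3 (by simpa [sub_eq_zero, eq_comm] using (ZMod.intCast_zmod_eq_zero_iff_dvd _ p).2 h)
  convert mul_mem (zpow_mem h1 a) (zpow_mem h2 b) using 1
  rw [← zpow_natCast, ← zpow_natCast, ← zpow_natCast, ← zpow_neg, ← zpow_add, ← zpow_mul,
    ← zpow_mul, ← zpow_add, show p * a + (-m + k) * b = 1 by linear_combination e, zpow_one]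

theorem sq_two : ∀ A B : ZMod 2, A * B = 1 → A ^ 2 = 1 := by decide

variable [Finite G]

theorem eq_or_of_card [hp : Fact p.Prime] {K L M : Subgroup G} (h1 : K ≤ L) (h2 : L ≤ M)
    (h : Nat.card M = p * Nat.card K) : L = K ∨ L = M := by
  obtain ⟨c, hc⟩ := card_dvd_of_le h1
  have h3 := card_dvd_of_le h2
  rw [h, hc, mul_comm p, Nat.mul_dvd_mul_iff_left Nat.card_pos, Nat.dvd_prime hp.out] at h3
  exact h3.imp (fun e => (eq_of_le_of_card_ge h1 (by simp [hc, e])).symm)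
    fun e => eq_of_le_of_card_ge h2 (by rw [h, hc, e, mul_comm])

theorem exists_pow_mul {K : Subgroup G} {u v : G} (hn : u ∈ normalizer (K : Set G))
    (hv : v ∈ zpowers u ⊔ K) : ∃ j : ℕ, ∃ d ∈ K, v = u ^ j * d := by
  rw [← SetLike.mem_coe, coe_mul_of_left_le_normalizer_right _ _ (zpowers_le.2 hn)] at hv
  obtain ⟨x, hx, d, hd, rfl⟩ := hv
  obtain ⟨j, rfl⟩ := mem_powers_iff_mem_zpowers.2 hx
  exact ⟨j, d, hd, rfl⟩

theorem exists_of_card [Fact p.Prime] {K M : Subgroup G} (h1 : K ≤ M)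
    (h : Nat.card M = p * Nat.card K) {u v : G} (hu : u ∈ M) (h0 : u ∉ K)
    (hn : u ∈ normalizer (K : Set G)) (hv : v ∈ M) : ∃ j : ℕ, ∃ d ∈ K, v = u ^ j * d :=
  exists_pow_mul hn (((eq_or_of_card le_sup_right (sup_le (zpowers_le.2 hu) h1) h).resolve_left
    fun e => h0 (e.le (mem_sup_left (mem_zpowers u)))).ge hv)

theorem exists_central [Fact p.Prime] (hG : IsPGroup p G) {K M : Subgroup G} [K.Normal] [M.Normal]
    (h : ¬ M ≤ K) : ∃ u ∈ M, u ∉ K ∧ ∀ g, ⁅u, g⁆ ∈ K := by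
  have := (hG.to_quotient K).isNilpotent
  have := (inferInstance : M.Normal).map _ (QuotientGroup.mk'_surjective K)
  obtain ⟨_, ⟨⟨u, hu, rfl⟩, h1⟩, h2⟩ := (Subgroup.bot_or_exists_ne_one _).resolve_left
    (Solv.PG.inf_center_ne_bot (M.map (QuotientGroup.mk' K)) (by
      rwa [Ne, Subgroup.map_eq_bot_iff, QuotientGroup.ker_mk']))
  refine ⟨u, hu, mt (QuotientGroup.eq_one_iff u).2 h2, fun g => (QuotientGroup.eq_one_iff _).1 ?_⟩
  exact (map_commutatorElement (QuotientGroup.mk' K) u g).trans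
    (commutatorElement_eq_one_iff_mul_comm.2 (mem_center_iff.1 h1 _).symm)

theorem comm_mem_of_card [hp : Fact p.Prime] (hG : IsPGroup p G) {K M : Subgroup G} [hK : K.Normal]
    [M.Normal] (h1 : K ≤ M) (h : Nat.card M = p * Nat.card K) {u : G} (hu : u ∈ M) (g : G) :
    ⁅u, g⁆ ∈ K := by
  obtain ⟨v, h2, h3, h4⟩ := exists_central hG (K := K) (M := M) fun e => hp.out.one_lt.ne' (by
    rwa [le_antisymm e h1, right_eq_mul₀ Nat.card_pos.ne'] at h)
  exact (((eq_or_of_card (L := cmS M K (fun m _ k hk => hK.conj_mem k hk m) Set.univ)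
    (fun k hk => ⟨h1 hk, fun g _ => by
      simpa [commutatorElement_def, mul_assoc] using mul_mem hk (hK.conj_mem _ (inv_mem hk) g)⟩)
    (fun _ h => h.1) h).resolve_left fun e => h3 (e.le ⟨h2, fun g _ => h4 g⟩)).ge hu).2 g trivial

theorem index_ker_eq [hp : Fact p.Prime] {Q : Type*} [Group Q] (f : G →* Q) {w : Q} (hw : w ^ p = 1)
    (h : ∀ g, f g ∈ zpowers w) (h0 : f.ker ≠ ⊤) : f.ker.index = p := by
  refine ((Nat.dvd_prime hp.out).1 ?_).resolve_left (mt index_eq_one.1 h0)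
  rw [index_ker]
  exact (card_dvd_of_le (by rintro _ ⟨g, rfl⟩; exact h g)).trans
    (Nat.card_zpowers w ▸ orderOf_dvd_of_pow_eq_one hw)

theorem mem_of_aut {K : Subgroup G} {τ : MulAut G} (h : ∀ x ∈ K, τ x ∈ K) {x : G}
    (hx : τ x ∈ K) : x ∈ K := by
  obtain ⟨y, hy, e⟩ := (((K : Set G).toFinite.injOn_iff_bijOn_of_mapsTo h).1
    τ.injective.injOn).surjOn hx
  exact τ.injective e ▸ hy

/-- The configuration. -/
structure EG (p : ℕ) (N E : Subgroup G) (y z a : G) : Prop where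
  pg : IsPGroup p G
  nrm : N.Normal
  ne : N ≠ ⊤
  nE : normalizer (E : Set G) = N
  cN : Nat.card N = p ^ 4
  cE : Nat.card E = p ^ 3
  ab : ∀ u ∈ E, ∀ v ∈ E, u * v = v * u
  ex : ∀ u ∈ E, u ^ p = 1
  gen : zpowers y ⊔ (zpowers z ⊔ zpowers a) = E
  hz : ∀ x ∈ N, x * z = z * x
  ha : ∀ x ∈ N, x * a = a * x
  hy : ∀ x ∈ N, ⁅y, x⁆ ∈ zpowers z
  hy' : ∃ x ∈ N, ⁅y, x⁆ ≠ 1

namespace EG

variable [hp : Fact p.Prime] {N E : Subgroup G} {y z a : G} (h : EG p N E y z a)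
include h

omit [Finite G] hp in
theorem E_le : E ≤ N := h.nE ▸ le_normalizer

omit [Finite G] hp in
theorem D_le : zpowers z ⊔ zpowers a ≤ E := h.gen ▸ le_sup_right

omit [Finite G] hp in
theorem y_mem : y ∈ E := h.gen ▸ mem_sup_left (mem_zpowers y)

omit [Finite G] hp in
theorem D_comm {d x : G} (hd : d ∈ zpowers z ⊔ zpowers a) (hx : x ∈ N) : x * d = d * x :=
  sup_le (b := zpowers a) (c := centralizer N) (zpowers_le.2 h.hz) (zpowers_le.2 h.ha) hd x hx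

omit [Finite G] hp in
theorem y_not {K : Subgroup G} (hK : ∀ d ∈ K, ∀ x ∈ N, x * d = d * x) : y ∉ K := fun e =>
  h.hy'.elim fun x hx => hx.2 (commutatorElement_eq_one_iff_mul_comm.2 (hK y e x hx.1).symm)

omit hp in
theorem E_form {e : G} (he : e ∈ E) : ∃ j : ℕ, ∃ d ∈ zpowers z ⊔ zpowers a, e = y ^ j * d :=
  exists_pow_mul (centralizer_le_normalizer _ fun _ hd => (h.D_comm hd (h.E_le h.y_mem)).symm)
    (h.gen.ge he)

theorem N_form {u v : G} (hu : u ∈ N) (h0 : u ∉ E) (hv : v ∈ N) : ∃ j : ℕ, ∃ e ∈ E, v = u ^ j * e :=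
  exists_of_card h.E_le (by rw [h.cN, h.cE, pow_succ']) hu h0 (h.nE.ge hu) hv

theorem mem_E {c : G} (hc : c ∈ N) (e : c * y = y * c) : c ∈ E := by_contra fun h0 =>
  h.hy'.elim fun x hx => by
    obtain ⟨j, d, hd, rfl⟩ := h.N_form hc h0 hx.1
    exact hx.2 (commutatorElement_eq_one_iff_commute.2
      ((Commute.pow_right e.symm j).mul_right (h.ab _ h.y_mem _ hd)))

theorem D_eq : zpowers z ⊔ zpowers a = N ⊓ centralizer N := by
  refine le_antisymm (fun d hd => ⟨h.E_le (h.D_le hd), fun x hx => h.D_comm hd hx⟩) fun c hc => ?_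
  obtain ⟨j, d, hd, rfl⟩ := h.E_form (h.mem_E hc.1 (hc.2 y (h.E_le h.y_mem)).symm)
  by_cases e : (0 : ℕ) = (j : ZMod p)
  · obtain ⟨k, rfl⟩ := (ZMod.natCast_eq_zero_iff j p).1 (by simpa using e.symm)
    rwa [pow_mul, h.ex y h.y_mem, one_pow, one_mul]
  · exact absurd (mem_of_wt (K := centralizer N) (h.ex y h.y_mem ▸ one_mem _) (by
      simpa using ((centralizer N).mul_mem_cancel_right fun x hx => h.D_comm hd hx).1 hc.2) e)
      (h.y_not fun _ hd _ hx => hd _ hx)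

theorem D_normal : (zpowers z ⊔ zpowers a).Normal := by
  have := h.nrm
  rw [h.D_eq]
  infer_instance

theorem card_D : Nat.card (zpowers z ⊔ zpowers a : Subgroup G) = p ^ 2 := by
  have h0 := h.y_not fun _ hd _ hx => h.D_comm hd hx
  have h1 := orderOf_eq_prime (h.ex y h.y_mem) fun e => h0 (e ▸ one_mem _)
  have h2 := Local.CD.card_sup_mul_card_inf_of_le_centralizer (H := zpowers y)
    (zpowers_le.2 fun _ hd => (h.D_comm hd (h.E_le h.y_mem)).symm)
  rw [h.gen, h.cE, Nat.card_zpowers, h1, ((eq_or_of_card (K := ⊥) bot_le inf_le_left (by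
    rw [Nat.card_zpowers, h1, card_bot, mul_one])).resolve_right fun e =>
      h0 (e.ge (mem_zpowers y)).2), card_bot, mul_one, pow_succ'] at h2
  exact (Nat.eq_of_mul_eq_mul_left hp.out.pos h2).symm

theorem card_Z : Nat.card (zpowers z) = p := by
  obtain ⟨x, hx, h0⟩ := h.hy'
  rw [Nat.card_zpowers, orderOf_eq_prime (h.ex z (h.D_le (mem_sup_left (mem_zpowers z))))
    fun e => h0 (by simpa [e] using h.hy x hx)]

theorem comm_mem {u v : G} (hu : u ∈ N) (hv : v ∈ N) : ⁅u, v⁆ ∈ zpowers z := by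
  have hK : ∀ m ∈ N, ∀ k ∈ zpowers z, m * k * m⁻¹ ∈ zpowers z := fun m hm k hk => by
    rwa [h.D_comm (mem_sup_left hk) hm, mul_inv_cancel_right]
  have h1 : E ≤ cmS N _ hK N := h.gen.ge.trans (sup_le (zpowers_le.2 ⟨h.E_le h.y_mem, h.hy⟩)
    fun d hd => ⟨h.E_le (h.D_le hd), fun x hx => by
      rw [commutatorElement_eq_one_iff_mul_comm.2 (h.D_comm hd hx).symm]; exact one_mem _⟩)
  by_cases h0 : v ∈ E
  · rw [← commutatorElement_inv]
    exact inv_mem ((h1 h0).2 u hu)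
  · obtain ⟨j, e, he, rfl⟩ := h.N_form hv h0 hu
    exact ((cmS N _ hK {v}).mul_mem ((cmS N _ hK {v}).pow_mem ⟨hv, by simp⟩ j)
      ⟨h.E_le he, by simpa using (h1 he).2 v hv⟩).2 v rfl

theorem Z_normal : (zpowers z).Normal := by
  obtain ⟨x, hx, h0⟩ := h.hy'
  have h1 := h.E_le h.y_mem
  rw [← (eq_or_of_card (K := ⊥) (L := ⁅N, N⁆) bot_le (commutator_le.2 fun _ hu _ hv =>
    h.comm_mem hu hv) (by rw [h.card_Z, card_bot, mul_one])).resolve_left fun e =>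
      h0 (mem_bot.1 (e.le (commutator_mem_commutator h1 hx)))]
  have := h.nrm
  infer_instance

theorem Z_le : zpowers z ≤ center G := fun _ hu => mem_center_iff.2 fun g => by
  have := h.Z_normal
  exact (commutatorElement_eq_one_iff_mul_comm.1 (mem_bot.1 (comm_mem_of_card h.pg bot_le
    (by rw [h.card_Z, card_bot, mul_one]) hu g))).symm

theorem mem_N {g : G} (hg : ⁅y, g⁆ ∈ zpowers z ⊔ zpowers a) : g ∈ N := by
  refine h.nE.le (mem_normalizer_fintype fun e he => ?_)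
  obtain ⟨j, d, hd, rfl⟩ := h.E_form he
  rw [← conj_mul, ← conj_pow, show g * y * g⁻¹ = ⁅y, g⁆⁻¹ * y by simp [commutatorElement_def, mul_assoc]]
  exact mul_mem (pow_mem (mul_mem (inv_mem (h.D_le hg)) h.y_mem) j)
    (h.D_le (h.D_normal.conj_mem d hd g))

/-- The preimage of the centre of `G / D` in `N`. -/
def B : Subgroup G := cmS N _ (fun m _ k hk => h.D_normal.conj_mem k hk m) Set.univ

theorem mem_B {u : G} : u ∈ h.B ↔ u ∈ N ∧ ∀ g, ⁅u, g⁆ ∈ zpowers z ⊔ zpowers a :=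
  and_congr_right' ⟨fun e g => e g trivial, fun e g _ => e g⟩

theorem B_le : h.B ≤ N := fun _ h => h.1

theorem B_normal : h.B.Normal := ⟨fun u hu g => h.mem_B.2 ⟨h.nrm.conj_mem u hu.1 g, fun k => by
  convert h.D_normal.conj_mem _ (hu.2 (g⁻¹ * k * g) trivial) g using 1
  simp only [commutatorElement_def]; group⟩⟩

theorem D_le_B : zpowers z ⊔ zpowers a ≤ h.B := fun d hd => h.mem_B.2 ⟨h.E_le (h.D_le hd),
  fun g => by
    simpa [commutatorElement_def, mul_assoc] using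
      mul_mem hd (h.D_normal.conj_mem _ (inv_mem hd) g)⟩

theorem y_not_B : y ∉ h.B := fun e => h.ne (eq_top_iff.2 fun g _ => h.mem_N (e.2 g trivial))

theorem card_B : Nat.card h.B = p ^ 3 := by
  have := h.D_normal
  have := h.nrm
  obtain ⟨u, h1, h2, h3⟩ := exists_central h.pg (K := zpowers z ⊔ zpowers a) (M := N) fun e =>
    h.y_not_B (h.D_le_B (e (h.E_le h.y_mem)))
  obtain ⟨k, hk⟩ := (h.pg.to_subgroup h.B).exists_card_eq
  have h4 : Nat.card _ < Nat.card h.B := Local.CD.card_lt_of_lt (h.D_le_B.lt_of_ne fun e =>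
    h2 (e.ge (h.mem_B.2 ⟨h1, h3⟩)))
  have h5 : Nat.card h.B < Nat.card N := Local.CD.card_lt_of_lt (h.B_le.lt_of_ne fun e =>
    h.y_not_B (e.ge (h.E_le h.y_mem)))
  rw [hk, h.card_D, pow_lt_pow_iff_right₀ hp.out.one_lt] at h4
  rw [hk, h.cN, pow_lt_pow_iff_right₀ hp.out.one_lt] at h5
  rw [hk, show k = 3 by omega]

theorem comm_mem_B {u : G} (hu : u ∈ N) (g : G) : ⁅u, g⁆ ∈ h.B :=
  have := h.B_normal
  have := h.nrm
  comm_mem_of_card h.pg h.B_le (by rw [h.cN, h.card_B, pow_succ']) hu g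

theorem B_form {b u : G} (hb : b ∈ h.B) (h0 : b ∉ zpowers z ⊔ zpowers a) (hu : u ∈ h.B) :
    ∃ j : ℕ, ∃ d ∈ zpowers z ⊔ zpowers a, u = b ^ j * d :=
  have := h.D_normal
  exists_of_card h.D_le_B (by rw [h.card_D, h.card_B, pow_succ']) hb h0
    (by simp [normalizer_eq_top]) hu

theorem comm_ne {b : G} (hb : b ∈ h.B) (h0 : b ∉ zpowers z ⊔ zpowers a) : ⁅y, b⁆ ≠ 1 := fun e => by
  have h1 := h.mem_E hb.1 (commutatorElement_eq_one_iff_mul_comm.1 e).symm
  refine h.y_not_B ((eq_of_le_of_card_ge (fun u hu => ?_) (by rw [h.card_B, h.cE])).ge h.y_mem)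
  obtain ⟨j, d, hd, rfl⟩ := h.B_form hb h0 hu
  exact mul_mem (pow_mem h1 j) (h.D_le hd)

theorem B_comm {u v : G} (hu : u ∈ h.B) (hv : v ∈ h.B) : Commute u v := by
  by_cases h0 : u ∈ zpowers z ⊔ zpowers a
  · exact (h.D_comm h0 hv.1).symm
  · obtain ⟨j, d, hd, rfl⟩ := h.B_form hu h0 hv
    exact (Commute.self_pow u j).mul_right (h.D_comm hd hu.1)

theorem B_exp (h2 : p ≠ 2) {u : G} (hu : u ∈ h.B) : u ^ p = 1 := by
  obtain ⟨g, hg⟩ : ∃ g, g ∉ N := by simpa [eq_top_iff'] using h.ne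
  have h1 := h.E_le h.y_mem
  have h3 : ⁅y, g⁆ ^ p = 1 := (FT.exponent_odd_nil23 hp.out (h.pg.to_subgroup N)
    (h.cN ▸ (hp.out.odd_of_ne_two h2).pow) (.inl (eq_bot_iff.2 (commutator_le.2 fun u hu v hv =>
      commutatorElement_eq_one_iff_mul_comm.2 (mem_center_iff.1 (h.Z_le (commutator_le.2
        (fun _ hu _ hv => h.comm_mem hu hv) hu)) v).symm)))).1 _ (by
      rw [commutatorElement_def, mul_assoc, mul_assoc, ← mul_assoc g]
      exact mul_mem (subset_closure ⟨h1, h.ex y h.y_mem⟩) (subset_closure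
        ⟨h.nrm.conj_mem _ (inv_mem h1) g, by simp [conj_pow, h.ex y h.y_mem]⟩))
  obtain ⟨j, d, hd, rfl⟩ := h.B_form (h.comm_mem_B h1 g) (mt h.mem_N hg) hu
  rw [(h.B_comm (pow_mem (h.comm_mem_B h1 g) j) (h.D_le_B hd)).mul_pow, ← pow_mul, mul_comm, pow_mul,
    h3, one_pow, one_mul, h.ex d (h.D_le hd)]

theorem exists_hom [(zpowers z ⊔ zpowers a).Normal] : ∃ φ : G →* G ⧸ (zpowers z ⊔ zpowers a),
    φ.ker = N ∧ ∀ g, φ g = ((⁅y, g⁆ : G) : G ⧸ (zpowers z ⊔ zpowers a)) ∧ φ g ∈ center _ := by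
  have key : ∀ g : G ⧸ (zpowers z ⊔ zpowers a), ⁅(y : G ⧸ (zpowers z ⊔ zpowers a)), g⁆ ∈ center _ := by
    rintro ⟨g⟩
    rw [mem_center_iff]
    rintro ⟨k⟩
    exact (commutatorElement_eq_one_iff_mul_comm.1 ((QuotientGroup.eq_one_iff _).2
      ((h.comm_mem_B (h.E_le h.y_mem) g).2 k trivial))).symm
  exact ⟨(cmHom _ key).comp (QuotientGroup.mk' _), Subgroup.ext fun g =>
    (QuotientGroup.eq_one_iff ⁅y, g⁆).trans ⟨h.mem_N, fun hg => mem_sup_left (h.hy g hg)⟩,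
    fun g => ⟨rfl, key _⟩⟩

theorem index_N (h2 : p ≠ 2) : N.index = p := by
  have := h.D_normal
  obtain ⟨φ, h1, h3⟩ := h.exists_hom
  obtain ⟨g, hg⟩ : ∃ g, g ∉ N := by simpa [eq_top_iff'] using h.ne
  have hb := h.comm_mem_B (h.E_le h.y_mem)
  refine h1 ▸ index_ker_eq φ (w := φ g) (by
    rw [(h3 g).1, ← QuotientGroup.mk_pow, h.B_exp h2 (hb g)]; rfl) (fun k => ?_) (h1 ▸ h.ne)
  obtain ⟨j, d, hd, e⟩ := h.B_form (hb g) (mt h.mem_N hg) (hb k)
  rw [(h3 k).1, (h3 g).1, e, QuotientGroup.mk_mul_of_mem _ hd]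
  exact pow_mem (mem_zpowers _) j

theorem G_form (h2 : p ≠ 2) {g : G} (hg : g ∉ N) (k : G) : ∃ m : ℕ, ∃ n ∈ N, k = g ^ m * n :=
  have := h.nrm
  exists_of_card (p := p) le_top (by rw [card_top, ← h.index_N h2, index_mul_card]) trivial hg
    (by simp [normalizer_eq_top]) trivial

end EG

end En

open En

theorem exists_elemAb_four {G : Type*} [Group G] [Finite G] {p : ℕ} [Fact p.Prime]
    (hG : IsPGroup p G) {N E : Subgroup G} [N.Normal] (hN : N ≠ ⊤)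
    (hNE : Subgroup.normalizer (E : Set G) = N) (hc : Nat.card N = p ^ 4) (hcE : Nat.card E = p ^ 3)
    (hab : ∀ u ∈ E, ∀ v ∈ E, u * v = v * u) (he : ∀ u ∈ E, u ^ p = 1) {y z a : G}
    (hgen : Subgroup.zpowers y ⊔ (Subgroup.zpowers z ⊔ Subgroup.zpowers a) = E)
    (hz : ∀ x ∈ N, x * z = z * x) (ha : ∀ x ∈ N, x * a = a * x)
    (hy : ∀ x ∈ N, ⁅y, x⁆ ∈ Subgroup.zpowers z) (hy' : ∃ x ∈ N, ⁅y, x⁆ ≠ 1) (τ : MulAut G)
    {α β : ℕ} (hαβ : α * β ≡ 1 [MOD p]) (τy : τ y = y ^ β) (τz : τ z = z ^ α) (τa : τ a = a)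
    (h2 : ¬ α ^ 2 ≡ 1 [MOD p]) (h3 : ¬ α ^ 3 ≡ 1 [MOD p]) (h5 : ¬ α ^ 5 ≡ 1 [MOD p]) :
    ∃ X : Subgroup G, Nat.card X = p ^ 4 ∧ (∀ u ∈ X, ∀ v ∈ X, u * v = v * u) ∧
      (∀ u ∈ X, u ^ p = 1) ∧ ∀ g : G, g * a = a * g := by
  have h : EG p N E y z a := ⟨hG, ‹_›, hN, hNE, hc, hcE, hab, he, hgen, hz, ha, hy, hy'⟩
  rw [← ZMod.natCast_eq_natCast_iff] at hαβ h2 h3 h5
  push_cast at hαβ h2 h3 h5
  have hp2 : p ≠ 2 := by
    rintro rfl
    exact h2 (sq_two _ _ hαβ)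
  have := h.D_normal
  have := h.Z_normal
  have := h.B_normal
  have yN := h.E_le h.y_mem
  have tZ : ∀ u ∈ zpowers z, τ u = u ^ α := by
    rintro _ ⟨k, rfl⟩
    rw [map_zpow, τz, ← zpow_natCast, ← zpow_natCast, ← zpow_mul, ← zpow_mul, mul_comm]
  have tD : ∀ d ∈ zpowers z ⊔ zpowers a, d⁻¹ * τ d ∈ zpowers z := fun d hd => by
    obtain ⟨u, hu, _, ⟨k, rfl⟩, rfl⟩ := mem_sup_of_normal_left.1 hd
    convert h.Z_normal.conj_mem _ (mul_mem (inv_mem hu) (pow_mem hu α)) (a ^ k)⁻¹ using 1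
    rw [map_mul, tZ u hu, map_zpow, τa]; group
  have tD' : ∀ d ∈ zpowers z ⊔ zpowers a, τ d ∈ zpowers z ⊔ zpowers a := fun d hd =>
    (mul_mem_cancel_left (inv_mem hd)).1 (mem_sup_left (tD d hd))
  have tE : ∀ e ∈ E, τ e ∈ E := fun e he => by
    obtain ⟨j, d, hd, rfl⟩ := h.E_form he
    rw [map_mul, map_pow, τy]
    exact mul_mem (pow_mem (pow_mem h.y_mem β) j) (h.D_le (tD' d hd))
  have tN : ∀ x ∈ N, τ x ∈ N := fun x hx => hNE.le (mem_normalizer_fintype fun e he => by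
    obtain ⟨e, rfl⟩ := τ.surjective e
    simpa using tE _ ((mem_normalizer_iff.1 (hNE.ge hx) e).1 (mem_of_aut tE he)))
  have tB : ∀ u ∈ h.B, τ u ∈ h.B := fun u hu => h.mem_B.2 ⟨tN u hu.1, fun g => by
    obtain ⟨g, rfl⟩ := τ.surjective g
    exact map_commutatorElement τ u g ▸ tD' _ (hu.2 g trivial)⟩
  have cZ : ∀ {u}, u ∈ zpowers z → ∀ g, Commute g u := fun hu g => mem_center_iff.1 (h.Z_le hu) g
  have wB : ∀ u ∈ h.B, (u ^ α ^ 2)⁻¹ * τ u ∈ zpowers z ⊔ zpowers a := fun u hu => by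
    by_cases h0 : u ∈ zpowers z ⊔ zpowers a
    · exact mul_mem (inv_mem (pow_mem h0 _)) (tD' u h0)
    obtain ⟨j, d, hd, e⟩ := h.B_form hu h0 (tB u hu)
    have c := hy u hu.1
    have e1 : ⁅y, u⁆ ^ α = ⁅y, u⁆ ^ (j * β) := by
      rw [← tZ _ c, map_commutatorElement, τy, comm_pow_left (cZ (hy _ (tN u hu.1)) _), e,
        comm_mul_right, commutatorElement_eq_one_iff_mul_comm.2 (h.D_comm hd yN),
        comm_pow_right (cZ c _), pow_mul]
      simp
    have e2 : (α : ZMod p) = (j * β : ℕ) := by_contra fun e2 => h.comm_ne hu h0 (mem_bot.1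
      (mem_of_wt (by rw [he _ (h.D_le (mem_sup_left c))]; exact one_mem _) (by simp [e1]) e2))
    obtain ⟨k, hk⟩ := (ZMod.natCast_eq_natCast_iff (α ^ 2) j p).1 (by
      push_cast at e2 ⊢; linear_combination α * e2 + j * hαβ)
      |> fun e => (⟨0, pow_eq_pow_of_modEq e (h.B_exp hp2 hu)⟩ : ∃ _ : ℕ, _)
    rwa [e, hk, inv_mul_cancel_left]
  obtain ⟨φ, φ1, φ2⟩ := h.exists_hom
  have wG : ∀ g ∉ N, ∃ m : ℕ, ∃ n ∈ N, τ g = g ^ m * n ∧ (m : ZMod p) = α ^ 3 := fun g hg => by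
    obtain ⟨m, n, hn, e⟩ := h.G_form hp2 hg (τ g)
    refine ⟨m, n, hn, e, ?_⟩
    have hb := h.comm_mem_B yN g
    have e1 := QuotientGroup.eq.2 (wB _ hb)
    have c := (φ2 (τ g)).2
    rw [(φ2 _).1, ← QuotientGroup.mk'_apply, map_commutatorElement] at c
    rw [map_commutatorElement, τy, ← QuotientGroup.mk'_apply, ← QuotientGroup.mk'_apply,
      map_commutatorElement, map_pow _ y, comm_pow_left (mem_center_iff.1 c _),
      ← map_commutatorElement, QuotientGroup.mk'_apply, QuotientGroup.mk'_apply, ← (φ2 _).1, e,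
      map_mul, map_pow, φ1.ge hn, mul_one, ← pow_mul, (φ2 _).1, ← QuotientGroup.mk_pow,
      QuotientGroup.eq] at e1
    have e2 : ((α ^ 2 : ℕ) : ZMod p) = (m * β : ℕ) := by_contra fun e2 => hg (h.mem_N
      (mem_of_wt (by rw [h.B_exp hp2 hb]; exact one_mem _) e1 e2))
    push_cast at e2
    linear_combination -α * e2 - m * hαβ
  obtain ⟨g, hg⟩ : ∃ g, g ∉ N := by simpa [eq_top_iff'] using hN
  obtain ⟨m, n, hn, eg, em⟩ := wG g hg
  have aD : a ∈ zpowers z ⊔ zpowers a := mem_sup_right (mem_zpowers a)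
  have aZ := comm_mem_of_card hG le_sup_left (by rw [h.card_D, h.card_Z, pow_two]) aD
  have n3 : (α : ZMod p) ^ 3 ≠ α := fun e => h2 (by linear_combination β * e - (α ^ 2 - 1) * hαβ)
  have ca : ∀ k, k * a = a * k := fun k => by
    let ψ := cmHom a fun k => h.Z_le (aZ k)
    have e0 : ∀ n ∈ N, ψ n = 1 := fun n hn => commutatorElement_eq_one_iff_mul_comm.2 (ha n hn).symm
    have e1 : ψ g ^ m = ψ g ^ α := by
      rw [← tZ (ψ g) (aZ g), ← map_pow, ← mul_one (ψ _), ← e0 n hn, ← map_mul, ← eg]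
      exact (τa ▸ map_commutatorElement τ a g).symm
    have e2 : ψ g = 1 := mem_bot.1 (mem_of_wt (mem_bot.2 (he _ (h.D_le (mem_sup_left (aZ g)))))
      (m := m) (k := α) (by simp [e1]) (em ▸ n3))
    obtain ⟨j, n, hn, rfl⟩ := h.G_form hp2 hg k
    exact (commutatorElement_eq_one_iff_mul_comm.1 (show ψ _ = 1 by simp [e2, e0 n hn])).symm
  have cD : zpowers z ⊔ zpowers a ≤ center G := sup_le h.Z_le (zpowers_le.2 (mem_center_iff.2 ca))
  have hb := h.comm_mem_B yN g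
  have hb0 := mt h.mem_N hg
  generalize ⁅y, g⁆ = b at hb hb0
  let χ := cmHom b fun k => cD (hb.2 k trivial)
  have bZ : χ g ∈ zpowers z := by
    have e1 : τ (χ g) = χ g ^ (m * α ^ 2) * χ n ^ α ^ 2 := by
      rw [pow_mul, ← Commute.mul_pow (a := χ g ^ m) (b := χ n)
        (mem_center_iff.1 (cD (hb.2 n trivial)) _), ← map_pow,
        ← map_mul, ← eg, show τ (χ g) = _ from map_commutatorElement τ b g,
        ← mul_inv_cancel_left (b ^ α ^ 2) (τ b), comm_mul_left,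
        commutatorElement_eq_one_iff_mul_comm.2 (mem_center_iff.1 (cD (wB b hb)) _).symm,
        comm_pow_left (mem_center_iff.1 (cD (hb.2 _ trivial)) _)]
      simp [χ, cmHom]
    have e2 := tD _ (hb.2 g trivial)
    rw [show τ ⁅b, g⁆ = _ from e1, ← mul_assoc,
      mul_mem_cancel_right (show χ n ^ α ^ 2 ∈ _ from pow_mem (h.comm_mem hb.1 hn) _)] at e2
    exact mem_of_wt ((he (χ g) (h.D_le (hb.2 g trivial))).symm ▸ one_mem _) (m := 1)
      (k := m * α ^ 2) (by rw [pow_one]; exact e2)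
      (by push_cast; rw [em]; exact fun e => h5 (by linear_combination -e))
  have yX : y ∉ χ.ker := fun e => h.comm_ne hb hb0 (by
    rw [← commutatorElement_inv, inv_eq_one]; exact e)
  have cX : Nat.card χ.ker = p ^ 4 := by
    have e1 := index_ker_eq χ (he z (h.D_le (mem_sup_left (mem_zpowers z)))) (fun k => by
      obtain ⟨j, n, hn, rfl⟩ := h.G_form hp2 hg k
      rw [map_mul, map_pow]
      exact mul_mem (pow_mem bZ j) (h.comm_mem hb.1 hn)) fun e => yX (e ▸ mem_top y)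
    have e2 := χ.ker.index_mul_card.trans N.index_mul_card.symm
    rwa [e1, h.index_N hp2, hc, Nat.mul_right_inj (Fact.out : p.Prime).ne_zero] at e2
  have BX : h.B ≤ χ.ker := fun u hu => commutatorElement_eq_one_iff_commute.2 (h.B_comm hb hu)
  have XB : ∀ x ∈ χ.ker, ∀ u ∈ h.B, Commute x u := fun x hx u hu => by
    obtain ⟨j, d, hd, rfl⟩ := h.B_form hb hb0 hu
    exact ((commutatorElement_eq_one_iff_commute.1 hx).symm.pow_right j).mul_right
      (mem_center_iff.1 (cD hd) x)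
  have XN : χ.ker ⊓ N = h.B := (eq_or_of_card (le_inf BX h.B_le) inf_le_right (by
    rw [hc, h.card_B, pow_succ'])).resolve_right fun e => yX (e.ge yN).1
  refine ⟨χ.ker, cX, fun u hu v hv => ?_, fun x hx => ?_, ca⟩
  · by_cases h0 : u ∈ h.B
    · exact (XB v hv u h0).symm
    · obtain ⟨j, e, he, rfl⟩ := exists_of_card BX (by rw [cX, h.card_B, pow_succ']) hu h0
        (by simp [normalizer_eq_top]) hv
      exact (Commute.self_pow u j).mul_right (XB u hu e he)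
  by_cases h0 : x ∈ N
  · exact h.B_exp hp2 (XN.le ⟨hx, h0⟩)
  obtain ⟨m, n, hn, eg, em⟩ := wG x h0
  have tx : τ x ∈ χ.ker := by
    obtain ⟨u, rfl⟩ := τ.surjective b
    exact (map_commutatorElement τ u x).symm.trans (by
      rw [commutatorElement_eq_one_iff_commute.2 (XB x hx u (mem_of_aut tB hb)).symm, map_one])
  have nB : n ∈ h.B := XN.le ⟨(mul_mem_cancel_left (pow_mem hx m)).1 (eg ▸ tx), hn⟩
  have wm : x ^ p ∈ h.B := XN.le ⟨pow_mem hx p, h.index_N hp2 ▸ N.pow_index_mem x⟩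
  have e1 : τ (x ^ p) = (x ^ p) ^ m := by
    rw [map_pow, eg, ((XB x hx n nB).pow_left m).mul_pow, h.B_exp hp2 nB, mul_one, ← pow_mul,
      ← pow_mul, mul_comm]
  generalize x ^ p = w at *
  have e2 := h.B_exp hp2 wm
  have w1 : w ∈ zpowers z ⊔ zpowers a := mem_of_wt (e2 ▸ one_mem _) (e1 ▸ wB w wm) (by
    push_cast; rw [em]; exact fun e => h2 (by
      linear_combination -(α + 1) * β ^ 2 * e - (α ^ 2 - 1) * (α * β + 1) * hαβ))
  have w2 : w ∈ zpowers z := mem_of_wt (e2 ▸ one_mem _) (m := 1) (k := m)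
    (by simpa [e1] using tD w w1) (by push_cast; rw [em]; exact Ne.symm h3)
  exact mem_bot.1 (mem_of_wt (e2 ▸ one_mem _) (m := m) (k := α) (by simp [← e1, tZ w w2]) (em ▸ n3))

end Cfsg.Lib.Fus.R3
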