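import Cfsg.Agent.Fus.R3Top
import Cfsg.Agent.Fus.R3End
import Cfsg.Agent.Fus.EssSmall

/-! Two conjugate local data, and the flag stabilized by the automizer of their normalizer. -/

namespace Cfsg.Lib.Fus.R3

open Subgroup Cfsg.Lib.Solv Cfsg.Lib.Fus.Ess
open scoped commutatorElement

variable {G : Type*} [Group G] {p : ℕ} {D E E₁ E₂ K N T X Y Z : Subgroup G}
  {A : Subgroup (MulAut E)} {A₁ : Subgroup (MulAut E₁)} {A₂ : Subgroup (MulAut E₂)}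
  {Γ : Subgroup (MulAut G)} {t u φ : MulAut G} {g s x y z : G} [Finite G]

theorem eq_of_sup_phi (hX : X ≤ E) (h : X ⊔ Phi E = E) : X = E := by
  have h1 : X.subgroupOf E ⊔ frattini E = ⊤ := map_injective E.subtype_injective (by
    rw [Subgroup.map_sup, map_subgroupOf_eq_of_le hX, h, ← MonoidHom.range_eq_map, range_subtype])
  rw [← map_subgroupOf_eq_of_le hX, eq_top_of_sup_eq_top_of_le_frattini le_rfl h1,
    ← MonoidHom.range_eq_map, range_subtype]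

variable [hp : Fact p.Prime]

namespace Two

variable (h : Two p A₁ A₂)
include h

theorem not_outB_of_le (r : Nat.card E₁ ≤ p ^ 2 * Nat.card (Phi E₁)) : ¬ OutB p A₁ E₂ := fun b => by
  rw [le_bot_iff.1 ((ea_iff h.l1.pg).1 b.ea), card_bot, mul_one, b.c1] at r
  exact absurd r (pow_lt_pow_right₀ hp.out.one_lt (by norm_num)).not_ge

theorem not_outB_of_ge (r : p ^ 3 * Nat.card (Phi E₂) ≤ Nat.card E₂) : ¬ OutB p A₁ E₂ := fun b => by
  rw [← h.card_eq, b.c1] at r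
  exact b.nab ((ea_iff h.l1.pg).2 ((card_le_one_iff_eq_bot _).1 (Nat.le_of_mul_le_mul_left
    (r.trans_eq (mul_one _).symm) (pow_pos hp.out.pos 3))).le).comm

theorem rank_two (r1 : Nat.card E₁ ≤ p ^ 2 * Nat.card (Phi E₁))
    (r2 : Nat.card E₂ ≤ p ^ 2 * Nat.card (Phi E₂)) : (∀ x ∈ E₁, x ^ p = 1) ∧
      Nat.card (Phi E₁) ≤ p ∧ Nat.card E₁ = p ^ 2 * Nat.card (Phi E₁) := by
  have hG := h.l1.pg
  obtain ⟨T, c⟩ := exists_core A₁ A₂
  obtain ⟨p1, p2⟩ := (h.phi_le_or c).resolve_right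
    (not_or.2 ⟨h.not_outB_of_le r1, h.symm.not_outB_of_le r2⟩)
  have c0 : 0 < Nat.card T := Nat.card_pos
  have c1 := r1.trans (Nat.mul_le_mul_left _ (card_le_card_of_le p1))
  have hc := (h.card_cases c p1).resolve_right fun e => absurd (e.ge.trans c1)
    (Nat.mul_lt_mul_of_pos_right (pow_lt_pow_right₀ hp.out.one_lt (by norm_num)) c0).not_ge
  obtain rfl : Phi E₁ = T := eq_of_le_of_card_le p1
    (Nat.le_of_mul_le_mul_left (hc.ge.trans r1) (pow_pos hp.out.pos 2))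
  have n1 := h.not_pa c
  have q := h.pa_of_sq c.le1 c.le2 c.i1 c.i2 n1 (h.symm.not_pa c.symm) p1 p2 hc
  have := h.l1.normal
  have hC := eq_of_sup_phi inf_le_left (h.l1.cent_sup' c.i1 c.le1 n1 hc q)
  have hz : ∀ e ∈ E₁, ∀ t ∈ Phi E₁, ⁅e, t⁆ = 1 := fun e he => mem_commLe.1 (hC.ge he).2
  have hpw : ∀ x ∈ E₁, ∀ y ∈ E₁, ⁅x, y⁆ ^ p = 1 := fun x hx y hy => by
    rw [← Trans.commutatorElement_pow_right_of_commute
      (comm_eq_one.1 (hz y hy _ (comm_mem_phi hG hx hy))).symm, hz x hx _ (pow_mem_phi hG hy)]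
  have h7 : ∀ x ∈ E₁ ⊓ commLe (Phi E₁) ⊥, ∀ y ∈ E₁ ⊓ commLe (Phi E₁) ⊥, ⁅x, y⁆ ^ p ∈
      (⊥ : Subgroup G) ∧ ∀ z ∈ E₁ ⊓ commLe (Phi E₁) ⊥, ⁅⁅x, y⁆, z⁆ ∈ (⊥ : Subgroup G) :=
    fun x hx y hy => ⟨hpw x hx.1 y hy.1, fun z hz' =>
      comm_symm (hz z hz'.1 _ (comm_mem_phi hG hx.1 hy.1))⟩
  have hCi := c.i1.commLe pInv_bot c.le1
  have hP := eq_of_sup_phi (X := powIn h.p2 _ ⊥ h7) (fun _ hx => hx.1.1) (h.l1.cent_sup c.i1 c.le1 n1 hc q
    (X := powIn h.p2 _ ⊥ h7) (fun _ hx => hx.1)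
    (fun a ha x hx => ⟨hCi a ha x hx.1, ppow a hx.1.1 p ▸ pInv_bot a ha _ hx.2⟩)
    (Loc.pa_pow h.p2 hCi inf_le_left q (fun x hx => pow_mem_phi hG hx.1) h7))
  have he : ∀ x ∈ E₁, x ^ p = 1 := fun x hx => (hP.ge hx).2
  obtain ⟨z, hz', y, hy, -, h3, -⟩ := h.l1.torus pInv_self c.i1 le_rfl c.le1 le_rfl
    (fun e he x hx => comm_mem_phi hG he hx) n1 hc.le
  have h4 := comm_mem_two (N := zpowers ⁅z, y⁆) (fun e he => mem_normalizer_fintype fun n hn => by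
    rwa [comm_eq_one.1 (hz e he n (zpowers_le.2 (comm_mem_phi hG hz' hy) hn)),
      mul_inv_cancel_right]) c.le1 hz' hy (fun e he t ht => hz e he t ht ▸ one_mem _)
    (mem_zpowers _) h3.ge
  refine ⟨he, (card_le_card_of_le ((phi_le_iff hG).2 ⟨h4, fun x hx => he x hx ▸ one_mem _⟩)).trans
    ?_, hc⟩
  rw [Nat.card_zpowers]
  exact orderOf_le_of_pow_eq_one hp.out.pos (hpw z hz' y hy)

theorem comm_phi_of_sq (h1 : T ≤ E₁) (i1 : PInv A₁ T) (n1 : ¬ PA p A₁ E₁ T) (p1 : Phi E₁ ≤ T)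
    (p2 : Phi E₂ ≤ T) (hc : Nat.card E₁ = p ^ 2 * Nat.card T) (q : PA p A₁ T ⊥) (g : G)
    (hx : x ∈ E₁ ⊓ E₂) : ⁅g, x⁆ ∈ Phi E₁ := by
  have hG := h.l1.pg
  have := h.l1.normal
  have := h.l1.normal_of i1 h1
  obtain ⟨β, hβ, a1, -, a2, a3⟩ := h.l1.exists_inv pInv_self i1 le_rfl h1 p1
    (fun e he x hx => p1 (comm_mem_phi hG he hx)) n1 hc.le
  obtain ⟨e, he, a4⟩ := a3.comm h.l1.normal g
  have c1 := card_le_of_secRank hG h.sr (X := E₁) phi_le le_rfl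
  rw [hc, pow_succ p 2, mul_assoc] at c1
  replace c1 := Nat.le_of_mul_le_mul_left c1 (pow_pos hp.out.pos 2)
  have h2 := h.comm_inf p1 p2 g hx
  have h3 := congrArg (qm (Phi E₁)) ((a4 x hx.1).symm.trans (q.eq hβ a1 h2))
  have k : ∀ a ∈ E₁, ∀ b ∈ E₁, qm (Phi E₁) a * qm _ b = qm _ b * qm _ a := fun a ha b hb =>
    qm_comm.2 (comm_mem_phi hG ha hb)
  rw [← inv_mul_cancel_left x (pext E₁ β x), map_commutatorElement, map_mul, map_mul _ x⁻¹,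
    comm_mul_of_comm (k e he _ (inv_mem hx.1)) (k e he _ (h1 (a2 x hx.1)))
      (qm_comm.2 (comm_symm (comm_of_card hG p1 c1 g (a2 x hx.1)))), ← map_commutatorElement,
    show ⁅g, x⁻¹⁆ = x⁻¹ * (⁅g, x⁆⁻¹ * x) by group, map_mul, map_mul,
    k _ (inv_mem (h1 h2)) x hx.1, map_inv, inv_mul_cancel_left, map_inv, inv_eq_iff_mul_eq_one,
    ← map_mul, qm_eq_one] at h3
  exact eq_one_of_sq h.p2 (pow_mem_phi hG (h1 h2)) h3

theorem phi_le_of_sq (h1 : T ≤ E₁) (h2 : T ≤ E₂) (i1 : PInv A₁ T) (n1 : ¬ PA p A₁ E₁ T)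
    (p1 : Phi E₁ ≤ T) (hc : Nat.card E₁ = p ^ 2 * Nat.card T) (q : PA p A₁ T ⊥)
    (h3 : ∀ g : G, ∀ x ∈ E₁ ⊓ E₂, ⁅g, x⁆ ∈ Phi E₁ ⊓ Phi E₂) : Phi E₁ ≤ Phi E₂ := by
  have hG := h.l1.pg
  have := h.l1.normal
  have := h.l2.normal
  obtain ⟨y, hy, hy'⟩ := SetLike.not_le_iff_exists.1 h.not_le
  have h4 := (h.symm.inf_sup hy hy').trans_eq (by rw [inf_comm])
  have h5 : ∀ a ∈ E₁, ∀ b ∈ E₁, ⁅a, b⁆ ∈ Phi E₁ ⊓ Phi E₂ := fun a ha =>
    h4.trans (sup_le (c := cen a (Phi E₁ ⊓ Phi E₂)) (h3 a) (zpowers_le.2 (cen_symm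
      (h4.trans (sup_le (c := cen y (Phi E₁ ⊓ Phi E₂)) (h3 y) (zpowers_le.2 self_mem_cen)) ha))))
  have hi : PInv A₁ (Phi E₁ ⊓ Phi E₂) := h.l1.pInv_of_pa q bot_le (inf_le_left.trans p1) h1
  have h7 : ∀ x ∈ E₁, ∀ y ∈ E₁, ⁅x, y⁆ ^ p ∈ Phi E₁ ⊓ Phi E₂ ∧
      ∀ z ∈ E₁, ⁅⁅x, y⁆, z⁆ ∈ Phi E₁ ⊓ Phi E₂ := fun x hx y hy =>
    ⟨pow_mem (h5 x hx y hy) p, fun z _ => comm_mem_left z (h5 x hx y hy)⟩
  have h8 : E₁ ⊓ E₂ ≤ powIn h.p2 _ _ h7 := fun x hx =>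
    ⟨hx.1, pow_mem_phi hG hx.1, pow_mem_phi hG hx.2⟩
  exact phi_le_of hG (fun a ha b hb => (h5 a ha b hb).2) fun x hx => (((h.l1.irr pInv_self i1
    (W := powIn h.p2 _ _ h7) (fun a ha x hx => ⟨pmem a hx.1, ppow a hx.1 p ▸ hi a ha _ hx.2⟩)
    le_rfl ((le_inf h1 h2).trans h8) (fun _ hx => hx.1) hc.le n1).resolve_left fun e => n1
      (h.l1.fx_of_card pInv_self i1 le_rfl h1 (h.card_inf.trans_le (Nat.mul_le_mul_left p
        (card_le_card_of_le (h8.trans e.le))))).pa).ge hx).2.2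

theorem rank_three (r1 : p ^ 3 * Nat.card (Phi E₁) ≤ Nat.card E₁)
    (r2 : p ^ 3 * Nat.card (Phi E₂) ≤ Nat.card E₂) : Phi E₁ ≤ Phi E₂ ∧
      ∀ x ∈ E₁, x ∈ E₂ ↔ ∀ g : G, ⁅g, x⁆ ∈ Phi E₁ := by
  have hG := h.l1.pg
  have := h.l1.normal
  obtain ⟨T, c⟩ := exists_core A₁ A₂
  obtain ⟨p1, p2⟩ := (h.phi_le_or c).resolve_right
    (not_or.2 ⟨h.not_outB_of_ge r2, h.symm.not_outB_of_ge r1⟩)
  have := h.l1.normal_of c.i1 c.le1
  have n1 := h.not_pa c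
  have n2 := h.symm.not_pa c.symm
  have k : Phi E₁ ≤ Phi E₂ ∧ ∀ g : G, ∀ x ∈ E₁ ⊓ E₂, ⁅g, x⁆ ∈ Phi E₁ := by
    rcases h.card_cases c p1 with hc | hc
    · have q1 := h.pa_of_sq c.le1 c.le2 c.i1 c.i2 n1 n2 p1 p2 hc
      have q2 := h.symm.pa_of_sq c.le2 c.le1 c.i2 c.i1 n2 n1 p2 p1 (h.card_eq ▸ hc)
      have k1 := fun g x => h.comm_phi_of_sq c.le1 c.i1 n1 p1 p2 hc q1 g (x := x)
      exact ⟨h.phi_le_of_sq c.le1 c.le2 c.i1 n1 p1 hc q1 fun g x hx => ⟨k1 g x hx,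
        h.symm.comm_phi_of_sq c.le2 c.i2 n2 p2 p1 (h.card_eq ▸ hc) q2 g ⟨hx.2, hx.1⟩⟩, k1⟩
    · have e1 := eq_of_le_of_card_le p1 (Nat.le_of_mul_le_mul_left (hc.ge.trans
        (card_le_of_secRank hG h.sr phi_le le_rfl)) (pow_pos hp.out.pos 3))
      have e2 := eq_of_le_of_card_le p2 (Nat.le_of_mul_le_mul_left ((h.card_eq ▸ hc).ge.trans
        (card_le_of_secRank hG h.sr phi_le le_rfl)) (pow_pos hp.out.pos 3))
      exact ⟨(e1.trans e2.symm).le, fun g x hx => e1.ge (h.comm_inf p1 p2 g hx)⟩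
  refine ⟨k.1, fun x hx => ⟨fun e g => k.2 g x ⟨hx, e⟩, fun e => by_contra fun hx' => ?_⟩⟩
  obtain ⟨s, hs⟩ := h.l1.exists_not_mem
  exact h.l1.not_pa_phi (h.l1.pa_of_comm pInv_self (pInv_self.phi hG le_rfl) le_rfl hs
    ((h.symm.inf_sup hx hx').trans (sup_le (c := cen s (Phi E₁))
      (fun y hy => k.2 s y ⟨hy.2, hy.1⟩) (zpowers_le.2 (e s)))))

end Two

omit hp in
theorem inv_mem_of_map (h : ∀ x ∈ X, φ x ∈ Y) (hc : Nat.card Y ≤ Nat.card X) (hy : y ∈ Y) :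
    φ⁻¹ y ∈ X := by
  obtain ⟨x, hx, rfl⟩ := (eq_of_le_of_card_le (P := X.map φ.toMonoidHom) (map_le_iff_le_comap.2 h)
    (by rwa [card_map_of_injective φ.injective])).ge hy
  simpa using hx

/-- The line fixed by a transvection is the only one that is not conjugate to `E`. -/
theorem exists_flag (hG : IsPGroup p G) (hD : AInv Γ D) [D.Normal] (hDE : D ≤ E)
    (c1 : Nat.card E = p * Nat.card D) (c2 : Nat.card G = p * Nat.card E) (ht : t ∈ Γ)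
    (htp : ∃ k, t ^ p ^ k = 1) (hn : ∀ φ ∈ Γ, ¬ ∀ x ∈ E, (φ⁻¹ * t * φ) x ∈ E) :
    ∃ B, AInv Γ B ∧ D ≤ B ∧ Nat.card B ≤ p * Nat.card D ∧ Nat.card G ≤ p * Nat.card B := by
  obtain ⟨B, h1, -, h2, h3, h4⟩ := exists_triv_triv hG htp (X := ⊤) (fun _ _ => trivial) (hD t ht)
    le_top (by rw [card_top, c2, c1]; exact le_of_eq (by ring))
  obtain ⟨e, he, he'⟩ : ∃ e ∈ E, e⁻¹ * t e ∉ E := by
    by_contra! h5
    exact hn 1 (one_mem _) fun x hx => by simpa using mul_mem hx (h5 x hx)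
  have hb := h3 e trivial
  have c3 : p * Nat.card D ≤ Nat.card B := mul_card_le hG h1 fun h5 => he' (hDE (h5.ge hb))
  have c4 : Nat.card G ≤ p * Nat.card B := c2.trans_le (Nat.mul_le_mul_left p (c1.trans_le c3))
  have heB : e ∉ B := fun h5 => he' (hDE (h4 e h5))
  have heD : e ∉ D := fun h5 => heB (h1 h5)
  have hBn : B.Normal := PG.normal_of_index_eq_prime hG (PG.index_eq_of_card_eq_mul
    (le_antisymm c4 (by simpa using mul_card_le hG le_top fun h5 => heB (h5.ge trivial))))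
  refine ⟨B, fun φ hφ k hk => by_contra fun hk' => ?_, h1, h2, c4⟩
  obtain ⟨b, hb', _, ⟨j, rfl⟩, h5⟩ := mem_sup_of_normal_left.1
    (le_sup_zpowers hG le_top trivial hk' (by rwa [card_top]) (mem_top e))
  obtain ⟨d, hd, w, hw, h6⟩ := mem_sup_of_normal_left.1 (le_sup_zpowers hG h1 hb
    (fun h6 => he' (hDE h6)) h2 (hBn.conj_mem' _ (inv_mem hb') e))
  obtain ⟨i, rfl⟩ := (mem_powers_iff_mem_zpowers.2 hw : w ∈ Submonoid.powers _)
  obtain ⟨z, hz, h7⟩ := h3.exists_pow_apply h4 (hD t ht) (mem_top e) i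
  have h8 : ∀ x ∈ E, (φ⁻¹ * t ^ i) x ∈ B := (le_sup_zpowers hG hDE he heD c1.le).trans
    (sup_le (c := B.comap (φ⁻¹ * t ^ i).toMonoidHom) (fun x hx => h1 (hD _ (mul_mem (inv_mem hφ)
      (pow_mem ht i)) x hx)) (zpowers_le.2 (mem_comap.2 ?_)))
  · exact hn _ (mul_mem (inv_mem hφ) (pow_mem ht i)) fun x hx =>
      inv_mem_of_map (φ := φ⁻¹ * t ^ i) h8 (h2.trans c1.ge) (h4.maps h1 (h8 x hx))
  · have h9 : (t ^ i) e = e * d⁻¹ * e⁻¹ * φ (k ^ j) * z := by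
      simp only at h5 h6
      rw [h7, map_zpow, ← inv_mul_cancel_left d ((e⁻¹ * t e) ^ i), h6,
        ← inv_mul_cancel_left b (φ k ^ j), h5]
      group
    rw [MulEquiv.coe_toMonoidHom, MulAut.mul_apply, h9, map_mul, map_mul, MulAut.inv_apply_self]
    exact mul_mem (mul_mem (h1 (hD _ (inv_mem hφ) _ (Normal.conj_mem ‹_› _ (inv_mem hd) e)))
      (zpow_mem hk j)) (h1 (hD _ (inv_mem hφ) _ hz))

/-- The elements of `E` that are central modulo `Φ(E)`. -/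
abbrev Dd (E : Subgroup G) : Subgroup G := E ⊓ commLe ⊤ (Phi E)

omit [Finite G] hp in
theorem mem_dd [E.Normal] : x ∈ Dd E ↔ x ∈ E ∧ ∀ g : G, ⁅g, x⁆ ∈ Phi E :=
  and_congr Iff.rfl (mem_commLe.trans
    ⟨fun h g => comm_symm (h g trivial), fun h g _ => comm_symm (h g)⟩)

section Fam

variable (h : Loc p E A) (hp2 : p ≠ 2) (sr : SectionalPRankLE p 3 G)
  (r : p ^ 3 * Nat.card (Phi E) ≤ Nat.card E)
  (hf : ∀ φ ∈ Γ, ∃ A', Loc p (E.map (φ : MulAut G).toMonoidHom) A')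
include h hp2 sr r

theorem Loc.dd_eq {E'} {A'} (h' : Loc p E' A') (e : E.map φ.toMonoidHom = E') (hne : E ≠ E') :
    Dd E = E ⊓ E' ∧ Phi E' ≤ Phi E ∧ ∀ y ∈ E', (∀ g : G, ⁅g, y⁆ ∈ Phi E') → y ∈ E := by
  have := h.normal
  have r' : p ^ 3 * Nat.card (Phi E') ≤ Nat.card E' := by
    rwa [← e, Phi, ← map_map_frattini_of_isPGroup (h.pg.to_subgroup E),
      card_map_of_injective (f := φ.toMonoidHom) φ.injective,
      card_map_of_injective (f := φ.toMonoidHom) φ.injective]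
  have t : Two p A A' := ⟨h, h', hne, hp2, sr⟩
  exact ⟨Subgroup.ext fun x => mem_dd.trans (and_congr_right fun hx =>
    ((t.rank_three r r').2 x hx).symm), (t.symm.rank_three r' r).1,
    fun y hy => ((t.symm.rank_three r' r).2 y hy).2⟩

include hf

theorem Loc.aInv_dd : AInv Γ (Phi E) ∧ AInv Γ (Dd E) := by
  have := h.normal
  have k : ∀ φ ∈ Γ, (∀ x ∈ Phi E, φ x ∈ Phi (E.map φ.toMonoidHom)) ∧
      Phi (E.map φ.toMonoidHom) ≤ Phi E ∧ ∀ y ∈ E.map φ.toMonoidHom,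
        (∀ g : G, ⁅g, y⁆ ∈ Phi (E.map φ.toMonoidHom)) → y ∈ E := fun φ hφ => by
    obtain ⟨A', h'⟩ := hf φ hφ
    refine ⟨fun x hx => (map_map_frattini_of_isPGroup (h.pg.to_subgroup E) φ.toMonoidHom).le
      (mem_map_of_mem _ hx), ?_⟩
    by_cases e : E = E.map φ.toMonoidHom
    · rw [← e]; exact ⟨le_rfl, fun _ hy _ => hy⟩
    · exact (h.dd_eq hp2 sr r h' rfl e).2
  refine ⟨fun φ hφ x hx => (k φ hφ).2.1 ((k φ hφ).1 x hx), fun φ hφ x hx => ?_⟩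
  have h1 : ∀ g : G, ⁅g, φ x⁆ ∈ Phi (E.map φ.toMonoidHom) := fun g => by
    simpa [map_commutatorElement] using (k φ hφ).1 _ ((mem_dd.1 hx).2 (φ⁻¹ g))
  exact mem_dd.2 ⟨(k φ hφ).2.2 _ (mem_map_of_mem _ hx.1) h1, fun g => (k φ hφ).2.1 (h1 g)⟩

variable (ht : t ∈ Γ) (hn : ∀ φ ∈ Γ, ¬ ∀ x ∈ E, (φ⁻¹ * t * φ) x ∈ E)
include ht hn

theorem Loc.card_dd : Nat.card E = p * Nat.card (Dd E) ∧ frattini G ≤ Dd E := by
  obtain ⟨A', h'⟩ := hf t ht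
  have hne : E ≠ E.map t.toMonoidHom := fun e =>
    hn 1 (one_mem _) fun x hx => by simpa using e.ge (mem_map_of_mem _ hx)
  have := h.normal
  have := h'.normal
  rw [(h.dd_eq hp2 sr r h' rfl hne).1]
  exact ⟨Two.card_inf ⟨h, h', hne, hp2, sr⟩, le_inf (frattini_le_of_index_eq_prime _ h.index)
    (frattini_le_of_index_eq_prime _ h'.index)⟩

theorem Loc.mem_pCoreIn_of_fam (htp : ∃ k, t ^ p ^ k = 1) (hu : u ∈ Γ)
    (hup : ∃ k, u ^ p ^ k = 1) : u ∈ pCoreIn p Γ := by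
  have hG := h.pg
  have := h.normal
  have h1 := (h.aInv_dd hp2 sr r hf).2
  obtain ⟨c1, h2⟩ := h.card_dd hp2 sr r hf ht hn
  obtain ⟨B, b1, b2, b3, b4⟩ := exists_flag hG h1 inf_le_left c1 h.card ht htp hn
  have c2 := card_le_of_secRank hG sr le_top map_frattini_top.le
  rw [card_top, h.card, c1, ← mul_assoc, ← sq, pow_succ p 2, mul_assoc] at c2
  exact ((((ptr_of_card_le hG hu hup aInv_top b1 le_top (by rwa [card_top])).trans hG
    (ptr_of_card_le hG hu hup b1 h1 b2 b3) h1).trans hG (ptr_of_card_le hG hu hup h1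
      (AInv.of_char _) h2 (Nat.le_of_mul_le_mul_left c2 (pow_pos hp.out.pos 2)))
      (AInv.of_char _)).of_frattini hG).mem_pCoreIn

end Fam

theorem Loc.exists_basis (h : Loc p E A) (hp2 : p ≠ 2) (sr : SectionalPRankLE p 3 G)
    (c1 : Nat.card E = p * Nat.card (Dd E)) (h1 : frattini G ≤ Dd E) {a b : ℕ}
    (hab : a * b ≡ 1 [MOD p]) : ∃ y ∈ E, ∃ z ∈ Dd E, ∃ w ∈ Dd E,
      E ≤ Phi E ⊔ (zpowers y ⊔ (zpowers z ⊔ zpowers w)) ∧ (∀ g : G, ⁅y, g⁆ ∈ Phi E ⊔ zpowers z) ∧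
      y ∉ Dd E ∧ ∃ β ∈ A, (orderOf β).Coprime p ∧
        β ∈ normalizer ((cA h.normal).range : Set (MulAut E)) ∧ (z ^ a)⁻¹ * pext E β z ∈ Phi E ∧
        (y ^ b)⁻¹ * pext E β y ∈ Phi E ∧ w⁻¹ * pext E β w ∈ Phi E := by
  have hG := h.pg
  have := h.normal
  have c0 : 0 < Nat.card (Dd E) := Nat.card_pos
  have hED : ¬ E ≤ Dd E := fun e => by
    have := card_le_card_of_le e
    nlinarith [hp.out.one_lt]
  obtain ⟨s, hs⟩ := h.exists_not_mem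
  obtain ⟨x, hx, hx'⟩ := SetLike.not_le_iff_exists.1 hED
  have hz : ⁅s, x⁆ ∈ Dd E :=
    h1 (commutator_le_frattini_of_isPGroup hG (commutator_mem_commutator trivial trivial))
  have hPD : Phi E ≤ Dd E := fun y hy => mem_dd.2 ⟨phi_le hy, fun g => comm_mem_right g hy⟩
  have hL : Phi E ⊔ zpowers ⁅s, x⁆ ≤ Dd E := sup_le hPD (zpowers_le.2 hz)
  have : (Phi E ⊔ zpowers ⁅s, x⁆).Normal := ⟨fun n hn g => by
    have : ⁅g, n⁆ * n ∈ Phi E ⊔ zpowers ⁅s, x⁆ :=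
      mul_mem (mem_sup_left ((mem_dd.1 (hL hn)).2 g)) hn
    rwa [commutatorElement_def g n, inv_mul_cancel_right] at this⟩
  have h2 : E ≤ cen s (Phi E ⊔ zpowers ⁅s, x⁆) := (le_sup_zpowers hG inf_le_left hx hx' c1.le).trans
    (sup_le (fun d hd => mem_sup_left ((mem_dd.1 hd).2 s)) (zpowers_le.2
      (mem_sup_right (mem_zpowers _))))
  generalize ⁅s, x⁆ = z at *
  have hi : PInv A (Phi E) := pInv_self.phi hG le_rfl
  obtain ⟨y, hy, W, h3, h4, h5, h6, -, -, h7⟩ := h.plane pInv_self hi le_rfl phi_le le_rfl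
    (fun e he x hx => conj_mem_of_comm (comm_mem_phi hG he hx)) h.not_pa_phi hs hz.1
    (fun x hx => conj_mem_of_comm (h2 hx)) (conj_mem_of_comm ((mem_dd.1 hz).2 s))
  have hWD : W ≤ Dd E := fun w hw => mem_dd.2 ⟨h4 hw, fun g => comm_of_conj_mem
    (pext_cA h.normal g (h4 hw) ▸ h5 _ (h.cA_mem g) w hw)⟩
  have hzW : z ∉ W := fun e => by
    obtain ⟨β, hβ, -, -, b3, -⟩ := h7 _ _ pred_mul_pred
    have hzp := pow_mem_phi hG hz.1
    have h8 := mul_mem (mul_mem_of_pred hzp b3) (inv_mem (h5 β hβ z e))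
    rw [mul_inv_rev, inv_inv, mul_assoc, mul_inv_cancel_left] at h8
    exact h.not_pa_phi (h.pa_of_comm pInv_self hi le_rfl hs fun x hx => sup_le le_rfl
      (zpowers_le.2 (eq_one_of_sq hp2 hzp h8)) (h2 hx))
  obtain ⟨w, hw, h8⟩ : ∃ w ∈ W, W ≤ Phi E ⊔ zpowers w := by
    by_cases e : W ≤ Phi E
    · exact ⟨1, one_mem _, e.trans le_sup_left⟩
    obtain ⟨w, hw, hw'⟩ := SetLike.not_le_iff_exists.1 e
    have c2 := (Nat.mul_le_mul_left p (mul_card_le hG hWD fun e => hzW (e.ge hz))).trans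
      (c1.ge.trans (card_le_of_secRank hG sr phi_le le_rfl))
    rw [← mul_assoc, ← sq, pow_succ p 2, mul_assoc] at c2
    exact ⟨w, hw, le_sup_zpowers hG h3 hw hw' (Nat.le_of_mul_le_mul_left c2 (pow_pos hp.out.pos 2))⟩
  obtain ⟨β, hβ, b1, b2, b3, b4⟩ := h7 a b hab
  exact ⟨y, hy, z, hz, w, hWD hw, h6.ge.trans (sup_le (sup_le (h8.trans (sup_le_sup_left
    (le_sup_right.trans le_sup_right) _)) ((le_sup_left.trans le_sup_right).trans le_sup_right))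
      (le_sup_left.trans le_sup_right)), fun g => h.top_le (X := cen y (Phi E ⊔ zpowers z))
      (fun e he => mem_sup_left (comm_mem_phi hG hy he)) hs (cen_symm (h2 hy)) (mem_top g),
    fun e => hED (h6.ge.trans (sup_le (sup_le hWD (zpowers_le.2 hz)) (zpowers_le.2 e))),
    β, hβ, b1, b2, b3, b4, h5 β hβ w hw⟩

omit [Finite G] in
theorem exists_torus_nat (hp5 : 5 ≤ p) : ∃ a b : ℕ, a * b ≡ 1 [MOD p] ∧ ¬ a ^ 2 ≡ 1 [MOD p] ∧
    ¬ a ^ 3 ≡ 1 [MOD p] ∧ ¬ a ^ 5 ≡ 1 [MOD p] := by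
  obtain ⟨g, hg⟩ := IsCyclic.exists_generator (α := (ZMod p)ˣ)
  have h1 : orderOf g = p - 1 := by
    rw [orderOf_eq_card_of_forall_mem_zpowers hg, Nat.card_eq_fintype_card, ZMod.card_units]
  have k : ∀ n, (g : ZMod p).val ^ n ≡ 1 [MOD p] → p - 1 ∣ n := fun n hn => by
    rw [← ZMod.natCast_eq_natCast_iff, Nat.cast_pow, ZMod.natCast_zmod_val, Nat.cast_one,
      ← Units.val_pow_eq_pow_val, Units.val_eq_one] at hn
    exact h1 ▸ orderOf_dvd_of_pow_eq_one hn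
  refine ⟨(g : ZMod p).val, ((g⁻¹ : (ZMod p)ˣ) : ZMod p).val, ?_, fun e => ?_, fun e => ?_,
    fun e => ?_⟩
  · rw [← ZMod.natCast_eq_natCast_iff, Nat.cast_mul, ZMod.natCast_zmod_val, ZMod.natCast_zmod_val,
      Units.mul_inv, Nat.cast_one]
  · have := Nat.le_of_dvd two_pos (k 2 e); omega
  · have := Nat.le_of_dvd (by norm_num) (k 3 e); omega
  · rcases (Nat.dvd_prime Nat.prime_five).1 (k 5 e) with h | h
    · omega
    · obtain rfl : p = 6 := by omega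
      exact absurd hp.out (by norm_num)

theorem not_secRank_of_ext {M : Type*} [Group M] [Finite M] (hM : IsPGroup p M) (ι : G →* M)
    (hι : Function.Injective ι) [ι.range.Normal] (h1 : ι.range ≠ ⊤) [E.Normal]
    (h2 : normalizer (E.map ι : Set M) ≤ ι.range) [((Phi E).map ι).Normal]
    (c1 : Nat.card G = p * Nat.card E) (c2 : Nat.card E = p ^ 3 * Nat.card (Phi E)) {w : G}
    (hy : y ∈ E) (hz : z ∈ Dd E) (hw : w ∈ Dd E)
    (h3 : E ≤ Phi E ⊔ (zpowers y ⊔ (zpowers z ⊔ zpowers w)))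
    (h4 : ∀ g : G, ⁅y, g⁆ ∈ Phi E ⊔ zpowers z) (h5 : y ∉ Dd E) (τ : MulAut M) {β : MulAut E}
    (hτ : ∀ x ∈ E, τ (ι x) = ι (pext E β x)) {a b : ℕ} (hab : a * b ≡ 1 [MOD p])
    (b1 : (z ^ a)⁻¹ * pext E β z ∈ Phi E) (b2 : (y ^ b)⁻¹ * pext E β y ∈ Phi E)
    (b3 : w⁻¹ * pext E β w ∈ Phi E) (a2 : ¬ a ^ 2 ≡ 1 [MOD p]) (a3 : ¬ a ^ 3 ≡ 1 [MOD p])
    (a5 : ¬ a ^ 5 ≡ 1 [MOD p]) : ¬ SectionalPRankLE p 3 M := fun sr => by
  have hG : IsPGroup p G := hM.of_injective ι hι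
  let π := (qm ((Phi E).map ι)).comp ι
  have hπ : ∀ x, π x = 1 ↔ x ∈ Phi E := fun x => qm_eq_one.trans (mem_map_iff_mem hι)
  have hπ' : ∀ x y, x⁻¹ * y ∈ Phi E → π y = π x := fun x y h => by
    rw [← mul_inv_cancel_left x y, map_mul, (hπ _).2 h, mul_one]
  have hc : ∀ x y, π x * π y = π y * π x ↔ ⁅x, y⁆ ∈ Phi E := fun x y => by
    rw [← comm_eq_one, ← map_commutatorElement, hπ]
  have hK : (Phi E).map ι ≤ E.map ι := map_mono phi_le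
  have hK' : (Phi E).map ι ≤ ι.range := map_le_range _ _
  have hA : AInv (zpowers τ) ((Phi E).map ι) := aInv_zpowers (by
    rintro _ ⟨x, hx, rfl⟩
    rw [hτ x (phi_le hx)]
    exact mem_map_of_mem _ ((pInv_self (A := ⊤)).phi hG le_rfl β trivial x hx))
  have hτ' : ∀ x ∈ E, quoHom hA ⟨τ, mem_zpowers τ⟩ (π x) = π (pext E β x) := fun x hx =>
    (quoHom_mk hA _ _).trans (congrArg _ (hτ x hx))
  have : (ι.range.map (qm ((Phi E).map ι))).Normal := Normal.map ‹_› _ qm_surj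
  have c0 : 0 < Nat.card (Phi E) := Nat.card_pos
  have c3 := card_qm hK
  have c4 := card_qm hK'
  rw [card_map_of_injective hι, card_map_of_injective hι, c2] at c3
  rw [card_map_of_injective hι, ← Nat.card_congr (MonoidHom.ofInjective hι).toEquiv, c1, c2,
    ← mul_assoc, ← pow_succ'] at c4
  obtain ⟨X, c5, x1, x2, -⟩ := exists_elemAb_four (hM.to_quotient ((Phi E).map ι))
    (N := ι.range.map (qm _)) (E := (E.map ι).map (qm _)) (y := π y) (z := π z) (a := π w)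
    (fun e => h1 (top_le_iff.1 fun x _ => (qm_mem hK').1 (e.ge trivial)))
    (le_antisymm (fun g hg => by
      obtain ⟨g, rfl⟩ := qm_surj g
      exact mem_map_of_mem _ (h2 (mem_normalizer_fintype fun n hn => (qm_mem hK).1 (by
        rw [map_mul, map_mul, map_inv]
        exact (mem_normalizer_iff.1 hg _).1 (mem_map_of_mem _ hn))))) (by
      rintro _ ⟨_, ⟨g, rfl⟩, rfl⟩
      refine mem_normalizer_fintype ?_
      rintro _ ⟨_, ⟨x, hx, rfl⟩, rfl⟩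
      exact ⟨_, ⟨_, Normal.conj_mem ‹_› x hx g, rfl⟩, by simp⟩))
    (Nat.eq_of_mul_eq_mul_right c0 c4.symm) (Nat.eq_of_mul_eq_mul_right c0 c3.symm)
    (by rintro _ ⟨_, ⟨u, hu, rfl⟩, rfl⟩ _ ⟨_, ⟨v, hv, rfl⟩, rfl⟩
        exact (hc u v).2 (comm_mem_phi hG hu hv))
    (by rintro _ ⟨_, ⟨u, hu, rfl⟩, rfl⟩
        exact (map_pow π u p).symm.trans ((hπ _).2 (pow_mem_phi hG hu)))
    (le_antisymm (sup_le (zpowers_le.2 ⟨_, ⟨y, hy, rfl⟩, rfl⟩) (sup_le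
      (zpowers_le.2 ⟨_, ⟨z, hz.1, rfl⟩, rfl⟩) (zpowers_le.2 ⟨_, ⟨w, hw.1, rfl⟩, rfl⟩))) (by
      have := map_mono (f := π) h3
      rwa [Subgroup.map_sup, Subgroup.map_sup, Subgroup.map_sup, MonoidHom.map_zpowers,
        MonoidHom.map_zpowers, MonoidHom.map_zpowers, (Subgroup.map_eq_bot_iff _).2
        fun x hx => (hπ x).2 hx, bot_sup_eq, ← map_map] at this))
    (by rintro _ ⟨_, ⟨g, rfl⟩, rfl⟩; exact (hc g z).2 ((mem_dd.1 hz).2 g))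
    (by rintro _ ⟨_, ⟨g, rfl⟩, rfl⟩; exact (hc g w).2 ((mem_dd.1 hw).2 g))
    (by rintro _ ⟨_, ⟨g, rfl⟩, rfl⟩
        have := mem_map_of_mem π (h4 g)
        rwa [Subgroup.map_sup, MonoidHom.map_zpowers, (Subgroup.map_eq_bot_iff _).2
          fun x hx => (hπ x).2 hx, bot_sup_eq, map_commutatorElement] at this)
    (by by_contra! e
        exact h5 (mem_dd.2 ⟨hy, fun g => comm_symm ((hc y g).1
          (comm_eq_one.1 (e _ ⟨_, ⟨g, rfl⟩, rfl⟩)))⟩))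
    (quoHom hA ⟨τ, mem_zpowers τ⟩) hab (by rw [hτ' y hy, hπ' _ _ b2, map_pow])
    (by rw [hτ' z hz.1, hπ' _ _ b1, map_pow]) (by rw [hτ' w hw.1, hπ' _ _ b3]) a2 a3 a5
  exact absurd (c5.ge.trans (EA.card_le ⟨x1, x2⟩ (hM.to_quotient _) (PG.secRank_quotient sr _)))
    (pow_lt_pow_right₀ hp.out.one_lt (by norm_num)).not_ge

end Cfsg.Lib.Fus.R3
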