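import Cfsg.Agent.Fus.R3Fus
import Cfsg.Agent.Fus.R3Rank

/-! Essential subgroups that are not normal, in sectional rank three. -/

namespace Cfsg.Lib.Fus.R3

open Cfsg Cfsg.FusionSystem Subgroup Cfsg.Lib.Solv Cfsg.Lib.Fus.Ess
open scoped commutatorElement

variable {Ω : Type*} [Group Ω] {S E N : Subgroup Ω} {F : FusionSystem S} {p : ℕ}
  {f : Equiv.Perm Ω}

theorem index_frattini_congr {G H : Type*} [Group G] [Group H] (e : G ≃* H) :
    (frattini G).index = (frattini H).index := by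
  rw [← comap_frattini_equiv e, index_comap_of_surjective _ e.surjective]

theorem card_eq_index_mul_phi (h : E ≤ N) :
    Nat.card (E.subgroupOf N) = (frattini E).index * Nat.card (Phi (E.subgroupOf N)) := by
  rw [card_map_of_injective (subtype_injective _),
    ← index_frattini_congr (subgroupOfEquivOfLe h), index_mul_card]

theorem PIso.map_subgroupOf (hf : PIso F f N N) (h : E ≤ N) :
    (E.subgroupOf N).map hf.aut.toMonoidHom = (img E f).subgroupOf N := by
  refine le_antisymm ?_ fun y hy => ?_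
  · rintro _ ⟨x, hx, rfl⟩
    exact mem_img_of_mem f hx
  · obtain ⟨x, hx, e⟩ := (hf.mor.restrict h).mem_img.1 hy
    exact ⟨⟨x, h hx⟩, hx, Subtype.ext e⟩

variable [Finite S] [hp : Fact p.Prime] (hS : IsPGroup p S) (hF : F.IsSaturated p)
include hS

omit hp in
theorem EssP.map_self (h : EssP F p E N) (hf : PIso F f N N) : EssP F p (img E f) N := by
  have := h.map hS hf.mor
  rwa [hf.img_eq] at this

include hF

theorem EssP.eq_of_rank (h : EssP F p E N) (hN : F.IsFullyNormalized N) (hp5 : 5 ≤ p)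
    (sr : SectionalPRankLE p 3 S) (r : (frattini E).index = p ^ 3) : N = S := by
  by_contra hne
  have := h.fin
  have := finite_of_le h.leS
  have hp2 : p ≠ 2 := by omega
  have l := h.loc hS hF
  have sr' := PG.secRank_of_subgroup_le h.nS sr
  have c1 := card_eq_index_mul_phi h.le
  rw [r] at c1
  have e0 : ∀ φ (hφ : φ ∈ F.autGroup N), (piso_pext_of_mem h.nS hφ).aut = φ := fun φ hφ =>
    aut_ext_pext fun x hx => PIso.pext_aut _ hx
  have hf : ∀ φ ∈ F.autGroup N, ∃ A', Loc p ((E.subgroupOf N).map (φ : MulAut N).toMonoidHom) A' :=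
    fun φ hφ => by
      rw [← e0 φ hφ, PIso.map_subgroupOf _ h.le]
      exact ⟨_, (h.map_self hS (piso_pext_of_mem h.nS hφ)).loc hS hF⟩
  obtain ⟨g, hg, hg'⟩ := SetLike.exists_of_lt (lt_normalizerIn hS (lt_of_le_of_ne h.nS hne))
  have hT := sat_sylIn hS hF hN
  have ht := hT.le (conjAut_mem_autInducedBy hg.1 hg.2)
  have hn : ∀ φ ∈ F.autGroup N, ¬ ∀ x ∈ E.subgroupOf N,
      (φ⁻¹ * conjAut N g hg.2 * φ) x ∈ E.subgroupOf N := fun φ hφ e => by
    have h1 := piso_pext_of_mem h.nS hφ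
    have h2 := h.map_self hS h1
    have := finite_of_le h2.leS
    refine hg' (h2.nor.le (mem_normalizerIn_of_finite hg.1 fun y hy => ?_))
    obtain ⟨x, hx, rfl⟩ := (h1.mor.restrict h.le).mem_img.1 hy
    have h3 := mem_img_of_mem (pext N φ) (mem_subgroupOf.1 (e ⟨x, h.le hx⟩ hx))
    rw [pext_coe] at h3
    rw [pext_of_mem φ (h.le hx)]
    simpa using h3
  have h1 : autInducedBy S N = pCoreIn p (F.autGroup N) := le_antisymm (fun u hu =>
    l.mem_pCoreIn_of_fam hp2 sr' c1.ge hf ht hn (conjAut_pelt hS hg.1 hg.2) (hT.le hu)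
      (PG.exists_pow_prime_pow_eq_one hT.pgroup hu)) hT.pCoreIn_le
  obtain ⟨a, b, hab, a2, a3, a5⟩ := exists_torus_nat hp5
  obtain ⟨c2, h2⟩ := l.card_dd hp2 sr' c1.ge hf ht hn
  obtain ⟨y, hy, z, hz, w, hw, h3, h4, h5, β, hβ, b1, b2, b3, b4, b5⟩ :=
    l.exists_basis hp2 sr' c2 h2 hab
  obtain ⟨k, k1, -, k2⟩ := h.exists_ext hS hF hβ b1 b2
  obtain ⟨m, m1, m2⟩ := exists_ext_aut (sat_receptive hS hF hN) k1.aut_mem le_rfl fun x hx =>
    h1 ▸ conj_mem_pCoreIn k1.aut_mem (h1 ▸ conjAut_mem_autInducedBy hx.1 hx.2)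
  replace m2 : ∀ x ∈ N, m x = k x := fun x hx => (m2 x hx).trans (k1.pext_aut hx)
  have hNM : N ≤ normalizerIn S N := le_normalizerIn h.nS
  have m3 := m1.piso_of_maps ((m1.piso_of_eqOn hNM k1 m2).normalizer_maps m1)
  have := l.normal
  have : (inclusion hNM).range.Normal := by
    rw [inclusion_range]
    exact (normal_subgroupOf_iff_le_normalizer hNM).2 fun x hx => hx.2
  have : ((Phi (E.subgroupOf N)).map (inclusion hNM)).Normal := ⟨by
    rintro _ ⟨x, hx, rfl⟩ u
    exact ⟨_, (l.aInv_dd hp2 sr' c1.ge hf).1 _ (hT.le (conjAut_mem_autInducedBy u.2.1 u.2.2)) x hx,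
      rfl⟩⟩
  refine not_secRank_of_ext (hS.to_le normalizerIn_le) (inclusion hNM) (inclusion_injective _)
    (fun e => hg' ?_) (fun u hu => ?_) l.card c1 hy hz hw h3 h4 h5 m3.aut (fun x hx =>
      Subtype.ext ((m2 x x.2).trans (k2 x hx))) hab b3 b4 b5 a2 a3 a5
    (PG.secRank_of_subgroup_le normalizerIn_le sr)
  · rw [inclusion_range] at e
    exact mem_subgroupOf.1 (e.ge (mem_top ⟨g, hg⟩))
  · rw [inclusion_range]
    refine h.nor.le (mem_normalizerIn_of_finite u.2.1 fun x hx => ?_)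
    obtain ⟨v, hv, e⟩ := (mem_normalizer_iff.1 hu _).1 (mem_map_of_mem _
      (show (⟨x, h.le hx⟩ : N) ∈ E.subgroupOf N from hx))
    exact (show (v : Ω) = u * x * (u : Ω)⁻¹ from congrArg Subtype.val e) ▸ mem_subgroupOf.1 hv

theorem EssP.eq_of_rank' (h : EssP F p E N) (hp5 : 5 ≤ p) (sr : SectionalPRankLE p 3 S)
    (r : (frattini E).index = p ^ 3) : N = S := by
  obtain ⟨Q, g, -, h1, h2⟩ := sat_exists_fullyNormalized hS hF h.nS
  have h3 := h.map hS h1.mor
  rw [h1.img_eq] at h3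
  have h4 := h3.eq_of_rank hS hF h2 hp5 sr
    ((index_frattini_congr (h1.restrict h.le).equiv).symm.trans r)
  exact eq_of_le_of_card_ge h.nS (by rw [← h1.card_eq, h4])

theorem EssP.pearl (h : EssP F p E N) (hne : N ≠ S) (hp2 : p ≠ 2) (sr : SectionalPRankLE p 3 S)
    (r : (frattini E).index ≤ p ^ 2) : (IsElementaryAbelian p E ∧ Nat.card E = p ^ 2) ∨
      (IsExtraspecial p E ∧ Nat.card E = p ^ 3 ∧ ∀ x ∈ E, x ^ p = 1) := by
  have := h.fin
  have := finite_of_le h.leS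
  obtain ⟨g, hg, hg'⟩ := SetLike.exists_of_lt (lt_normalizerIn hS (lt_of_le_of_ne h.nS hne))
  have h1 := PIso.cj F h.nS hg
  have h2 := h.map_self hS h1
  have t := h.two hS hF h2 (fun e => hg' (h.nor.le (mem_normalizerIn_of_finite hg.1 fun x hx =>
    e.ge (mem_img_of_mem (cj g) hx)))) hp2 sr
  obtain ⟨h3, c1, c2⟩ := t.rank_two ((card_eq_index_mul_phi h.le).trans_le
    (Nat.mul_le_mul_right _ r)) ((card_eq_index_mul_phi h2.le).trans_le (Nat.mul_le_mul_right _
      ((index_frattini_congr (h1.restrict h.le).equiv).symm.trans_le r)))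
  have h4 : ∀ x ∈ E, x ^ p = 1 := fun x hx => congrArg Subtype.val (h3 ⟨x, h.le hx⟩ hx)
  have c3 := Nat.card_congr (subgroupOfEquivOfLe h.le).toEquiv
  by_cases h5 : ∀ x y : E, x * y = y * x
  · refine .inl ⟨⟨⟨⟨h5⟩⟩, h4⟩, ?_⟩
    rw [← c3, c2, le_bot_iff.1 ((ea_iff t.l1.pg).1 ⟨fun x hx y hy => Subtype.ext
      (congrArg (Subtype.val : E → Ω) (h5 ⟨x, hx⟩ ⟨y, hy⟩)), h3⟩), card_bot, mul_one]
  · have c4 : Nat.card E = p ^ 3 := by
      rw [← c3, c2, le_antisymm c1 (prime_le_card t.l1.pg fun e => h5 fun x y => Subtype.ext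
        (congrArg (Subtype.val : N → Ω) (((ea_iff t.l1.pg).2 e.le).comm ⟨x, h.le x.2⟩ x.2
          ⟨y, h.le y.2⟩ y.2))), pow_succ p 2]
    exact .inr ⟨isExtraspecial_of_card_cube c4 h5, c4, h4⟩

theorem exists_two_essential (hp2 : p ≠ 2) (sr : SectionalPRankLE p 3 S)
    (sr' : ¬ SectionalPRankLE p 2 S) (hO : F.core = ⊥)
    (hn : ∀ E, F.IsEssential p E → S ≤ normalizer (E : Set Ω)) :
    ∃ E₁ E₂, F.IsEssential p E₁ ∧ F.IsEssential p E₂ ∧ E₁ ≠ E₂ := by
  have h0 : ¬ Nat.card S ≤ p := fun e =>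
    sr' (PG.secRank_of_card_le (e.trans (Nat.le_self_pow two_ne_zero p)))
  obtain ⟨E, hE⟩ := exists_essential_of_core_eq_bot hS hF (fun e => h0 (by
    rw [e, card_bot]; exact hp.out.one_le)) hO
  have h := essP_of_normal hS hF sr hE (hn E hE)
  by_contra! h1
  have h2 := le_core (isNormal_of_essential hS hF (Q := E) (by
    rintro P (rfl | hP)
    · refine ⟨h.le, fun f hf x hx => ?_⟩
      refine (by_contra fun hne => ?_ : E = img E f).ge (mem_img_of_mem f hx)
      have e := PIso.map_subgroupOf hf h.le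
      rcases outB_of_two hS hF hp2 sr sr' hO hE h (h.map_self hS hf) hne with b | b
      · refine b.nab fun x hx y hy => ?_
        obtain ⟨u, hu, rfl⟩ := e.ge hx
        obtain ⟨v, hv, rfl⟩ := e.ge hy
        rw [← map_mul, b.ea.comm u hu v hv, map_mul]
      · exact b.nab fun x hx y hy => hf.aut.injective (by
          rw [map_mul, map_mul]
          exact b.ea.comm _ (e.le (mem_map_of_mem _ hx)) _ (e.le (mem_map_of_mem _ hy)))
    · obtain rfl := h1 E P hE hP
      exact ⟨le_rfl, fun f hf x hx => hf.maps hx⟩))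
  rw [hO, le_bot_iff] at h2
  exact absurd (by rw [h.card, h2, card_bot, mul_one]) h0

end Cfsg.Lib.Fus.R3
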