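import Cfsg.Agent.Class.SpOrder

/-!
Recognition of the Sylow `p`-subgroup of `Sp₄(p)`, `p` odd: a group of order `p ^ 4` with centre
of order `p`, an elementary abelian subgroup of index `p` and an element of order `p` outside it.
-/

namespace Cfsg.Lib.Fus.R3

open Subgroup
open scoped commutatorElement

namespace Sp4Rec

/-- A normal subgroup that gains nothing from one step of the upper central series lies in it. -/
theorem le_ucs {G : Type*} [Group G] [Group.IsNilpotent G] (N : Subgroup G) [hN : N.Normal]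
    (n : ℕ) (h : N ⊓ Subgroup.upperCentralSeries G (n + 1) ≤ Subgroup.upperCentralSeries G n) :
    N ≤ Subgroup.upperCentralSeries G n := by
  have key : ∀ k, N ⊓ Subgroup.upperCentralSeries G k ≤ Subgroup.upperCentralSeries G n := by
    intro k
    induction k with
    | zero => intro x hx; rw [Subgroup.upperCentralSeries_zero] at hx; rw [mem_bot.1 hx.2]; exact one_mem _
    | succ k ih =>
      intro x hx
      refine h ⟨hx.1, Subgroup.mem_upperCentralSeries_succ_iff.2 fun g => ih ⟨?_, ?_⟩⟩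
      · have h1 := hN.conj_mem _ (N.inv_mem hx.1) g
        have h2 := N.mul_mem hx.1 h1
        simpa [commutatorElement_def, mul_assoc] using h2
      · exact Subgroup.mem_upperCentralSeries_succ_iff.1 hx.2 g
  obtain ⟨k, hk⟩ := Group.IsNilpotent.nilpotent G
  intro x hx
  exact key k ⟨hx, hk ▸ mem_top x⟩

theorem mul_card_le {G : Type*} [Group G] [Finite G] {p : ℕ} [hp : Fact p.Prime]
    (hG : IsPGroup p G) {A B : Subgroup G} (h : A ≤ B) {x : G} (hB : x ∈ B) (hA : x ∉ A) :
    p * Nat.card A ≤ Nat.card B := by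
  obtain ⟨i, hi⟩ := (hG.to_subgroup A).exists_card_eq
  obtain ⟨j, hj⟩ := (hG.to_subgroup B).exists_card_eq
  have hlt : Nat.card A < Nat.card B := by
    by_contra hn
    exact hA ((eq_of_le_of_card_ge h (not_lt.1 hn)) ▸ hB)
  rw [hi, hj] at hlt ⊢
  rw [← pow_succ']
  exact Nat.pow_le_pow_right hp.out.pos ((Nat.pow_lt_pow_iff_right hp.out.one_lt).1 hlt)

/-- The relations bound the order of the generated subgroup. -/
theorem card_closure_le {H : Type*} [Group H] {p : ℕ} (hp : 0 < p) {u w z y : H}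
    (huw : Commute u w) (huz : Commute u z) (hwz : Commute w z)
    (hu : u ^ p = 1) (hw : w ^ p = 1) (hz : z ^ p = 1) (hy : y ^ p = 1)
    (yu : y * u = w * u * y) (yw : y * w = z * w * y) (yz : y * z = z * y) :
    Nat.card (closure ({u, w, z, y} : Set H)) ≤ p ^ 4 := by
  have hyp : ∀ (a b : H), y * a = b * y → ∀ n : ℕ, y * a ^ n = b ^ n * y := by
    intro a b h n
    induction n with
    | zero => simp
    | succ n ih => rw [pow_succ, ← mul_assoc, ih, mul_assoc, h, pow_succ, mul_assoc]
  let P : H → Prop := fun g => ∃ a b c k : ℕ, g = u ^ a * w ^ b * z ^ c * y ^ k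
  have step : ∀ x ∈ ({u, w, z, y} : Set H), ∀ g, P g → P (x * g) := by
    rintro x hx g ⟨a, b, c, k, rfl⟩
    simp only [Set.mem_insert_iff, Set.mem_singleton_iff] at hx
    rcases hx with rfl | rfl | rfl | rfl
    · exact ⟨a + 1, b, c, k, by rw [pow_succ']; simp only [mul_assoc]⟩
    · refine ⟨a, b + 1, c, k, ?_⟩
      rw [pow_succ', ← mul_assoc (u ^ a), (huw.pow_left a).eq]; simp only [mul_assoc]
    · refine ⟨a, b, c + 1, k, ?_⟩
      have h1 : Commute (u ^ a * w ^ b) x := (huz.pow_left a).mul_left (hwz.pow_left b)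
      rw [pow_succ', ← mul_assoc (u ^ a * w ^ b), h1.eq]; simp only [mul_assoc]
    · refine ⟨a, a + b, b + c, k + 1, ?_⟩
      have e1 := hyp u (w * u) yu a
      have e2 := hyp w (z * w) yw b
      have e3 := hyp z z yz c
      rw [huw.symm.mul_pow, (huw.symm.pow_pow a a).eq] at e1
      rw [hwz.symm.mul_pow, (hwz.symm.pow_pow b b).eq] at e2
      calc x * (u ^ a * w ^ b * z ^ c * x ^ k) = (x * u ^ a) * w ^ b * z ^ c * x ^ k := by
            simp only [mul_assoc]
        _ = u ^ a * w ^ a * (x * w ^ b) * z ^ c * x ^ k := by rw [e1]; simp only [mul_assoc]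
        _ = u ^ a * w ^ a * (w ^ b * z ^ b) * (x * z ^ c) * x ^ k := by
            rw [e2]; simp only [mul_assoc]
        _ = _ := by rw [e3, pow_add, pow_add, pow_succ']; simp only [mul_assoc]
  have stepn : ∀ x ∈ ({u, w, z, y} : Set H), ∀ n : ℕ, ∀ g, P g → P (x ^ n * g) := by
    intro x hx n
    induction n with
    | zero => intro g hg; simpa using hg
    | succ n ih => intro g hg; rw [pow_succ', mul_assoc]; exact step x hx _ (ih g hg)
  have hall : ∀ g ∈ closure ({u, w, z, y} : Set H), P g := by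
    intro g hg
    induction hg using closure_induction_left with
    | one => exact ⟨0, 0, 0, 0, by simp⟩
    | mul_left x hx g _ ih => exact step x hx g ih
    | inv_mul_cancel x hx g _ ih =>
      have hxp : x ^ p = 1 := by
        simp only [Set.mem_insert_iff, Set.mem_singleton_iff] at hx
        rcases hx with rfl | rfl | rfl | rfl <;> assumption
      have : x⁻¹ = x ^ (p - 1) := by
        rw [inv_eq_iff_mul_eq_one, ← pow_succ', Nat.sub_add_cancel hp, hxp]
      rw [this]
      exact stepn x hx _ g ih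
  let f : Fin p × Fin p × Fin p × Fin p → closure ({u, w, z, y} : Set H) := fun t =>
    ⟨u ^ (t.1 : ℕ) * w ^ (t.2.1 : ℕ) * z ^ (t.2.2.1 : ℕ) * y ^ (t.2.2.2 : ℕ),
      mul_mem (mul_mem (mul_mem (pow_mem (subset_closure (by simp)) _)
        (pow_mem (subset_closure (by simp)) _)) (pow_mem (subset_closure (by simp)) _))
        (pow_mem (subset_closure (by simp)) _)⟩
  have hf : Function.Surjective f := by
    rintro ⟨g, hg⟩
    obtain ⟨a, b, c, k, rfl⟩ := hall g hg
    refine ⟨(⟨a % p, Nat.mod_lt _ hp⟩, ⟨b % p, Nat.mod_lt _ hp⟩, ⟨c % p, Nat.mod_lt _ hp⟩,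
      ⟨k % p, Nat.mod_lt _ hp⟩), Subtype.ext ?_⟩
    simp only [f]
    rw [← pow_eq_pow_mod a hu, ← pow_eq_pow_mod b hw, ← pow_eq_pow_mod c hz,
      ← pow_eq_pow_mod k hy]
  have := Nat.card_le_card_of_surjective f hf
  calc _ ≤ _ := this
    _ = p ^ 4 := by simp only [Nat.card_prod, Nat.card_fin]; ring

variable {F : Type*} [CommRing F]

/-- Unipotent radical elements of the Siegel parabolic. -/
def nn (a b c : F) : Matrix.symplecticGroup (Fin 2) F :=
  ⟨Matrix.fromBlocks 1 !![a, b; b, c] 0 1, by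
    rw [SymplecticGroup.fromBlocks_mem_iff]
    refine ⟨by simp, ?_, by simp⟩
    ext i j
    fin_cases i <;> fin_cases j <;> simp⟩

/-- Root elements of the Levi factor. -/
def yy (t : F) : Matrix.symplecticGroup (Fin 2) F :=
  ⟨Matrix.fromBlocks !![1, t; 0, 1] 0 0 !![1, 0; -t, 1], by
    rw [SymplecticGroup.fromBlocks_mem_iff]
    refine ⟨by simp, by simp, ?_⟩
    ext i j
    fin_cases i <;> fin_cases j <;> simp [Matrix.mul_apply, Fin.sum_univ_two]⟩

theorem nn_mul (a b c a' b' c' : F) :
    nn a b c * nn a' b' c' = nn (a + a') (b + b') (c + c') := by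
  apply Subtype.ext
  simp only [nn, Submonoid.coe_mul, Matrix.fromBlocks_multiply]
  congr 1 <;> ext i j <;> fin_cases i <;> fin_cases j <;> simp [add_comm]

theorem nn_zero : nn (0 : F) 0 0 = 1 := by
  apply Subtype.ext
  simp only [nn, OneMemClass.coe_one]
  rw [← Matrix.fromBlocks_one]
  congr 1
  ext i j
  fin_cases i <;> fin_cases j <;> simp

theorem nn_pow (a b c : F) (n : ℕ) : nn a b c ^ n = nn (n * a) (n * b) (n * c) := by
  induction n with
  | zero => simp [nn_zero]
  | succ n ih => rw [pow_succ, ih, nn_mul]; congr 1 <;> push_cast <;> ring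

theorem nn_comm (a b c a' b' c' : F) : Commute (nn a b c) (nn a' b' c') := by
  rw [Commute, SemiconjBy, nn_mul, nn_mul, add_comm a, add_comm b, add_comm c]

theorem yy_mul (s t : F) : yy s * yy t = yy (s + t) := by
  apply Subtype.ext
  simp only [yy, Submonoid.coe_mul, Matrix.fromBlocks_multiply]
  congr 1 <;> ext i j <;> fin_cases i <;> fin_cases j <;>
    simp [add_comm]

theorem yy_zero : yy (0 : F) = 1 := by
  apply Subtype.ext
  simp only [yy, OneMemClass.coe_one]
  rw [← Matrix.fromBlocks_one]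
  congr 1 <;> ext i j <;> fin_cases i <;> fin_cases j <;> simp

theorem yy_pow (t : F) (n : ℕ) : yy t ^ n = yy (n * t) := by
  induction n with
  | zero => simp [yy_zero]
  | succ n ih => rw [pow_succ, ih, yy_mul]; congr 1; push_cast; ring

theorem yy_nn (a b c : F) :
    yy 1 * nn a b c = nn (a + 2 * b + c) (b + c) c * yy 1 := by
  apply Subtype.ext
  simp only [yy, nn, Submonoid.coe_mul, Matrix.fromBlocks_multiply]
  congr 1 <;> ext i j <;> fin_cases i <;> fin_cases j <;>
    simp
  ring

theorem nn_eq_one {a b c : F} (h : nn a b c = 1) : a = 0 := by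
  have := congrArg (fun M : Matrix.symplecticGroup (Fin 2) F =>
    (M : Matrix (Fin 2 ⊕ Fin 2) (Fin 2 ⊕ Fin 2) F) (Sum.inl 0) (Sum.inr 0)) h
  simpa [nn] using this

/-- The generators. -/
theorem exists_gens {G : Type*} [Group G] [Finite G] {p : ℕ} [hp : Fact p.Prime]
    (hc : Nat.card G = p ^ 4) {U : Subgroup G} (hU : Nat.card U = p ^ 3)
    (hab : ∀ a ∈ U, ∀ b ∈ U, a * b = b * a) {y : G} (hy : y ∉ U)
    (hZ : Nat.card (center G) = p) :
    ∃ u w z : G, u ∈ U ∧ w ∈ U ∧ z ∈ U ∧ y * u = w * u * y ∧ y * w = z * w * y ∧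
      z ∈ center G ∧ z ≠ 1 ∧ closure ({u, w, z, y} : Set G) = ⊤ := by
  have hG : IsPGroup p G := IsPGroup.of_card hc
  have := hG.isNilpotent
  have hp0 := hp.out.pos
  have hidx : U.index = p := by
    have := U.card_mul_index
    rw [hU, hc, pow_succ p 3] at this
    exact Nat.eq_of_mul_eq_mul_left (pow_pos hp0 3) this
  have hUn : U.Normal := by
    apply normal_of_index_eq_minFac_card
    rw [hidx, hc, Nat.Prime.pow_minFac hp.out (by norm_num)]
  have htop : ∀ K : Subgroup G, p ^ 4 ≤ Nat.card K → K = ⊤ := fun K hK =>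
    eq_top_of_le_card K (hc ▸ hK)
  have hgen : ∀ K : Subgroup G, U ≤ K → y ∈ K → K = ⊤ := by
    intro K h1 h2
    have := mul_card_le hG h1 h2 hy
    rw [hU, ← pow_succ'] at this
    exact htop K this
  have hd : ∀ x ∈ U, ⁅y, x⁆ ∈ U := by
    intro x hx
    have h1 := hUn.conj_mem _ hx y
    simpa [commutatorElement_def, mul_assoc] using U.mul_mem h1 (U.inv_mem hx)
  have up : ∀ n, ∀ x ∈ U, ⁅y, x⁆ ∈ Subgroup.upperCentralSeries G n →
      x ∈ Subgroup.upperCentralSeries G (n + 1) := by
    intro n x hx h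
    rw [Subgroup.mem_upperCentralSeries_succ_iff]
    intro g
    have hK := hgen ((centralizer {(x : G ⧸ Subgroup.upperCentralSeries G n)}).comap
      (QuotientGroup.mk' _)) ?_ ?_
    · have hg : g ∈ (centralizer {(x : G ⧸ Subgroup.upperCentralSeries G n)}).comap
          (QuotientGroup.mk' _) := hK ▸ mem_top g
      rw [mem_comap, mem_centralizer_singleton_iff] at hg
      rw [← QuotientGroup.eq_one_iff]
      simp only [commutatorElement_def, QuotientGroup.mk_mul, QuotientGroup.mk_inv]
      simp only [QuotientGroup.mk'_apply] at hg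
      rw [← hg]; group
    · intro a ha
      rw [mem_comap, mem_centralizer_singleton_iff, QuotientGroup.mk'_apply,
        ← QuotientGroup.mk_mul, ← QuotientGroup.mk_mul, hab a ha x hx]
    · rw [mem_comap, mem_centralizer_singleton_iff, QuotientGroup.mk'_apply]
      rw [← QuotientGroup.eq_one_iff] at h
      simp only [commutatorElement_def, QuotientGroup.mk_mul, QuotientGroup.mk_inv] at h
      rw [mul_inv_eq_one, mul_inv_eq_iff_eq_mul] at h
      exact h
  have down : ∀ n, ∀ x ∈ Subgroup.upperCentralSeries G (n + 1), ⁅y, x⁆ ∈ Subgroup.upperCentralSeries G n := by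
    intro n x hx
    rw [← commutatorElement_inv]
    exact inv_mem (Subgroup.mem_upperCentralSeries_succ_iff.1 hx y)
  have h3 : U ≤ Subgroup.upperCentralSeries G 3 := by
    by_contra hn
    have st : ∀ n ≤ 3, p * Nat.card (U ⊓ Subgroup.upperCentralSeries G n : Subgroup G) ≤
        Nat.card (U ⊓ Subgroup.upperCentralSeries G (n + 1) : Subgroup G) := by
      intro n hn3
      have : ¬ U ⊓ Subgroup.upperCentralSeries G (n + 1) ≤ Subgroup.upperCentralSeries G n := fun h =>
        hn ((le_ucs U n h).trans (Subgroup.upperCentralSeries_mono G hn3))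
      obtain ⟨x, hx1, hx2⟩ := SetLike.not_le_iff_exists.1 this
      exact mul_card_le hG (inf_le_inf_left _ (Subgroup.upperCentralSeries_mono G (Nat.le_succ n))) hx1
        (fun h => hx2 h.2)
    have s0 := st 0 (by norm_num)
    have s1 := st 1 (by norm_num)
    have s2 := st 2 (by norm_num)
    have s3 := st 3 (by norm_num)
    have c0 : 1 ≤ Nat.card (U ⊓ Subgroup.upperCentralSeries G 0 : Subgroup G) := Nat.card_pos
    have c4 : Nat.card (U ⊓ Subgroup.upperCentralSeries G (3 + 1) : Subgroup G) ≤ p ^ 3 :=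
      hU ▸ card_le_of_le inf_le_left
    have : p ^ 4 ≤ p ^ 3 := by
      calc p ^ 4 = p * (p * (p * (p * 1))) := by ring
        _ ≤ _ := by
          refine le_trans ?_ (s3.trans c4)
          refine Nat.mul_le_mul_left _ (le_trans ?_ s2)
          refine Nat.mul_le_mul_left _ (le_trans ?_ s1)
          refine Nat.mul_le_mul_left _ (le_trans ?_ s0)
          exact Nat.mul_le_mul_left _ c0
    exact absurd ((Nat.pow_le_pow_iff_right hp.out.one_lt).1 this) (by norm_num)
  have h2 : ¬ U ≤ Subgroup.upperCentralSeries G 2 := by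
    intro h
    let D : U →* center G := MonoidHom.mk'
      (fun x => ⟨⁅y, (x : G)⁆, by
        rw [← Subgroup.upperCentralSeries_one]; exact down 1 _ (h x.2)⟩) (by
        intro a b
        apply Subtype.ext
        simp only [coe_mul, commutatorElement_def]
        have h1 := hab _ (U.inv_mem a.2) _ (hd _ b.2)
        simp only [commutatorElement_def] at h1
        have h2 := hab _ (U.inv_mem a.2) _ (U.inv_mem b.2)
        calc y * (a * b) * y⁻¹ * ((a : G) * b)⁻¹
            = y * a * y⁻¹ * ((y * b * y⁻¹ * (b : G)⁻¹) * (a : G)⁻¹) := by group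
          _ = _ := by rw [← h1]; group)
    have hk : Nat.card D.ker ≤ p := by
      rw [← hZ]
      refine Nat.card_le_card_of_injective (fun x => ⟨(x.1 : G), ?_⟩) ?_
      · refine (Subgroup.upperCentralSeries_one G).le (up 0 _ x.1.2 ?_)
        have := congrArg Subtype.val (MonoidHom.mem_ker.1 x.2)
        rw [Subgroup.upperCentralSeries_zero, mem_bot]
        exact this
      · intro a b hab'
        have h' : ((a : U) : G) = ((b : U) : G) := Subtype.mk.inj hab'
        exact Subtype.ext (Subtype.ext h')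
    have hr : Nat.card D.range ≤ p := hZ ▸ card_le_card_group D.range
    have e := D.ker.card_mul_index
    rw [index_ker, hU] at e
    have : p ^ 3 ≤ p ^ 2 := by
      rw [← e, pow_two]; exact Nat.mul_le_mul hk hr
    exact absurd ((Nat.pow_le_pow_iff_right hp.out.one_lt).1 this) (by norm_num)
  obtain ⟨u, hu, hu2⟩ := SetLike.not_le_iff_exists.1 h2
  have hw := hd u hu
  have hz := hd _ hw
  have hw2 := down 2 u (h3 hu)
  have hz1 := down 1 _ hw2
  have hw1 : ⁅y, u⁆ ∉ Subgroup.upperCentralSeries G 1 := fun h => hu2 (up 1 u hu h)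
  have hz0 : ⁅y, ⁅y, u⁆⁆ ∉ Subgroup.upperCentralSeries G 0 := fun h => hw1 (up 0 _ hw h)
  refine ⟨u, ⁅y, u⁆, ⁅y, ⁅y, u⁆⁆, hu, hw, hz, ?_, ?_, ?_, ?_, ?_⟩
  · simp only [commutatorElement_def]; group
  · rw [commutatorElement_def y ⁅y, u⁆]; group
  · rw [← Subgroup.upperCentralSeries_one]; exact hz1
  · intro h; apply hz0; rw [h]; exact one_mem _
  · set H := closure ({u, ⁅y, u⁆, ⁅y, ⁅y, u⁆⁆, y} : Set G)
    have m1 : u ∈ H := subset_closure (by simp)
    have m2 : ⁅y, u⁆ ∈ H := subset_closure (by simp)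
    have m3 : ⁅y, ⁅y, u⁆⁆ ∈ H := subset_closure (by simp)
    have m4 : y ∈ H := subset_closure (by simp)
    have s0 := mul_card_le hG (A := (H ⊓ U) ⊓ Subgroup.upperCentralSeries G 0)
      (B := (H ⊓ U) ⊓ Subgroup.upperCentralSeries G 1)
      (inf_le_inf_left _ (Subgroup.upperCentralSeries_mono G (by norm_num))) ⟨⟨m3, hz⟩, hz1⟩
      (fun h => hz0 h.2)
    have s1 := mul_card_le hG (A := (H ⊓ U) ⊓ Subgroup.upperCentralSeries G 1)
      (B := (H ⊓ U) ⊓ Subgroup.upperCentralSeries G 2)
      (inf_le_inf_left _ (Subgroup.upperCentralSeries_mono G (by norm_num))) ⟨⟨m2, hw⟩, hw2⟩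
      (fun h => hw1 h.2)
    have s2 := mul_card_le hG (A := (H ⊓ U) ⊓ Subgroup.upperCentralSeries G 2) (B := H ⊓ U)
      inf_le_left ⟨m1, hu⟩ (fun h => hu2 h.2)
    have s3 := mul_card_le hG (A := H ⊓ U) (B := H) inf_le_left m4 (fun h => hy h.2)
    have c0 : 1 ≤ Nat.card ((H ⊓ U) ⊓ Subgroup.upperCentralSeries G 0 : Subgroup G) := Nat.card_pos
    apply htop
    calc p ^ 4 = p * (p * (p * (p * 1))) := by ring
      _ ≤ _ := by
        refine le_trans ?_ s3
        refine Nat.mul_le_mul_left _ (le_trans ?_ s2)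
        refine Nat.mul_le_mul_left _ (le_trans ?_ s1)
        refine Nat.mul_le_mul_left _ (le_trans ?_ s0)
        exact Nat.mul_le_mul_left _ c0

end Sp4Rec

open Sp4Rec in
theorem exists_sylow_sp4 {G : Type*} [Group G] [Finite G] {p : ℕ} [Fact p.Prime] (hp : p ≠ 2)
    (hc : Nat.card G = p ^ 4) {U : Subgroup G} (hU : Nat.card U = p ^ 3)
    (hab : ∀ a ∈ U, ∀ b ∈ U, a * b = b * a) (he : ∀ a ∈ U, a ^ p = 1) {y : G} (hy : y ∉ U)
    (hyp : y ^ p = 1) (hZ : Nat.card (Subgroup.center G) = p) :
    ∃ P : Sylow p (Matrix.symplecticGroup (Fin 2) (ZMod p)),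
      Nonempty (G ≃* (P : Subgroup (Matrix.symplecticGroup (Fin 2) (ZMod p)))) := by
  have hpp : p.Prime := Fact.out
  have hG : IsPGroup p G := IsPGroup.of_card hc
  have := hG.isNilpotent
  obtain ⟨u, w, z, hu, hw, hz, yu, yw, hzc, hz1, hcl⟩ := exists_gens hc hU hab hy hZ
  have np : ∀ a b c : ZMod p, nn a b c ^ p = 1 := by
    intro a b c; rw [nn_pow]; simp [nn_zero]
  let u' : G × Matrix.symplecticGroup (Fin 2) (ZMod p) := (u, nn 0 0 1)
  let w' : G × Matrix.symplecticGroup (Fin 2) (ZMod p) := (w, nn 1 1 0)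
  let z' : G × Matrix.symplecticGroup (Fin 2) (ZMod p) := (z, nn 2 0 0)
  let y' : G × Matrix.symplecticGroup (Fin 2) (ZMod p) := (y, yy 1)
  have hle := card_closure_le (u := u') (w := w') (z := z') (y := y') hpp.pos
    (Prod.ext (hab _ hu _ hw) (nn_comm ..).eq) (Prod.ext (hab _ hu _ hz) (nn_comm ..).eq)
    (Prod.ext (hab _ hw _ hz) (nn_comm ..).eq) (Prod.ext (he _ hu) (np ..))
    (Prod.ext (he _ hw) (np ..)) (Prod.ext (he _ hz) (np ..))
    (Prod.ext hyp (by simp [y', yy_pow, yy_zero]))
    (Prod.ext yu (by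
      simp only [u', w', y', Prod.snd_mul, yy_nn, nn_mul]; congr 2 <;> ring))
    (Prod.ext yw (by
      simp only [z', w', y', Prod.snd_mul, yy_nn, nn_mul]; congr 2 <;> ring))
    (Prod.ext (mem_center_iff.1 hzc y) (by
      simp only [z', y', Prod.snd_mul, yy_nn]; congr 2 <;> ring))
  set Γ := closure ({u', w', z', y'} : Set (G × Matrix.symplecticGroup (Fin 2) (ZMod p)))
    with hΓ
  let f : Γ →* G := (MonoidHom.fst _ _).comp Γ.subtype
  have hfs : Function.Surjective f := by
    rw [← MonoidHom.range_eq_top, MonoidHom.range_comp, range_subtype, hΓ,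
      MonoidHom.map_closure, ← hcl]
    congr 1
    simp [Set.image_insert_eq, u', w', z', y']
  have hfb : Function.Bijective f := hfs.bijective_of_nat_card_le (hc ▸ hle)
  let e := MulEquiv.ofBijective f hfb
  let φ : G →* Matrix.symplecticGroup (Fin 2) (ZMod p) :=
    ((MonoidHom.snd _ _).comp Γ.subtype).comp e.symm.toMonoidHom
  have hφz : φ z = nn 2 0 0 := by
    have hm : z' ∈ Γ := subset_closure (by simp)
    have : e.symm z = ⟨z', hm⟩ := by rw [MulEquiv.symm_apply_eq]; rfl
    simp only [φ, MonoidHom.comp_apply, MulEquiv.coe_toMonoidHom, this]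
    rfl
  have hinj : Function.Injective φ := by
    rw [← MonoidHom.ker_eq_bot_iff, eq_bot_iff, ← Subgroup.upperCentralSeries_zero]
    apply le_ucs
    rw [zero_add, Subgroup.upperCentralSeries_one, Subgroup.upperCentralSeries_zero]
    intro x hx
    by_contra hx1
    have h1 := mul_card_le hG (A := ⊥) (B := φ.ker ⊓ center G) bot_le hx hx1
    rw [card_bot, mul_one] at h1
    have h2 : φ.ker ⊓ center G = center G := eq_of_le_of_card_ge inf_le_right (hZ.le.trans h1)
    have h3 : z ∈ φ.ker := (h2.ge hzc).1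
    rw [MonoidHom.mem_ker, hφz] at h3
    have h4 : ((2 : ℕ) : ZMod p) = 0 := by exact_mod_cast nn_eq_one h3
    rw [ZMod.natCast_eq_zero_iff] at h4
    exact hp ((Nat.prime_dvd_prime_iff_eq hpp Nat.prime_two).1 h4)
  have hcr : Nat.card φ.range = p ^ 4 := by
    rw [← hc]; exact (Nat.card_congr (MonoidHom.ofInjective hinj).toEquiv).symm
  have hidx : ¬ p ∣ φ.range.index := by
    have e1 := φ.range.card_mul_index
    rw [hcr, Cfsg.Lib.Class.card_symplecticGroup, ZMod.card] at e1
    simp only [Cfsg.Lib.Class.spOrd, Finset.prod_range_succ, Finset.range_zero,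
      Finset.prod_empty, one_mul] at e1
    have e2 : φ.range.index = (p ^ 2 - 1) * (p ^ 4 - 1) :=
      Nat.eq_of_mul_eq_mul_left (pow_pos hpp.pos 4) (e1.trans (by norm_num))
    rw [e2]
    have hn : ∀ k, 0 < k → ¬ p ∣ p ^ k - 1 := by
      intro k hk hd
      have h1 : p ∣ p ^ k := dvd_pow_self p hk.ne'
      have h2 := (Nat.dvd_sub h1 hd)
      rw [Nat.sub_sub_self (Nat.one_le_pow _ _ hpp.pos)] at h2
      exact hpp.one_lt.ne' (Nat.dvd_one.1 h2)
    intro hd
    rcases (Nat.Prime.dvd_mul hpp).1 hd with h | h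
    · exact hn _ (by norm_num) h
    · exact hn _ (by norm_num) h
  exact ⟨(IsPGroup.of_card hcr).toSylow hidx, ⟨MonoidHom.ofInjective hinj⟩⟩

end Cfsg.Lib.Fus.R3
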