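import Cfsg.Agent.Fus.R3Top
import Cfsg.Agent.Fus.R3Index
import Cfsg.Agent.Fus.R3Sp4
import Cfsg.Agent.Fus.EssInner

/-! Local data attached to essential subgroups in sectional rank three. -/

namespace Cfsg.Lib.Fus.R3

open Cfsg Cfsg.FusionSystem Subgroup Cfsg.Lib.Solv Cfsg.Lib.Fus.Ess
open scoped commutatorElement

variable {Ω : Type*} [Group Ω] {S E E₁ E₂ N : Subgroup Ω} {F : FusionSystem S} {p : ℕ}
  {f : Equiv.Perm Ω}

/-- A fully normalized centric radical subgroup of index `p` in its normalizer `N`. -/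
structure EssP (F : FusionSystem S) (p : ℕ) (E N : Subgroup Ω) : Prop where
  cen : F.IsCentric E
  rad : F.IsRadical p E
  fn : F.IsFullyNormalized E
  nor : normalizerIn S E = N
  card : Nat.card N = p * Nat.card E

/-- Transport of automorphisms into an overgroup. -/
def trA (h : E ≤ N) : MulAut E ≃* MulAut (E.subgroupOf N) :=
  MulAut.congr (subgroupOfEquivOfLe h).symm

theorem coe_pext_trA (h : E ≤ N) (a : MulAut E) {x : N} (hx : x ∈ E.subgroupOf N) :
    (pext _ (trA h a) x : Ω) = pext E a x := by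
  rw [pext_of_mem _ hx, pext_of_mem a (mem_subgroupOf.1 hx)]; rfl

namespace EssP

theorem leS (h : EssP F p E N) : E ≤ S := h.cen.1

theorem le (h : EssP F p E N) : E ≤ N := h.nor ▸ le_normalizerIn h.leS

theorem nS (h : EssP F p E N) : N ≤ S := h.nor ▸ normalizerIn_le

theorem le_nor (h : EssP F p E N) : N ≤ normalizer (E : Set Ω) := fun _ hx => (h.nor.ge hx).2

theorem normal (h : EssP F p E N) : (E.subgroupOf N).Normal :=
  (normal_subgroupOf_iff_le_normalizer h.le).2 h.le_nor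

/-- The group generated by the `p`-elements of the automizer. -/
def A (h : EssP F p E N) : Subgroup (MulAut (E.subgroupOf N)) :=
  (pGenIn p (F.autGroup E)).map (trA h.le).toMonoidHom

theorem map_ind (h : EssP F p E N) :
    (autInducedBy S E).map (trA h.le).toMonoidHom = (cA h.normal).range := by
  refine le_antisymm ?_ ?_
  · rintro _ ⟨a, ha, rfl⟩
    obtain ⟨g, hg, e⟩ := mem_autInducedBy_pext.1 ha
    exact ⟨⟨g, h.nor.le ⟨hg, mem_normalizer_of_pext e⟩⟩, aut_ext_pext fun x hx => Subtype.ext (by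
      rw [pext_cA _ _ hx]; exact ((coe_pext_trA h.le a hx).trans (e x hx)).symm)⟩
  · rintro _ ⟨g, rfl⟩
    exact ⟨_, conjAut_mem_autInducedBy (h.nS g.2) (h.le_nor g.2), aut_ext_pext fun x hx =>
      Subtype.ext (by
        rw [pext_cA _ _ hx]; exact (coe_pext_trA h.le _ hx).trans (pext_conjAut _ hx))⟩

variable [Finite S] [hp : Fact p.Prime] (hS : IsPGroup p S) (hF : F.IsSaturated p)

omit hp in
theorem fin (h : EssP F p E N) : Finite N := finite_of_le h.nS

omit hp in
include hS in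
theorem map (h : EssP F p E N) (hf : Mor F N f) : EssP F p (img E f) (img N f) := by
  have h1 := (hf.restrict h.le).piso
  have h2 := (isFullyNormalized_iff_piso.1 h.fn).2
  have h3 : normalizerIn S (img E f) = img N f := (eq_of_le_of_card_le (img_le_iff.2 fun x hx =>
    h1.map_normalizer hf h.le hx (h.le_nor hx)) (by rw [hf.card_img, ← h.nor]; exact h2 _ _ h1)).symm
  exact ⟨h1.isCentric h.cen, PIso.isRadical hS h1 h.rad, isFullyNormalized_iff_piso.2 ⟨h1.le_right,
    fun Q g hg => by rw [h3, hf.card_img, ← h.nor]; exact h2 _ _ (h1.trans hg)⟩, h3,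
    by rw [hf.card_img, h1.card_eq, h.card]⟩

include hS hF

theorem loc (h : EssP F p E N) : Loc p (E.subgroupOf N) h.A := by
  have := h.fin
  have := finite_of_le h.leS
  have h1 := sat_sylIn hS hF h.fn
  have h2 := le_pGenIn h1.pgroup h1.le
  refine ⟨hS.to_le h.nS, h.normal, PG.index_eq_of_card_eq_mul (by
    rw [Nat.card_congr (subgroupOfEquivOfLe h.le).toEquiv, h.card]),
    h.map_ind ▸ (h1.mono h2 (pGenIn_le _)).map_equiv _, ?_, fun e => ?_⟩
  · rw [A, ← map_pGenIn, pGenIn_pGenIn]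
  obtain ⟨s, hs, hs'⟩ := SetLike.not_le_iff_exists.1 fun e : N ≤ E => by
    have c1 := card_le_card_of_le e
    have c2 : 0 < Nat.card E := Nat.card_pos
    rw [h.card] at c1
    nlinarith [hp.out.one_lt]
  exact hs' (radIn_of_radical (isCentric_self h.cen) h.rad s (h.nS hs) (h.le_nor hs)
    (le_pCoreIn (pGenIn_le _) (e.of_equiv (equivMapOfInjective _ _ (trA h.le).injective).symm)
      (fun a ha _ => conj_mem_pGenIn (le_normalizer ha))
      (h2 (conjAut_mem_autInducedBy (h.nS hs) _))))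

theorem exists_ext (h : EssP F p E N) {β} (hβ : β ∈ h.A) (hc : (orderOf β).Coprime p)
    (hN : β ∈ normalizer ((cA h.normal).range : Set (MulAut (E.subgroupOf N)))) :
    ∃ g, PIso F g N N ∧ PPrimeOn p N g ∧ ∀ x ∈ E.subgroupOf N, g x = pext _ β x := by
  obtain ⟨d, hd, rfl⟩ := hβ
  rw [← h.map_ind, ← map_equiv_normalizer_eq] at hN
  obtain ⟨d', hd', e⟩ := hN
  obtain rfl : d' = d := (trA h.le).injective e
  obtain ⟨g, h1, h2, h3⟩ := exists_ext_normalizer hS hF h.fn (pGenIn_le _ hd) hd'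
    (by rwa [MulEquiv.coe_toMonoidHom, MulEquiv.orderOf_eq] at hc)
  rw [h.nor] at h1 h2
  exact ⟨g, h1, h2, fun x hx => (h3 x hx).trans (coe_pext_trA h.le _ hx).symm⟩

theorem ext (h : EssP F p E N) : Ext p (F.autGroup N) h.A h.normal := fun _ hβ hc hN =>
  let ⟨_, h1, _, h3⟩ := h.exists_ext hS hF hβ hc hN
  ⟨h1.aut, h1.aut_mem, fun x hx => Subtype.ext (h3 x hx)⟩

theorem two (h : EssP F p E₁ N) (h' : EssP F p E₂ N) (hne : E₁ ≠ E₂) (hp2 : p ≠ 2)
    (sr : SectionalPRankLE p 3 S) : Two p h.A h'.A :=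
  ⟨h.loc hS hF, h'.loc hS hF, fun e => hne (by
    rw [← map_subgroupOf_eq_of_le h.le, e, map_subgroupOf_eq_of_le h'.le]), hp2,
    PG.secRank_of_subgroup_le h.nS sr⟩

end EssP

variable [Finite S] [hp : Fact p.Prime] (hS : IsPGroup p S) (hF : F.IsSaturated p)
include hS hF

omit hF in
theorem index_frattini_le (sr : SectionalPRankLE p 3 S) (hE : E ≤ S) :
    (frattini E).index ≤ p ^ 3 := by
  have := finite_of_le hE
  have hE' := hS.to_le hE
  simpa using PG.secRank_iff.1 (PG.secRank_of_subgroup_le hE sr) ⊤ (frattini E)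
    (commutator_le_frattini_of_isPGroup hE') fun x _ => pow_mem_frattini hE' x

theorem essP_of_essential (sr : SectionalPRankLE p 3 S) (hE : F.IsEssential p E) :
    EssP F p E (normalizerIn S E) :=
  ⟨hE.1, isRadical_of_isEssential hS hE, hE.2.1, rfl,
    card_normalizerIn_of_rank_le hS hF hE (index_frattini_le hS sr hE.1.1)⟩

theorem essP_of_normal (sr : SectionalPRankLE p 3 S) (hE : F.IsEssential p E)
    (hn : S ≤ normalizer (E : Set Ω)) : EssP F p E S := by
  have := essP_of_essential hS hF sr hE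
  rwa [show normalizerIn S E = S from le_antisymm normalizerIn_le fun x hx => ⟨hx, hn hx⟩] at this

theorem outB_of_two (hp2 : p ≠ 2) (sr : SectionalPRankLE p 3 S) (sr' : ¬ SectionalPRankLE p 2 S)
    (hO : F.core = ⊥) (hE : F.IsEssential p E) (h : EssP F p E₁ S) (h' : EssP F p E₂ S)
    (hne : E₁ ≠ E₂) : OutB p h.A (E₂.subgroupOf S) ∨ OutB p h'.A (E₁.subgroupOf S) := by
  have t := h.two hS hF h' hne hp2 sr
  refine (t.top_cases (sat_aut_top hS hF) (h.ext hS hF) (h'.ext hS hF)).resolve_left ?_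
  rintro ⟨T, -, h1, -⟩
  have hc : ¬ ∀ x y : S, x * y = y * x := fun e =>
    let ⟨s, hs⟩ := t.l1.exists_not_mem
    hs (t.l1.mem_of_comm fun x _ => e s x)
  have c1 : Nat.card (center S) ≤ Nat.card (centralizerIn S S) := by
    rw [← card_map_of_injective S.subtype_injective]
    refine card_le_card_of_le ?_
    rintro _ ⟨z, hz, rfl⟩
    exact mem_centralizerIn.2 ⟨z.2, fun y hy => congrArg Subtype.val (mem_center_iff.1 hz ⟨y, hy⟩)⟩
  have q : CSq p S := ⟨hS, fun e => hc e.is_comm.comm, by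
    rw [t.l1.card, t.card_inf, ← mul_assoc, ← sq]
    exact Nat.mul_le_mul_left _ ((card_le_card_of_le h1).trans c1)⟩
  have c2 := q.card
  rw [q.cent_eq hp2 hF hO hE, (q.card_commutator hF hE).1, ← pow_succ] at c2
  refine sr' (PG.secRank_of_le fun H K hK h2 _ => ?_)
  by_contra! h3
  have c3 := (K.subgroupOf H).index_mul_card
  rw [Nat.card_congr (subgroupOfEquivOfLe hK).toEquiv] at c3
  rcases eq_or_ne K ⊥ with rfl | h4
  · rcases eq_or_ne H ⊤ with rfl | h5
    · exact hc fun x y => comm_eq_one.1 (h2 (commutator_mem_commutator trivial trivial))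
    · have c4 := le_of_mul_le (mul_card_le hS le_top h5) (by rwa [card_top])
      rw [card_bot, mul_one] at c3
      exact absurd (c3.trans_le c4) h3.not_ge
  · have c4 := (Nat.mul_le_mul_left _ (prime_le_card hS h4)).trans
      (c3.trans_le ((card_le_card_group H).trans c2))
    rw [pow_succ] at c4
    exact absurd (Nat.le_of_mul_le_mul_right c4 hp.out.pos) h3.not_ge

theorem exists_outB (hp2 : p ≠ 2) (sr : SectionalPRankLE p 3 S) (sr' : ¬ SectionalPRankLE p 2 S)
    (hO : F.core = ⊥) (hn : ∀ E, F.IsEssential p E → S ≤ normalizer (E : Set Ω)) :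
    ∃ (E₁ E₂ : Subgroup Ω) (h : EssP F p E₁ S) (_ : EssP F p E₂ S), E₁ ≠ E₂ ∧
      OutB p h.A (E₂.subgroupOf S) := by
  have h0 : ¬ Nat.card S ≤ p := fun e =>
    sr' (PG.secRank_of_card_le (e.trans (Nat.le_self_pow two_ne_zero p)))
  obtain ⟨E, hE⟩ := exists_essential_of_core_eq_bot hS hF (fun e => h0 (by
    rw [e, card_bot]; exact hp.out.one_le)) hO
  have h := essP_of_normal hS hF sr hE (hn E hE)
  by_cases h1 : ∃ E₂, EssP F p E₂ S ∧ E ≠ E₂
  · obtain ⟨E₂, h', hne⟩ := h1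
    exact (outB_of_two hS hF hp2 sr sr' hO hE h h' hne).elim (fun b => ⟨_, _, h, h', hne, b⟩)
      fun b => ⟨_, _, h', h, hne.symm, b⟩
  push Not at h1
  have h2 := le_core (isNormal_of_essential hS hF (Q := E) (by
    rintro P (rfl | hP)
    · refine ⟨h.le, fun f hf x hx => ?_⟩
      have := h.map hS hf.mor
      rw [hf.img_eq] at this
      exact (h1 _ this).ge (mem_img_of_mem f hx)
    · obtain rfl := h1 P (essP_of_normal hS hF sr hP (hn P hP))
      exact ⟨le_rfl, fun f hf x hx => hf.maps hx⟩))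
  rw [hO, le_bot_iff] at h2
  exact absurd (by rw [h.card, h2, card_bot, mul_one]) h0

omit hS hF in
theorem OutB.sp4 {A} (b : OutB p (E₁ := E₁.subgroupOf S) A (E₂.subgroupOf S)) (hp2 : p ≠ 2)
    (h : ¬ E₂.subgroupOf S ≤ E₁.subgroupOf S) :
    ∃ P : Sylow p (Matrix.symplecticGroup (Fin 2) (ZMod p)),
      Nonempty (S ≃* (P : Subgroup (Matrix.symplecticGroup (Fin 2) (ZMod p)))) :=
  let ⟨y, hy, hy'⟩ := SetLike.not_le_iff_exists.1 h
  exists_sylow_sp4 hp2 b.cG b.c1 b.ea.comm b.ea.pow hy' (b.ex y hy) b.cz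

omit hS hF in
theorem OutB.shape {A} (b : OutB p (E₁ := E₁.subgroupOf S) A (E₂.subgroupOf S))
    (h : EssP F p E₁ S) (h' : EssP F p E₂ S) : IsExtraspecial p E₂ ∧ Nat.card E₂ = p ^ 3 ∧
      (∀ x ∈ E₂, x ^ p = 1) ∧ IsElementaryAbelian p E₁ ∧ Nat.card E₁ = p ^ 3 := by
  have := finite_of_le h'.le
  have c1 : Nat.card E₂ = p ^ 3 :=
    Nat.eq_of_mul_eq_mul_left hp.out.pos (h'.card.symm.trans (b.cG.trans (pow_succ' p 3)))
  exact ⟨isExtraspecial_of_card_cube c1 fun e => b.nab fun x hx y hy =>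
    Subtype.ext (congrArg (Subtype.val : E₂ → Ω) (e ⟨x, hx⟩ ⟨y, hy⟩)), c1,
    fun x hx => congrArg Subtype.val (b.ex ⟨x, h'.le hx⟩ hx),
    ⟨⟨⟨fun x y => Subtype.ext (congrArg (Subtype.val : S → Ω)
      (b.ea.comm ⟨x, h.le x.2⟩ x.2 ⟨y, h.le y.2⟩ y.2))⟩⟩,
      fun x hx => congrArg Subtype.val (b.ea.pow ⟨x, h.le hx⟩ hx)⟩,
    Nat.eq_of_mul_eq_mul_left hp.out.pos (h.card.symm.trans (b.cG.trans (pow_succ' p 3)))⟩

end Cfsg.Lib.Fus.R3
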