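import Cfsg.Agent.Fus.R3Plane

/-! The inverting element, and passage to quotients. -/

namespace Cfsg.Lib.Fus.R3

open Subgroup Cfsg.Lib.Solv Cfsg.Lib.Fus.Ess
open scoped commutatorElement

variable {G G' : Type*} [Group G] [Group G'] {p : ℕ} {E W X Y Z : Subgroup G}
  {A : Subgroup (MulAut E)} {a β : MulAut E} {g s x y z : G}

theorem conj_mem_of_comm (h : ⁅g, x⁆ ∈ Y) [hY : Y.Normal] : x⁻¹ * (g * x * g⁻¹) ∈ Y := by
  have := hY.conj_mem' _ h x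
  rwa [show x⁻¹ * ⁅g, x⁆ * x = x⁻¹ * (g * x * g⁻¹) by group] at this

theorem comm_of_conj_mem (h : x⁻¹ * (g * x * g⁻¹) ∈ Y) [hY : Y.Normal] : ⁅g, x⁆ ∈ Y := by
  have := hY.conj_mem _ h x
  rwa [show x * (x⁻¹ * (g * x * g⁻¹)) * x⁻¹ = ⁅g, x⁆ by group] at this

theorem comm_symm (h : ⁅g, x⁆ ∈ Y) : ⁅x, g⁆ ∈ Y := commutatorElement_inv g x ▸ inv_mem h

theorem comm_mem_right [hY : Y.Normal] (g : G) (h : x ∈ Y) : ⁅g, x⁆ ∈ Y :=
  mul_mem (hY.conj_mem _ h g) (inv_mem h)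

theorem comm_mem_left [Y.Normal] (g : G) (h : x ∈ Y) : ⁅x, g⁆ ∈ Y := comm_symm (comm_mem_right g h)

/-- `β` normalizes the action of `G` and centralizes `G / E`. -/
def Cen (β : MulAut E) : Prop :=
  ∀ g, ∃ e ∈ E, ∀ x ∈ E, pext E β (g * x * g⁻¹) = g * e * pext E β x * (g * e)⁻¹

theorem Cen.comm (h : Cen β) (hn : E.Normal) (g : G) :
    ∃ e ∈ E, ∀ x ∈ E, pext E β ⁅g, x⁆ = ⁅g * e, pext E β x⁆ := by
  obtain ⟨e, he, h1⟩ := h g
  refine ⟨e, he, fun x hx => ?_⟩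
  rw [commutatorElement_def, pmul β (hn.conj_mem x hx g) (inv_mem hx), h1 x hx, pinv' β hx,
    commutatorElement_def]

variable [hp : Fact p.Prime] [Finite G]

theorem comm_of_card (hG : IsPGroup p G) [hX : X.Normal] [hY : Y.Normal] (hYX : Y ≤ X)
    (hc : Nat.card X ≤ p * Nat.card Y) (g : G) (hx : x ∈ X) : ⁅g, x⁆ ∈ Y :=
  comm_of_conj_mem (triv_of_card_le (t := MulAut.conj g) hG
    ((hG g).imp fun k hk => by rw [← map_pow, hk, map_one]) (fun x hx => hX.conj_mem x hx g)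
    (fun x hx => hY.conj_mem x hx g) hYX hc x hx)

theorem mul_card_le (hG : IsPGroup p G) (h : X ≤ Y) (hne : X ≠ Y) : p * Nat.card X ≤ Nat.card Y :=
  PG.prime_mul_card_le_of_lt (hG.to_subgroup Y) (lt_of_le_of_ne h hne)

omit [Finite G] in
theorem eq_one_of_sq (hp2 : p ≠ 2) (h1 : x ^ p ∈ Y) (h2 : x * x ∈ Y) : x ∈ Y := by
  obtain ⟨k, hk⟩ := hp.out.odd_of_ne_two hp2
  rw [hk, pow_succ, pow_mul, sq] at h1
  exact (mul_mem_cancel_left (pow_mem h2 k)).1 h1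

namespace Loc

variable (h : Loc p E A)
include h

theorem irr (hX : PInv A X) (hY : PInv A Y) (hW : PInv A W) (hXE : X ≤ E) (h1 : Y ≤ W)
    (h2 : W ≤ X) (hc : Nat.card X ≤ p ^ 2 * Nat.card Y) (hn : ¬ PA p A X Y) : W = Y ∨ W = X := by
  by_contra! h3
  have h4 := mul_card_le h.pg h1 h3.1.symm
  have h5 := mul_card_le h.pg h2 h3.2
  have := hp.out.pos
  exact hn ((h.fx_of_card hX hW hXE h2 (by nlinarith)).pa.trans h.pg
    (h.fx_of_card hW hY (h2.trans hXE) h1 (by nlinarith)).pa hXE hY)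

/-- The torus acting on a section of rank two. -/
theorem torus (hX : PInv A X) (hY : PInv A Y) (hXE : X ≤ E) (hYX : Y ≤ X) (hab : Phi X ≤ Y)
    (hE : ∀ e ∈ E, ∀ x ∈ X, ⁅e, x⁆ ∈ Y) (hn : ¬ PA p A X Y)
    (hc : Nat.card X ≤ p ^ 2 * Nat.card Y) : ∃ z ∈ X, ∃ y ∈ X, (∀ g : G, ⁅g, z⁆ ∈ Y) ∧
      Y ⊔ zpowers z ⊔ zpowers y = X ∧ ∀ a b : ℕ, a * b ≡ 1 [MOD p] → ∃ β ∈ A,
        (orderOf β).Coprime p ∧ β ∈ normalizer ((cA h.normal).range : Set (MulAut E)) ∧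
        (z ^ a)⁻¹ * pext E β z ∈ Y ∧ (y ^ b)⁻¹ * pext E β y ∈ Y := by
  have := h.normal_of hX hXE
  have := h.normal_of hY (hYX.trans hXE)
  obtain ⟨z, hz, hz1, hz2, hz3⟩ := PG.exists_normal_step_elt h.pg (M := Y) (N := X) fun e =>
    hn fun β hβ _ x hx => e (mul_mem (inv_mem hx) (hX β hβ x hx))
  have : (Y ⊔ zpowers z).Normal := PG.normal_of_top_le_normalizer
    (PG.le_normalizer_sup_zpowers (normalizer_eq_top Y).ge fun s _ => hz3 s)
  have h1 := PG.card_sup_zpowers hp.out ((normalizer_eq_top Y).ge (mem_top z)) hz1 hz2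
  obtain ⟨s, hs⟩ := h.exists_not_mem
  obtain ⟨y, hy, W, k1, k2, k3, k4, -, -, k5⟩ := h.plane hX hY hXE hYX hab
    (fun e he x hx => conj_mem_of_comm (hE e he x hx)) hn hs hz (fun x hx => conj_mem_of_comm
      (comm_of_card h.pg (sup_le hYX (zpowers_le.2 hz)) (by rw [h1]; nlinarith) s hx))
    (conj_mem_of_comm (comm_symm (hz3 s)))
  obtain rfl | rfl := h.irr hX hY (k3.pInv k1 le_rfl) hXE k1 k2 hc hn
  · exact ⟨z, hz, y, hy, fun g => comm_symm (hz3 g), k4, k5⟩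
  · exact absurd k3.pa hn

theorem cen_of_inv (hX : PInv A X) (hY : PInv A Y) (hXE : X ≤ E) (hYX : Y ≤ X)
    (hn : ¬ PA p A X Y) (hN : β ∈ normalizer ((cA h.normal).range : Set (MulAut E)))
    (hi : ∀ x ∈ X, x * pext E β x ∈ Y) : Cen β := fun g => by
  have hXn := h.normal_of hX hXE
  have hYn := h.normal_of hY (hYX.trans hXE)
  obtain ⟨g', e⟩ := (hN (cA h.normal g)).1 ⟨g, rfl⟩
  have h1 : ∀ x ∈ E, pext E β (g * x * g⁻¹) = g' * pext E β x * g'⁻¹ := fun x hx => by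
    rw [← pext_cA h.normal g' (pmem β hx), e, p_mul_apply, p_mul_apply, p_inv_apply,
      pext_cA _ _ hx]
  refine ⟨g⁻¹ * g', ?_, fun x hx => by rw [h1 x hx, mul_inv_cancel_left]⟩
  by_contra h2
  refine hn (h.pa_of_out hX hY hXE h2 fun x hx => ?_)
  have h3 := hi _ (hXn.conj_mem _ (inv_mem hx) g)
  rw [h1 _ (hXE (inv_mem hx))] at h3
  have h4 := mul_mem (hYn.conj_mem' _ h3 g) (inv_mem (hYn.conj_mem _ (hi _ (inv_mem hx)) (g⁻¹ * g')))
  rwa [show g⁻¹ * (g * x⁻¹ * g⁻¹ * (g' * pext E β x⁻¹ * g'⁻¹)) * g *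
    (g⁻¹ * g' * (x⁻¹ * pext E β x⁻¹) * (g⁻¹ * g')⁻¹)⁻¹ =
      x⁻¹ * (g⁻¹ * g' * x * (g⁻¹ * g')⁻¹) by group] at h4

/-- The inverting element. -/
theorem exists_inv (hX : PInv A X) (hY : PInv A Y) (hXE : X ≤ E) (hYX : Y ≤ X) (hab : Phi X ≤ Y)
    (hE : ∀ e ∈ E, ∀ x ∈ X, ⁅e, x⁆ ∈ Y) (hn : ¬ PA p A X Y)
    (hc : Nat.card X ≤ p ^ 2 * Nat.card Y) : ∃ β ∈ A, (orderOf β).Coprime p ∧
      β ∈ normalizer ((cA h.normal).range : Set (MulAut E)) ∧ (∀ x ∈ X, x * pext E β x ∈ Y) ∧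
      Cen β := by
  have hYn := h.normal_of hY (hYX.trans hXE)
  obtain ⟨z, hz, y, hy, -, k2, k3⟩ := h.torus hX hY hXE hYX hab hE hn hc
  obtain ⟨q, rfl⟩ : ∃ q, p = q + 1 := ⟨p - 1, (Nat.sub_add_cancel hp.out.pos).symm⟩
  obtain ⟨β, h1, h2, h3, h4, h5⟩ := k3 q q (by
    have := (Nat.modEq_zero_iff_dvd.2 (dvd_mul_left (q + 1) (q - 1))).add_right 1
    have h0 : 1 ≤ q := Nat.lt_succ_iff.1 hp.out.one_lt
    obtain ⟨r, rfl⟩ := Nat.exists_eq_add_of_le' h0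
    rwa [show (r + 1 - 1) * (r + 1 + 1) + 1 = (r + 1) * (r + 1) by simp; ring] at this)
  have key : ∀ u ∈ X, (u ^ q)⁻¹ * pext E β u ∈ Y → u * pext E β u ∈ Y := fun u hu h6 => by
    have := mul_mem (hab (pow_mem_phi h.pg hu)) h6
    rwa [pow_succ', mul_assoc, mul_inv_cancel_left] at this
  have h6 : X ≤ subgroupOfFinite {x | x ∈ X ∧ x * pext E β x ∈ Y} ⟨one_mem _, by simp [pone]⟩
      fun u v hu hv => ⟨mul_mem hu.1 hv.1, by
        have := mul_mem (mul_mem (hYn.conj_mem _ (hab (comm_mem_phi h.pg hv.1 (hX β h1 u hu.1))) u)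
          hu.2) hv.2
        rwa [pmul β (hXE hu.1) (hXE hv.1), show u * v * (pext E β u * pext E β v) =
          u * ⁅v, pext E β u⁆ * u⁻¹ * (u * pext E β u) * (v * pext E β v) by group]⟩ := by
    refine k2.ge.trans (sup_le (sup_le (fun x hx => ⟨hYX hx, mul_mem hx (hY β h1 x hx)⟩) ?_) ?_)
    exacts [zpowers_le.2 ⟨hz, key z hz h4⟩, zpowers_le.2 ⟨hy, key y hy h5⟩]
  exact ⟨β, h1, h2, h3, fun x hx => (h6 hx).2,
    h.cen_of_inv hX hY hXE hYX hn h3 fun x hx => (h6 hx).2⟩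

/-- An elementary abelian group with an invariant plane of index `p` splits. -/
theorem exists_center_not_mem (hp2 : p ≠ 2) (hab : Phi E ≤ ⊥) (hX : PInv A X) (hXE : X < E)
    (hc : Nat.card X ≤ p ^ 2) (hc' : Nat.card E ≤ p * Nat.card X) :
    ∃ e ∈ center G, e ∈ E ∧ e ∉ X := by
  have h0 := h.fx_of_card pInv_self hX le_rfl hXE.le hc'
  have hcm : ∀ u ∈ E, ∀ v ∈ E, u * v = v * u := fun u hu v hv =>
    commutatorElement_eq_one_iff_mul_comm.1 (hab (comm_mem_phi h.pg hu hv))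
  have := h.normal
  have := h.normal_of hX hXE.le
  obtain ⟨β, h1, h2, -, h4, h5⟩ := h.exists_inv hX pInv_bot hXE.le bot_le
    ((phi_mono h.pg hXE.le).trans hab) (fun e he x hx => hab (comm_mem_phi h.pg he (hXE.le hx)))
    (fun e => h.not_pa (h0.pa.trans h.pg e le_rfl pInv_bot)) (by simpa using hc)
  have h6 := sup_fixS_eq_top (h.pg.to_subgroup E) h2 (X := X.subgroupOf E)
    fun x _ => by simpa [mem_subgroupOf] using h0 β h1 x x.2
  obtain ⟨e, he, he'⟩ : ∃ e ∈ fixS β, e ∉ X.subgroupOf E := by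
    by_contra! h7
    exact hXE.not_ge fun x hx => (h6.ge.trans (sup_le le_rfl h7) (mem_top ⟨x, hx⟩) :)
  refine ⟨e, mem_center_iff.2 fun g => ?_, e.2, he'⟩
  obtain ⟨u, hu, h7⟩ := h5 g
  have h8 : pext E β e = e := by rw [pext_coe, mem_fixS.1 he]
  have h9 := comm_of_card h.pg hXE.le hc' g e.2
  have h10 := h4 _ h9
  rw [commutatorElement_def, pmul β (h.normal.conj_mem _ e.2 g) (inv_mem e.2), h7 _ e.2, pinv' β e.2,
    h8, mul_assoc g u e, hcm u hu e e.2, show g * (e * u) * (g * u)⁻¹ = g * e * g⁻¹ by group]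
    at h10
  exact commutatorElement_eq_one_iff_mul_comm.1
    (eq_one_of_sq hp2 (hab (pow_mem_phi h.pg (hXE.le h9))) h10)

end Loc

/-- The groups `A` and `A'` correspond under `f`. -/
structure Tr (f : G →* G') (p : ℕ) (A : Subgroup (MulAut E)) (A' : Subgroup (MulAut (E.map f))) :
    Prop where
  fwd : ∀ a ∈ A, ∃ a' ∈ A', ((orderOf a).Coprime p → (orderOf a').Coprime p) ∧
    ∀ x ∈ E, pext _ a' (f x) = f (pext E a x)
  bwd : ∀ a' ∈ A', ∃ a ∈ A, ((orderOf a').Coprime p → (orderOf a).Coprime p) ∧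
    ∀ x ∈ E, pext _ a' (f x) = f (pext E a x)

theorem Loc.map (h : Loc p E A) (f : G →* G') (hf : Function.Surjective f) (hK : f.ker ≤ E)
    (hi : PInv A f.ker) (hn : ¬ PA p A E f.ker) :
    ∃ A' : Subgroup (MulAut (E.map f)), Loc p (E.map f) A' ∧ Tr f p A A' := by
  have := Finite.of_surjective f hf
  obtain ⟨θ, hθ⟩ := exists_theta (f.subgroupMap E) (f.subgroupMap_surjective E) A.subtype
    fun a x hx => by
      have := hi a a.2 x (congrArg Subtype.val hx)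
      rw [pext_coe] at this
      exact Subtype.ext this
  have h1 : ∀ a : A, ∀ x ∈ E, pext _ (θ a) (f x) = f (pext E a.1 x) := fun a x hx => by
    rw [pext_of_mem _ (mem_map_of_mem f hx), pext_of_mem _ hx]
    exact congrArg Subtype.val (hθ a ⟨x, hx⟩)
  have hn' : (E.map f).Normal := h.normal.map f hf
  have h2 : ∀ g, θ ⟨_, h.cA_mem g⟩ = cA hn' (f g) := fun g => aut_ext_pext (by
    rintro _ ⟨x, hx, rfl⟩
    rw [h1 _ _ hx, pext_cA _ _ hx, pext_cA _ _ (mem_map_of_mem f hx), map_mul, map_mul, map_inv])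
  have h3 : (((cA h.normal).range).subgroupOf A).map θ = (cA hn').range := le_antisymm
    (by rintro _ ⟨⟨_, _⟩, ⟨g, rfl⟩, rfl⟩; exact ⟨_, (h2 g).symm⟩)
    (by rintro _ ⟨g, rfl⟩; obtain ⟨g, rfl⟩ := hf g; exact ⟨_, ⟨g, rfl⟩, h2 g⟩)
  have h4 : ∀ a : A, (orderOf a.1).Coprime p → (orderOf (θ a)).Coprime p := fun a hc =>
    Nat.Coprime.coprime_dvd_left (orderOf_map_dvd θ a) (by rwa [← orderOf_coe])
  refine ⟨θ.range, ⟨h.pg.of_surjective f hf, hn', ?_, ?_, ?_, fun e => hn fun β hβ hc x hx => ?_⟩,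
    fun a ha => ⟨_, ⟨⟨a, ha⟩, rfl⟩, h4 ⟨a, ha⟩, h1 ⟨a, ha⟩⟩, ?_⟩
  · rw [index_map_eq _ hf hK, h.index]
  · have := h.syl.subgroupOf_top.map θ
    rwa [h3, ← MonoidHom.range_eq_map] at this
  · rw [MonoidHom.range_eq_map, ← map_pGenIn]
    refine map_mono fun a _ => ?_
    have h5 := h.gen a.2
    rw [← map_pGen_eq] at h5
    obtain ⟨b, hb, e⟩ := h5
    obtain rfl : b = a := Subtype.ext e
    exact (closure_le (pGenIn p (⊤ : Subgroup A))).2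
      (fun c (hc : ∃ k, _) => hc.elim fun k hk => mem_pGenIn (mem_top c) hk) hb
  · have h5 := h1 ⟨β, hβ⟩ x hx
    rw [eq_one_of_coprime_of_isPGroup e ⟨_, rfl⟩ (h4 ⟨β, hβ⟩ hc), map_one,
      Equiv.Perm.one_apply] at h5
    rw [MonoidHom.mem_ker, map_mul, map_inv, ← h5, inv_mul_cancel]
  · rintro _ ⟨a, rfl⟩
    by_cases hc : (orderOf (θ a)).Coprime p
    · obtain ⟨k, k1, k2⟩ := exists_pow_pprime_part a hc
      refine ⟨_, (a ^ k).2, fun _ => by rwa [orderOf_coe], fun x hx => ?_⟩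
      rw [← h1 _ x hx, map_pow, pow_eq_self_of_modEq (pow_orderOf_eq_one _) k2]
    · exact ⟨a, a.2, fun e => absurd e hc, h1 a⟩

namespace Tr

variable {f : G →* G'} {A' : Subgroup (MulAut (E.map f))} (h : Tr f p A A') {X' Y' : Subgroup G'}
include h

omit hp [Finite G]

theorem pInv_comap (hX : X'.comap f ≤ E) (hi : PInv A' X') : PInv A (X'.comap f) :=
  fun a ha x hx => let ⟨a', h1, _, h2⟩ := h.fwd a ha
    mem_comap.2 (h2 x (hX hx) ▸ hi a' h1 _ hx)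

theorem pInv_map (hX : X ≤ E) (hi : PInv A X) : PInv A' (X.map f) := by
  rintro a' ha _ ⟨x, hx, rfl⟩
  obtain ⟨a, h1, -, h2⟩ := h.bwd a' ha
  exact h2 x (hX hx) ▸ mem_map_of_mem f (hi a h1 x hx)

theorem fx_comap (hX : X'.comap f ≤ E) (hi : Fx A' X' Y') : Fx A (X'.comap f) (Y'.comap f) :=
  fun a ha x hx => let ⟨a', h1, _, h2⟩ := h.fwd a ha
    mem_comap.2 (by rw [map_mul, map_inv, ← h2 x (hX hx)]; exact hi a' h1 _ hx)

theorem fx_map (hX : X ≤ E) (hi : Fx A X Y) : Fx A' (X.map f) (Y.map f) := by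
  rintro a' ha _ ⟨x, hx, rfl⟩
  obtain ⟨a, h1, -, h2⟩ := h.bwd a' ha
  rw [h2 x (hX hx), ← map_inv, ← map_mul]
  exact mem_map_of_mem f (hi a h1 x hx)

end Tr

end Cfsg.Lib.Fus.R3
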