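import Cfsg.Agent.Fus.R3Core

/-! The action of a local datum on an invariant subgroup in sectional rank three. -/

namespace Cfsg.Lib.Fus.R3

open Subgroup Cfsg.Lib.Solv Cfsg.Lib.Fus.Ess
open scoped commutatorElement

variable {G G' : Type*} [Group G] [Group G'] {p : ℕ} {C E K N T U W X Y Z : Subgroup G}
  {A : Subgroup (MulAut E)} {β : MulAut E} {e g s t u v x y z : G}

theorem Tr.pa_map {f : G →* G'} {A' : Subgroup (MulAut (E.map f))} (h : Tr f p A A') (hX : X ≤ E)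
    (hi : PA p A X Y) : PA p A' (X.map f) (Y.map f) := by
  rintro a' ha hc _ ⟨x, hx, rfl⟩
  obtain ⟨a, h1, h3, h2⟩ := h.bwd a' ha
  rw [h2 x (hX hx), ← map_inv, ← map_mul]
  exact mem_map_of_mem f (hi a h1 (h3 hc) x hx)

theorem Tr.pa_of_map {f : G →* G'} {A' : Subgroup (MulAut (E.map f))} (h : Tr f p A A')
    (hX : X ≤ E) (hY : f.ker ≤ Y) (hi : PA p A' (X.map f) (Y.map f)) : PA p A X Y :=
  fun a ha hc x hx => by
    obtain ⟨a', h1, h3, h2⟩ := h.fwd a ha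
    have := hi a' h1 (h3 hc) _ (mem_map_of_mem f hx)
    rwa [h2 x (hX hx), ← map_inv, ← map_mul, ← mem_comap, comap_map_eq_self hY] at this

/-- The quotient map. -/
abbrev qm (K : Subgroup G) [K.Normal] : G →* G ⧸ K := QuotientGroup.mk' K

theorem qm_eq_one [K.Normal] : qm K x = 1 ↔ x ∈ K := QuotientGroup.eq_one_iff x

theorem qm_ker [K.Normal] : (qm K).ker = K := QuotientGroup.ker_mk' K

theorem qm_surj [K.Normal] : Function.Surjective (qm K) := QuotientGroup.mk'_surjective K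

theorem qm_mem [K.Normal] (h : K ≤ X) : qm K x ∈ X.map (qm K) ↔ x ∈ X := by
  rw [← mem_comap, comap_map_eq_self (qm_ker.trans_le h)]

theorem qm_comm [K.Normal] : qm K x * qm K y = qm K y * qm K x ↔ ⁅x, y⁆ ∈ K := by
  rw [← comm_eq_one, ← map_commutatorElement, qm_eq_one]

theorem card_qm [K.Normal] (h : K ≤ X) : Nat.card X = Nat.card (X.map (qm K)) * Nat.card K := by
  rw [← card_map_mk'_mul_card_inf K X, inf_eq_left.2 h]

theorem qm_le [K.Normal] (h : K ≤ Y) : X.map (qm K) ≤ Y.map (qm K) ↔ X ≤ Y :=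
  ⟨fun e _ hx => (qm_mem h).1 (e (mem_map_of_mem _ hx)), map_mono⟩

theorem pInv_cent (h : PInv A T) : PInv A (T ⊓ (E ⊓ commLe E ⊥)) :=
  h.inf (pInv_self.commLe pInv_bot le_rfl)

theorem mem_cent (hT : T ≤ E) :
    x ∈ T ⊓ (E ⊓ commLe E ⊥) ↔ x ∈ T ∧ ∀ e ∈ E, x * e = e * x :=
  ⟨fun h => ⟨h.1, fun e he => comm_eq_one.1 (mem_commLe.1 h.2.2 e he)⟩,
    fun h => ⟨h.1, hT h.1, mem_commLe.2 fun e he => comm_eq_one.2 (h.2 e he)⟩⟩

/-- A `p'`-element centralizing `T` acts trivially on `E / C_E(T)`. -/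
theorem PA.cent (h : PA p A T ⊥) (hT : T ≤ E) [hn : T.Normal] : PA p A E (E ⊓ commLe T ⊥) :=
  fun β hβ hc x hx => ⟨E.mul_mem (E.inv_mem hx) (pmem β hx), mem_commLe.2 fun t ht => by
    have h1 := h.eq hβ hc (hn.conj_mem t ht x)
    rw [pmul β (mul_mem hx (hT ht)) (inv_mem hx), pmul β hx (hT ht), pinv' β hx,
      h.eq hβ hc ht] at h1
    rw [mem_bot, show ⁅x⁻¹ * pext E β x, t⁆ = x⁻¹ * (pext E β x * t * (pext E β x)⁻¹) * x * t⁻¹ by
      group, h1]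
    group⟩

theorem le_of_dedekind [T.Normal] (h1 : C ≤ X ⊔ T) (h2 : X ≤ C) (h3 : C ⊓ T ≤ X) : C ≤ X :=
  fun c hc => by
    obtain ⟨r, hr, t, ht, rfl⟩ := mem_sup_of_normal_right.1 (h1 hc)
    exact mul_mem hr (h3 ⟨(mul_mem_cancel_left (h2 hr)).1 hc, ht⟩)

variable [Finite G]

/-- Commutation modulo a subgroup, inside its normalizer. -/
def cenN (N : Subgroup G) (s : G) : Subgroup G :=
  subgroupOfFinite {x | x ∈ normalizer (N : Set G) ∧ ⁅s, x⁆ ∈ N} ⟨one_mem _, by simp⟩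
    fun a b ha hb => ⟨mul_mem ha.1 hb.1, by
      have := mul_mem ha.2 (conj_mem_of_mem_normalizer ha.1 hb.2)
      rwa [show ⁅s, a⁆ * (a * ⁅s, b⁆ * a⁻¹) = ⁅s, a * b⁆ by group] at this⟩

theorem comm_mem_two (hE : E ≤ normalizer (N : Set G)) (hT : T ≤ E) (hz : z ∈ E) (hy : y ∈ E)
    (h1 : ∀ e ∈ E, ∀ t ∈ T, ⁅e, t⁆ ∈ N) (h2 : ⁅z, y⁆ ∈ N) (h3 : E ≤ T ⊔ zpowers z ⊔ zpowers y) :
    ⁅E, E⁆ ≤ N := by
  have k : ∀ x ∈ E, ⁅x, z⁆ ∈ N → ⁅x, y⁆ ∈ N → E ≤ cenN N x := fun x hx a b => h3.trans (sup_le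
    (sup_le (fun t ht => ⟨hE (hT ht), h1 x hx t ht⟩) (zpowers_le.2 ⟨hE hz, a⟩))
    (zpowers_le.2 ⟨hE hy, b⟩))
  exact commutator_le.2 fun a ha b hb => (k a ha (comm_symm (k z hz (by simp) h2 ha).2)
    (comm_symm (k y hy (comm_symm h2) (by simp) ha).2) hb).2

variable [hp : Fact p.Prime]

theorem ea_qm (hG : IsPGroup p G) [K.Normal] (h : Phi X ≤ K) : EA p (X.map (qm K)) := by
  refine ⟨?_, ?_⟩
  · rintro _ ⟨a, ha, rfl⟩ _ ⟨b, hb, rfl⟩
    exact qm_comm.2 (h (comm_mem_phi hG ha hb))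
  · rintro _ ⟨a, ha, rfl⟩
    rw [← map_pow, qm_eq_one]
    exact h (pow_mem_phi hG ha)

theorem phi_le_of_ea_qm (hG : IsPGroup p G) [K.Normal] (h : EA p (X.map (qm K))) : Phi X ≤ K :=
  phi_le_of hG (fun a ha b hb => qm_comm.1 (h.comm _ (mem_map_of_mem _ ha) _ (mem_map_of_mem _ hb)))
    fun a ha => qm_eq_one.1 (by rw [map_pow]; exact h.pow _ (mem_map_of_mem _ ha))

theorem phi_qm_le (hG : IsPGroup p G) [K.Normal] (h : Phi X ≤ Y) :
    Phi (X.map (qm K)) ≤ Y.map (qm K) := by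
  refine phi_le_of (hG.to_quotient K) ?_ ?_
  · rintro _ ⟨a, ha, rfl⟩ _ ⟨b, hb, rfl⟩
    rw [← map_commutatorElement]
    exact mem_map_of_mem _ (h (comm_mem_phi hG ha hb))
  · rintro _ ⟨a, ha, rfl⟩
    rw [← map_pow]
    exact mem_map_of_mem _ (h (pow_mem_phi hG ha))

theorem prime_le_card (hG : IsPGroup p G) (h : X ≠ ⊥) : p ≤ Nat.card X := by
  simpa using mul_card_le hG bot_le h.symm

/-- An alternating form with cyclic values on a space of rank three has a radical. -/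
theorem exists_rad (hG : IsPGroup p G) [N.Normal] (hNU : N ≤ U) (hUW : U ≤ W)
    (hU : Nat.card U ≤ p * Nat.card N) (h1 : ∀ v ∈ W, ∀ x ∈ W, ⁅v, x⁆ ∈ U)
    (h2 : ∀ v ∈ W, ∀ u ∈ U, ⁅v, u⁆ ∈ N) (hc : Nat.card W = p ^ 3 * Nat.card U) :
    ∃ r ∈ W, r ∉ U ∧ W ≤ cen r N := by
  have h0 : 0 < Nat.card U := Nat.card_pos
  have h3 : p ^ 2 * Nat.card U < p ^ 3 * Nat.card U :=
    Nat.mul_lt_mul_of_pos_right (pow_lt_pow_right₀ hp.out.one_lt (by norm_num)) h0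
  obtain ⟨v, hv, hvU⟩ := SetLike.not_le_iff_exists.1 fun e : W ≤ U =>
    absurd (hc.ge.trans ((card_le_card_of_le e).trans (Nat.le_mul_of_pos_left _
      (pow_pos hp.out.pos 2)))) h3.not_ge
  by_contra! k1
  have k3 : ∀ v ∈ W, ∀ H ≤ W, Nat.card H ≤ p * Nat.card ↥(cen v N ⊓ H) :=
    fun v hv H hH => card_le_cen hNU (fun x hx => h1 v hv x (hH hx)) hU
  have k4 : ∀ v ∈ W, U ≤ cen v N := fun v hv u hu => h2 v hv u hu
  obtain ⟨t, ht, ht'⟩ := SetLike.not_le_iff_exists.1 (k1 v hv hvU)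
  have k5 := k3 v hv W le_rfl
  have k6 := k3 t ht _ (inf_le_right (a := cen v N))
  obtain ⟨r, hr, hr'⟩ : ∃ r ∈ cen t N ⊓ (cen v N ⊓ W), r ∉ U := by
    by_contra! k7
    have k8 := k5.trans (Nat.mul_le_mul_left p (k6.trans (Nat.mul_le_mul_left p
      (card_le_card_of_le k7))))
    exact absurd (hc.ge.trans (k8.trans_eq (by ring))) h3.not_ge
  have k7 := mul_card_le_sup hG hr'
  have k8 := mul_card_le_sup hG (X := U ⊔ zpowers r) (x := v) fun e =>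
    ht' (cen_symm (sup_le (k4 t ht) (zpowers_le.2 hr.1) e))
  have k9 := mul_card_le_sup hG (X := U ⊔ zpowers r ⊔ zpowers v) (x := t) fun e =>
    ht' (sup_le (sup_le (k4 v hv) (zpowers_le.2 hr.2.1)) (zpowers_le.2 self_mem_cen) e)
  refine k1 r hr.2.2 hr' ((eq_of_le_of_card_le (sup_le (sup_le (sup_le hUW
    (zpowers_le.2 hr.2.2)) (zpowers_le.2 hv)) (zpowers_le.2 ht)) ?_).ge.trans
    (sup_le (sup_le (sup_le (k4 r hr.2.2) (zpowers_le.2 self_mem_cen))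
      (zpowers_le.2 (cen_symm hr.2.1))) (zpowers_le.2 (cen_symm hr.1))))
  calc Nat.card W ≤ p * (p * (p * Nat.card U)) := hc.le.trans_eq (by ring)
    _ ≤ _ := (Nat.mul_le_mul_left p ((Nat.mul_le_mul_left p k7).trans k8)).trans k9

/-- The elements of `W` whose `p`-th power lies in `N`, for `W / N` of class two. -/
def powIn (hp2 : p ≠ 2) (W N : Subgroup G) [N.Normal]
    (h : ∀ x ∈ W, ∀ y ∈ W, ⁅x, y⁆ ^ p ∈ N ∧ ∀ z ∈ W, ⁅⁅x, y⁆, z⁆ ∈ N) : Subgroup G :=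
  subgroupOfFinite {x | x ∈ W ∧ x ^ p ∈ N} ⟨one_mem _, by simp⟩ fun a b ha hb =>
    ⟨mul_mem ha.1 hb.1, (mul_mem_cancel_left (inv_mem (mul_mem ha.2 hb.2))).1
      (mul_pow_mem hp2 ((h b hb.1 a ha.1).2 a ha.1) ((h b hb.1 a ha.1).2 b hb.1)
        (h b hb.1 a ha.1).1)⟩

namespace Loc

variable (h : Loc p E A)
include h

theorem quot [K.Normal] (hK : K ≤ E) (hi : PInv A K) (hn : ¬ PA p A E K) :
    ∃ A' : Subgroup (MulAut (E.map (qm K))), Loc p (E.map (qm K)) A' ∧ Tr (qm K) p A A' :=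
  h.map _ qm_surj (qm_ker.trans_le hK) (by rwa [qm_ker]) (by rwa [qm_ker])

theorem mem_of_comm_mod (hi : PInv A T) (hn : ¬ PA p A E T) (hs : ∀ e ∈ E, ⁅s, e⁆ ∈ T) :
    s ∈ E := by_contra fun h1 => hn (h.pa_of_comm pInv_self hi le_rfl h1 hs)

theorem comm_mem_of_irr (hT : PInv A T) (hC : PInv A C) (hTE : T ≤ E) (hCT : C ≤ T)
    (hc : Nat.card T ≤ p ^ 2 * Nat.card C) (hn : ¬ PA p A T C) (he : e ∈ E) (ht : t ∈ T) :
    ⁅e, t⁆ ∈ C := by
  have := h.normal_of hT hTE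
  have := h.normal_of hC (hCT.trans hTE)
  obtain ⟨x, hx, hx', -, h1⟩ := PG.exists_normal_step_elt h.pg (M := C) (N := T) fun e => hn
    fun β hβ _ x hx => e (mul_mem (inv_mem hx) (hT β hβ x hx))
  rcases h.irr hT hC (hT.inf (pInv_self.commLe hC le_rfl)) hTE (fun c hc => ⟨hCT hc, hTE (hCT hc),
    mem_commLe.2 fun y _ => comm_mem_left y hc⟩) inf_le_left hc hn with h2 | h2
  · exact absurd (h2.le ⟨hx, hTE hx, mem_commLe.2 fun y _ => h1 y⟩) hx'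
  · exact comm_symm (mem_commLe.1 (h2.ge ht).2.2 e he)

theorem prime_le_cent (hi : PInv A T) (hT : T ≤ E) (hn : T ≠ ⊥) :
    p ≤ Nat.card ↥(T ⊓ (E ⊓ commLe E ⊥)) := by
  have := h.normal_of hi hT
  obtain ⟨z, hz, h1, h2⟩ := PG.exists_mem_center_orderOf_eq h.pg T hn
  refine prime_le_card h.pg fun e => hp.out.ne_one ?_
  rw [← h2, mem_bot.1 (e.le ((mem_cent hT).2 ⟨hz, fun e _ => (mem_center_iff.1 h1 e).symm⟩)),
    orderOf_one]

theorem comm_of_pa (hp2 : p ≠ 2) (sr : SectionalPRankLE p 3 G) (hi : PInv A T) (hT : T ≤ E)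
    (hE : EA p T) (h1 : PA p A E T) (he : e ∈ E) (ht : t ∈ T) : e * t = t * e := by
  have hG := h.pg
  by_contra h2
  have hn : ¬ PA p A T ⊥ := fun e => h.not_pa (h1.trans hG e le_rfl pInv_bot)
  have c1 := h.prime_le_cent hi hT fun e => hn fun β hβ _ x hx =>
    e.le (mul_mem (inv_mem hx) (hi β hβ x hx))
  have c2 := hE.card_le hG sr
  have hC := pInv_cent hi
  have hm := fun x => mem_cent (x := x) hT
  have hCT : T ⊓ (E ⊓ commLe E ⊥) ≤ T := inf_le_left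
  generalize T ⊓ (E ⊓ commLe E ⊥) = C at c1 hC hm hCT
  have hne : C ≠ T := fun e => h2 (((hm t).1 (e.ge ht)).2 _ he).symm
  have := h.normal_of hi hT
  have := h.normal_of hC (hCT.trans hT)
  have hc : ⁅e, t⁆ ∈ T := comm_mem_right e ht
  refine h2 (comm_eq_one.1 (eq_one_of_sq (Y := ⊥) hp2 (hE.pow _ hc) ?_))
  rcases card_le_or hG C 1 with c3 | c3
  · have hf := h.fx_of_card hC pInv_bot (hCT.trans hT) bot_le (by simpa using c3)
    have hn' : ¬ PA p A T C := fun e => hn (e.trans hG hf.pa hT pInv_bot)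
    have c4 : Nat.card T ≤ p ^ 2 * Nat.card C :=
      c2.trans ((pow_succ p 2).trans_le (Nat.mul_le_mul_left _ c1))
    have k := fun e he t ht => h.comm_mem_of_irr hi hC hT hCT c4 hn' (e := e) (t := t) he ht
    obtain ⟨β, hβ, h3, -, h4, -⟩ := h.exists_inv hi hC hT hCT (((ea_iff hG).1 hE).trans bot_le)
      k hn' c4
    have h5 := hf.eq hβ (k e he t ht)
    rw [pcomm β he (hT ht), ← mul_inv_cancel_left e (pext E β e), ← inv_mul_cancel_left t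
      (pext E β t), comm_mul_of_comm (hE.comm _ (h1 β hβ h3 e he) _ (inv_mem ht))
      (hE.comm _ (h1 β hβ h3 e he) _ (hCT (h4 t ht))) (((hm _).1 (h4 t ht)).2 e he)] at h5
    rw [mem_bot]
    nth_rw 1 [← h5]
    rw [show ⁅e, t⁻¹⁆ = t⁻¹ * (⁅e, t⁆⁻¹ * t) by group, hE.comm _ (inv_mem hc) _ ht]
    group
  · have c4 : Nat.card T ≤ p * Nat.card C :=
      c2.trans ((pow_succ' p 2).trans_le (Nat.mul_le_mul_left _ c3))
    have hf := h.fx_of_card hi hC hT hCT c4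
    obtain ⟨β, hβ, h3, -, h4, -⟩ := h.exists_inv hC pInv_bot (hCT.trans hT) bot_le
      ((ea_iff hG).1 (hE.mono hCT)) (fun e he x hx => comm_eq_one.2 (((hm x).1 hx).2 e he).symm)
      (fun e => hn (hf.pa.trans hG e hT pInv_bot))
      (by simpa using le_of_mul_le (mul_card_le hG hCT hne) c2)
    have h5 := h4 _ (comm_of_card hG hCT c4 e ht)
    rwa [pcomm β he (hT ht), ← mul_inv_cancel_left e (pext E β e), ← mul_inv_cancel_left t
      (pext E β t), comm_mul_of_comm (hE.comm _ (h1 β hβ h3 e he) _ ht)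
      (hE.comm _ (h1 β hβ h3 e he) _ (hCT (hf β hβ t ht)))
      (((hm _).1 (hf β hβ t ht)).2 e he)] at h5

theorem comm_phi_of_pa (hp2 : p ≠ 2) (sr : SectionalPRankLE p 3 G) (hi : PInv A T) (hT : T ≤ E)
    (h1 : PA p A E T) (he : e ∈ E) (ht : t ∈ T) : ⁅e, t⁆ ∈ Phi T := by
  have := h.normal_of hi hT
  obtain ⟨A', h2, h3⟩ := h.quot (phi_le.trans hT) (hi.phi h.pg hT) fun e =>
    h.not_pa_phi (e.mono le_rfl (phi_mono h.pg hT))
  exact qm_comm.1 (h2.comm_of_pa hp2 (PG.secRank_quotient sr _) (h3.pInv_map hT hi) (map_mono hT)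
    (ea_qm h.pg le_rfl) (h3.pa_map le_rfl h1) (mem_map_of_mem _ he) (mem_map_of_mem _ ht))

omit [Finite G] hp in
theorem not_pa_of_cent (hi : PInv A T) (hT : T ≤ E) (hn : ¬ PA p A E T)
    (hC : ∀ g, (∀ t ∈ T, g * t = t * g) → g ∈ T) : ¬ PA p A T ⊥ := fun e =>
  have := h.normal_of hi hT
  hn ((e.cent hT).mono le_rfl fun x hx => hC x fun t ht => comm_eq_one.1 (mem_commLe.1 hx.2 t ht))

theorem sq_le_cent (sr : SectionalPRankLE p 3 G) (hi : PInv A T) (hE : EA p T) (hT : T ≤ E)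
    (hP : Phi E ≤ T) (hn : ¬ PA p A E T) (hc : Nat.card E = p ^ 2 * Nat.card T)
    (hC : ∀ g, (∀ t ∈ T, g * t = t * g) → g ∈ T) : p ^ 2 ≤ Nat.card ↥(T ⊓ (E ⊓ commLe E ⊥)) := by
  have hG := h.pg
  refine (card_le_or hG _ 1).resolve_left fun c3 => ?_
  have hn0 := h.not_pa_of_cent hi hT hn hC
  have c1 := h.prime_le_cent hi hT fun e => hn0 fun β hβ _ x hx =>
    e.le (mul_mem (inv_mem hx) (hi β hβ x hx))
  have c2 := hE.card_le hG sr
  have hL := pInv_cent hi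
  have hm := fun x => mem_cent (x := x) hT
  have hLT : T ⊓ (E ⊓ commLe E ⊥) ≤ T := inf_le_left
  generalize T ⊓ (E ⊓ commLe E ⊥) = L at c1 c3 hL hm hLT
  rw [pow_one] at c3
  have hf := h.fx_of_card hL pInv_bot (hLT.trans hT) bot_le (by simpa using c3)
  have hn' : ¬ PA p A T L := fun e => hn0 (e.trans hG hf.pa hT pInv_bot)
  have c4 : Nat.card T ≤ p ^ 2 * Nat.card L :=
    c2.trans ((pow_succ p 2).trans_le (Nat.mul_le_mul_left _ c1))
  have k := fun e he t ht => h.comm_mem_of_irr hi hL hT hLT c4 hn' (e := e) (t := t) he ht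
  have c5 : p ^ (2 + 1) ≤ Nat.card T := (card_le_or hG T 2).resolve_left fun e => hn'
    (h.fx_of_card hi hL hT hLT (e.trans ((sq p).trans_le (Nat.mul_le_mul_left p c1)))).pa
  obtain ⟨z, hz, y, hy, -, h3, -⟩ := h.torus pInv_self hi le_rfl hT hP
    (fun e he x hx => hP (comm_mem_phi hG he hx)) hn hc.le
  have hzy := hP (comm_mem_phi hG hz hy)
  have hN : L ⊔ zpowers ⁅z, y⁆ ≤ T := sup_le hLT (zpowers_le.2 hzy)
  have hNn : E ≤ normalizer ((L ⊔ zpowers ⁅z, y⁆ : Subgroup G) : Set G) := fun e he =>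
    mem_normalizer_fintype fun n hn => by
      have : ⁅e, n⁆ * n ∈ L ⊔ zpowers ⁅z, y⁆ := mul_mem (mem_sup_left (k e he n (hN hn))) hn
      rwa [commutatorElement_def e n, inv_mul_cancel_right] at this
  have h4 := comm_mem_two hNn hT hz hy
    (fun e he t ht => mem_sup_left (k e he t ht)) (mem_sup_right (mem_zpowers _)) h3.ge
  have c6 : Nat.card ↥(L ⊔ zpowers ⁅z, y⁆) ≤ p ^ 2 := by
    have := h.normal_of hL (hLT.trans hT)
    refine (Nat.le_of_dvd (Nat.mul_pos Nat.card_pos Nat.card_pos) (card_sup_dvd_of_le_normalizer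
      (le_top.trans_eq (normalizer_eq_top L).symm))).trans ?_
    rw [Nat.card_zpowers, sq]
    exact Nat.mul_le_mul c3 (orderOf_le_of_pow_eq_one hp.out.pos (hE.pow _ hzy))
  have h5 : ⁅E, E⁆ ≤ L := le_sup_left.trans ((h.irr hi hL ((pInv_self.commutator pInv_self le_rfl
    le_rfl).sup hL (commutator_le_self E) (hLT.trans hT)) hT le_sup_right (sup_le
      (((phi_le_iff hG).1 hP).1) hLT) c4 hn').resolve_right fun e => absurd (c5.trans
        ((card_le_card_of_le (e.ge.trans (sup_le h4 le_sup_left))).trans c6))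
        (pow_lt_pow_right₀ hp.out.one_lt (by norm_num)).not_ge).le
  have c7 := card_le_of_secRank hG sr (hLT.trans hT) ((phi_le_iff hG).2 ⟨h5, fun x hx =>
    (hm _).2 ⟨hP (pow_mem_phi hG hx), fun e he => by
      have h6 := h5 (commutator_mem_commutator he hx)
      have h7 : (e * x * e⁻¹) ^ p = x ^ p := by
        rw [show e * x * e⁻¹ = ⁅e, x⁆ * x by group, Commute.mul_pow (((hm _).1 h6).2 x hx),
          hE.pow _ (hLT h6), one_mul]
      rw [conj_pow] at h7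
      rw [← h7]; nth_rw 2 [h7]
      group⟩⟩)
  rw [hc] at c7
  have c8 := (Nat.mul_le_mul_left _ c5).trans (c7.trans (Nat.mul_le_mul_left _ c3))
  rw [← pow_add, ← pow_succ] at c8
  exact absurd c8 (pow_lt_pow_right₀ hp.out.one_lt (by norm_num)).not_ge

omit h in
theorem pa_pow (hp2 : p ≠ 2) (hi : PInv A C) (hC : C ≤ E) (h1 : PA p A T ⊥)
    (h2 : ∀ x ∈ C, x ^ p ∈ T) [N.Normal]
    (h3 : ∀ x ∈ C, ∀ y ∈ C, ⁅x, y⁆ ^ p ∈ N ∧ ∀ z ∈ C, ⁅⁅x, y⁆, z⁆ ∈ N) :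
    PA p A C (powIn hp2 C N h3) := fun β hβ hc x hx => by
  have h4 := hi β hβ x hx
  have h5 := mul_pow_mem hp2 ((h3 _ h4 _ (inv_mem hx)).2 _ (inv_mem hx))
    ((h3 _ h4 _ (inv_mem hx)).2 _ h4) (h3 _ h4 _ (inv_mem hx)).1
  rw [← ppow β (hC hx), h1.eq hβ hc (h2 x hx), inv_pow, inv_mul_cancel, inv_one, one_mul] at h5
  exact ⟨mul_mem (inv_mem hx) h4, h5⟩

theorem eq_bot_of_irr (hp2 : p ≠ 2) (sr : SectionalPRankLE p 3 G) (hi : PInv A T) (hT : T ≤ E)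
    (h1 : PA p A T ⊥) (hP : Phi E ≤ T) (hn : ¬ PA p A E T) (hc : Nat.card E = p ^ 3 * Nat.card T)
    (hirr : ∀ X, T ≤ X → X ≤ E → PInv A X → X = T ∨ X = E) : T = ⊥ := by
  have hG := h.pg
  by_contra hT0
  have := h.normal_of hi hT
  have hC : PInv A (E ⊓ commLe T ⊥) := hi.commLe pInv_bot hT
  have hpa := h1.cent hT
  have hCE : E ⊓ commLe T ⊥ ≤ E := inf_le_left
  have hm : ∀ x, x ∈ E ⊓ commLe T ⊥ ↔ x ∈ E ∧ ∀ t ∈ T, ⁅x, t⁆ = 1 := fun x =>
    and_congr Iff.rfl mem_commLe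
  generalize E ⊓ commLe T ⊥ = C at hC hpa hCE hm
  have := h.normal_of hC hCE
  have k : ∀ X ≤ C, PInv A X → ¬ X ≤ T → X ⊔ T = E := fun X hX hXi hn =>
    (hirr _ le_sup_right (sup_le (hX.trans hCE) hT) (hXi.sup hi (hX.trans hCE) hT)).resolve_left
      fun e => hn (le_sup_left.trans e.le)
  have c1 := card_sup_mul_card_inf_of_normal C T
  rw [k C le_rfl hC fun e => hn (hpa.mono le_rfl e), hc, mul_right_comm] at c1
  replace c1 := (Nat.eq_of_mul_eq_mul_right Nat.card_pos c1).symm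
  obtain ⟨z, hz, h2, h3⟩ := PG.exists_mem_center_orderOf_eq hG T hT0
  obtain ⟨Y, hY, -, hY1, c2⟩ := PG.exists_normal_step_down hG (M := ⊥) (N := C ⊓ T)
    (bot_lt_iff_ne_bot.2 fun e => hp.out.ne_one (by
      rw [← h3, mem_bot.1 (e.le ⟨(hm z).2 ⟨hT hz, fun t _ =>
        comm_eq_one.2 (mem_center_iff.1 h2 t).symm⟩, hz⟩), orderOf_one]))
  have hYi : PInv A Y := h.pInv_of_pa h1 bot_le (hY1.le.trans inf_le_right) hT
  obtain ⟨r, hr, hr', h4⟩ := exists_rad hG hY1.le inf_le_left c2.le (fun v hv x hx =>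
    ⟨comm_mem_right v hx, hP (comm_mem_phi hG (hCE hv) (hCE hx))⟩)
    (fun v hv u hu => by rw [((hm v).1 hv).2 u hu.2]; exact one_mem _) c1
  have h5 : C ≤ C ⊓ (E ⊓ commLe C Y) := le_of_dedekind (hCE.trans (k _ inf_le_left
    (hC.inf (hC.commLe hYi hCE)) fun e => hr' ⟨hr, e ⟨hr, hCE hr, mem_commLe.2 h4⟩⟩).ge) inf_le_left
    fun y hy => ⟨hy.1, hCE hy.1, mem_commLe.2 fun x hx => comm_symm (by
      rw [((hm x).1 hx).2 y hy.2]; exact one_mem _)⟩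
  have h6 : ∀ x ∈ C, ∀ y ∈ C, ⁅x, y⁆ ∈ Y := fun x hx => mem_commLe.1 (h5 hx).2.2
  have h7 : ∀ x ∈ C, ∀ y ∈ C, ⁅x, y⁆ ^ p ∈ Y ∧ ∀ z ∈ C, ⁅⁅x, y⁆, z⁆ ∈ Y := fun x hx y hy =>
    ⟨pow_mem (h6 x hx y hy) p, fun z _ => comm_mem_left z (h6 x hx y hy)⟩
  have h8 : C ≤ powIn hp2 C Y h7 := le_of_dedekind (hCE.trans (k (powIn hp2 C Y h7) (fun _ hx => hx.1)
    (fun a ha x hx => ⟨hC a ha x hx.1, ppow a (hCE hx.1) p ▸ hYi a ha _ hx.2⟩) fun e =>
      hn (hpa.trans hG ((pa_pow hp2 hC hCE h1 (fun x hx => hP (pow_mem_phi hG (hCE hx))) h7).mono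
        le_rfl e) le_rfl hi)).ge) (fun _ hx => hx.1) fun y hy =>
    ⟨hy.1, PG.relIndex_eq_of_card_eq_mul hY1.le c2 ▸ pow_relIndex_mem Y hy⟩
  have c3 := card_le_of_secRank hG sr (hY1.le.trans inf_le_left)
    (phi_le_of hG h6 fun x hx => (h8 hx).2)
  rw [c1, c2] at c3
  have c4 := Nat.le_of_mul_le_mul_left c3 (pow_pos hp.out.pos 3)
  have c5 : 0 < Nat.card Y := Nat.card_pos
  nlinarith [hp.out.one_lt]

end Loc

end Cfsg.Lib.Fus.R3
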