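import Cfsg.Agent.Fus.R3Base
import Cfsg.Agent.Fus.EssCentSq

/-! Planes in invariant sections, and passage to quotients. -/

namespace Cfsg.Lib.Fus.R3

open Subgroup Cfsg.Lib.Solv Cfsg.Lib.Fus.Ess
open scoped commutatorElement

universe u

variable {G : Type u} [Group G] {p : ℕ} {E W X Y Z : Subgroup G} {A : Subgroup (MulAut E)}
  {a β : MulAut E} {g s x y z : G}

theorem exists_theta {E₀ E₁ : Type*} [Group E₀] [Group E₁] (φ : E₀ →* E₁)
    (hφ : Function.Surjective φ) {M : Type*} [Group M] (ρ : M →* MulAut E₀)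
    (hK : ∀ a, ∀ x ∈ φ.ker, ρ a x ∈ φ.ker) :
    ∃ θ : M →* MulAut E₁, ∀ a x, θ a (φ x) = φ (ρ a x) := by
  have hi : AInv ρ.range φ.ker := by rintro _ ⟨a, rfl⟩; exact hK a
  let e := QuotientGroup.quotientKerEquivOfSurjective φ hφ
  refine ⟨((MulAut.congr e).toMonoidHom.comp (quoHom hi)).comp ρ.rangeRestrict, fun a x => ?_⟩
  have h1 : e.symm (φ x) = QuotientGroup.mk x := e.symm_apply_eq.2 rfl
  change e (quoHom hi (ρ.rangeRestrict a) (e.symm (φ x))) = _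
  rw [h1, quoHom_mk]; rfl

/-- The restriction to an invariant subgroup. -/
noncomputable def resA (hX : PInv A X) (hXE : X ≤ E) : A →* MulAut X :=
  (MulAut.congr (subgroupOfEquivOfLe hXE)).toMonoidHom.comp (subHom hX.aInv)

theorem resA_apply (hX : PInv A X) (hXE : X ≤ E) (a : A) (x : X) :
    (resA hX hXE a x : G) = pext E a.1 x := by rw [pext_of_mem _ (hXE x.2)]; rfl

variable [hp : Fact p.Prime] [Finite G]

theorem subgroupOf_normal_of_phi (hG : IsPGroup p G) (hab : Phi X ≤ Y) :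
    (Y.subgroupOf X).Normal := ⟨fun y hy x => by
  have := mul_mem (hab (comm_mem_phi hG x.2 y.2)) (mem_subgroupOf.1 hy)
  rwa [commutatorElement_def, inv_mul_cancel_right] at this⟩

theorem exists_sec (hG : IsPGroup p G) (hX : PInv A X) (hY : PInv A Y) (hXE : X ≤ E)
    (hab : Phi X ≤ Y) : ∃ (V : Type u) (_ : Group V) (_ : Finite V) (π : X →* V)
      (θ : A →* MulAut V), Function.Surjective π ∧ (∀ x y : X, π x = π y ↔ x.1⁻¹ * y ∈ Y) ∧
      (∀ a x, θ a (π x) = π (resA hX hXE a x)) ∧ (∀ u v : V, u * v = v * u) ∧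
      ∀ v : V, v ^ p = 1 := by
  have := subgroupOf_normal_of_phi hG hab
  have hs := QuotientGroup.mk'_surjective (Y.subgroupOf X)
  obtain ⟨θ, hθ⟩ := exists_theta _ hs (resA hX hXE) fun a x hx => by
    rw [QuotientGroup.ker_mk', mem_subgroupOf] at hx ⊢
    rw [resA_apply]; exact hY _ a.2 _ hx
  refine ⟨_, inferInstance, inferInstance, _, θ, hs, fun x y => QuotientGroup.eq, hθ,
    fun u v => ?_, fun v => ?_⟩
  · obtain ⟨u, rfl⟩ := hs u
    obtain ⟨v, rfl⟩ := hs v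
    rw [← commutatorElement_eq_one_iff_mul_comm, ← map_commutatorElement]
    exact (QuotientGroup.eq_one_iff _).2 (hab (comm_mem_phi hG u.2 v.2))
  · obtain ⟨v, rfl⟩ := hs v
    rw [← map_pow]
    exact (QuotientGroup.eq_one_iff _).2 (hab (pow_mem_phi hG v.2))

theorem mem_normalizer_of_phi (hG : IsPGroup p G) (hab : Phi X ≤ Y) (hYX : Y ≤ X) (hx : x ∈ X) :
    x ∈ normalizer (Y : Set G) :=
  PG.mem_normalizer_of_commutator_mem hYX hx fun _ hs => hab (comm_mem_phi hG hx hs)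

namespace Loc

variable (h : Loc p E A)
include h

/-- A transvection on an invariant section generates an `SL₂` acting on a plane. -/
theorem plane (hX : PInv A X) (hY : PInv A Y) (hXE : X ≤ E) (hYX : Y ≤ X) (hab : Phi X ≤ Y)
    (hE : ∀ e ∈ E, ∀ x ∈ X, x⁻¹ * (e * x * e⁻¹) ∈ Y) (hn : ¬ PA p A X Y) (hs : s ∉ E)
    (hz : z ∈ X) (h1 : ∀ x ∈ X, x⁻¹ * (s * x * s⁻¹) ∈ Y ⊔ zpowers z)
    (h2 : z⁻¹ * (s * z * s⁻¹) ∈ Y) : ∃ y ∈ X, ∃ W, Y ≤ W ∧ W ≤ X ∧ Fx A W Y ∧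
      W ⊔ zpowers z ⊔ zpowers y = X ∧ Nat.card X ≤ p ^ 2 * Nat.card W ∧
      PInv A (Y ⊔ zpowers z ⊔ zpowers y) ∧ ∀ a b : ℕ, a * b ≡ 1 [MOD p] → ∃ β ∈ A,
        (orderOf β).Coprime p ∧ β ∈ normalizer ((cA h.normal).range : Set (MulAut E)) ∧
        (z ^ a)⁻¹ * pext E β z ∈ Y ∧ (y ^ b)⁻¹ * pext E β y ∈ Y := by
  obtain ⟨V, _, _, π, θ, hπ, hk, hθ, hc, he⟩ := exists_sec h.pg hX hY hXE hab
  have hV : IsPGroup p V := fun v => ⟨1, by rw [pow_one, he]⟩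
  have hk1 : ∀ x : X, π x = 1 ↔ x.1 ∈ Y := fun x => by
    rw [eq_comm, ← map_one π, hk]; simp
  let c : G →* A := (cA h.normal).codRestrict A h.cA_mem
  have hcr : ∀ g (x : X), (resA hX hXE (c g) x : G) = g * x * g⁻¹ := fun g x => by
    rw [resA_apply]; exact pext_cA _ _ (hXE x.2)
  have hθ1 : ∀ a : A, θ a = 1 ↔ ∀ x ∈ X, x⁻¹ * pext E a.1 x ∈ Y := fun a =>
    ⟨fun e x hx => by
      have := hθ a ⟨x, hx⟩
      rwa [e, MulAut.one_apply, hk, resA_apply] at this, fun e => MulEquiv.ext fun v => by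
      obtain ⟨x, rfl⟩ := hπ v
      rw [hθ, MulAut.one_apply, eq_comm, hk, resA_apply]; exact e x x.2⟩
  have hR : Rad p θ.range (θ (c s)) := by
    refine ⟨hV, ⟨_, rfl⟩, (h.pg s).imp fun k hk => by rw [← map_pow, ← map_pow, hk, map_one, map_one],
      fun e => hn (h.pa_of_ptr_out hXE hs ?_)⟩
    refine (PT.comap θ (h.cA_mem s) (pt_of_mem_pCoreIn e)).mono fun β hβ _ e => ?_
    exact triv_subgroupOf_iff.2 fun x _ hx => (hθ1 _).1 (e hβ) x hx
  have hpre : ∀ (u : X) (K : Subgroup G), Y ≤ K → K ≤ X → ∀ x : X, x.1 ∈ K ⊔ zpowers u.1 →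
      π x ∈ (K.subgroupOf X).map π ⊔ zpowers (π u) := fun u K hYK hKX x hx => by
    obtain ⟨k, hk, n, e⟩ := (PG.mem_sup_zpowers_iff
      (mem_normalizer_of_phi h.pg (hab.trans hYK) hKX u.2)).1 hx
    rw [show x = ⟨k, hKX hk⟩ * u ^ n from Subtype.ext e, map_mul, map_zpow]
    exact mul_mem (mem_sup_left ⟨_, hk, rfl⟩) (mem_sup_right (zpow_mem_zpowers _ n))
  have hYb : (Y.subgroupOf X).map π = ⊥ := (Subgroup.map_eq_bot_iff _).2 fun x hx => (hk1 x).2 hx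
  have hT : Tv p (θ (c s)) (π ⟨z, hz⟩) := ⟨he _, by rw [hθ, eq_comm, hk, hcr]; exact h2,
    fun v _ => by
      obtain ⟨x, rfl⟩ := hπ v
      rw [hθ, ← map_inv, ← map_mul]
      have := hpre ⟨z, hz⟩ Y le_rfl hYX (x⁻¹ * resA hX hXE (c s) x) (by
        rw [coe_mul, hcr]; exact h1 x x.2)
      rwa [hYb, bot_sup_eq] at this⟩
  obtain ⟨t', s', y', e, hs', hP⟩ := hR.exists_plane hc hT
  obtain ⟨y, rfl⟩ := hπ y'
  have h3 : (((cA h.normal).range).subgroupOf A).map θ = zpowers t' := by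
    rw [e]
    refine le_antisymm ?_ (zpowers_le.2 ⟨c s, ⟨s, rfl⟩, rfl⟩)
    rintro _ ⟨⟨_, _⟩, ⟨g, rfl⟩, rfl⟩
    refine h.top_le (X := ((zpowers (θ (c s))).comap θ).comap c) (fun e he => ?_) hs
      (mem_zpowers _) (mem_top g)
    rw [mem_comap, mem_comap, (hθ1 (c e)).2 fun x hx => by
      rw [show (c e).1 = cA h.normal e from rfl, pext_cA _ _ (hXE hx)]; exact hE e he x hx]
    exact one_mem _
  have h4 : SylIn p (zpowers t') θ.range := by
    have := h.syl.subgroupOf_top.map θ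
    rwa [h3, ← MonoidHom.range_eq_map] at this
  let up : Subgroup V → Subgroup G := fun K => (K.comap π).map X.subtype
  have hup : ∀ K (x : X), x.1 ∈ up K ↔ π x ∈ K := fun K x =>
    ⟨fun ⟨_, h1, h2⟩ => Subtype.ext h2 ▸ h1, fun h1 => ⟨x, h1, rfl⟩⟩
  have hupX : ∀ K, up K ≤ X := fun K => map_subtype_le _
  have hupY : ∀ K, Y ≤ up K := fun K x hx =>
    (hup K ⟨x, hYX hx⟩).2 (((hk1 ⟨x, hYX hx⟩).2 hx).symm ▸ one_mem _)
  have hupI : ∀ K, AInv θ.range K → PInv A (up K) := fun K hK a ha x hx => by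
    have := hK _ ⟨⟨a, ha⟩, rfl⟩ _ ((hup K ⟨x, hupX K hx⟩).1 hx)
    rwa [hθ, ← hup, resA_apply] at this
  have hle : ∀ K L : Subgroup G, Y ≤ L → L ≤ X → K ≤ X →
      (∀ x : X, x.1 ∈ K → π x ∈ (L.subgroupOf X).map π) → K ≤ L := fun K L h1 h2 h3 h4 x hx => by
    obtain ⟨u, hu, e⟩ := h4 ⟨x, h3 hx⟩ hx
    simpa using mul_mem (mem_subgroupOf.1 hu) (h1 ((hk _ _).1 e))
  let W := up (fixS t' ⊓ fixS s')
  have hW := hupI _ (hP.aInv_fix hV hs' h4)
  have hzX : zpowers z ≤ X := zpowers_le.2 hz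
  have hyX : zpowers y.1 ≤ X := zpowers_le.2 y.2
  have hgen : ∀ K : Subgroup G, zpowers (π ⟨z, hz⟩) ⊔ zpowers (π y) ≤
      ((K ⊔ zpowers z ⊔ zpowers y.1).subgroupOf X).map π := fun K =>
    sup_le (zpowers_le.2 ⟨_, mem_sup_left (mem_sup_right (mem_zpowers _)), rfl⟩)
      (zpowers_le.2 ⟨_, mem_sup_right (mem_zpowers _), rfl⟩)
  have hXW : W ⊔ zpowers z ⊔ zpowers y.1 = X := by
    refine le_antisymm (sup_le (sup_le (hupX _) hzX) hyX) (hle _ _
      ((hupY _).trans (le_sup_left.trans le_sup_left)) (sup_le (sup_le (hupX _) hzX) hyX) le_rfl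
      fun x _ => ?_)
    obtain ⟨u, hu, w, hw, e⟩ := hP.exists_decomp (π x)
    obtain ⟨w, rfl⟩ := hπ w
    exact e ▸ mul_mem (hgen W hu) ⟨w, mem_sup_left (mem_sup_left ((hup _ w).2 hw)), rfl⟩
  refine ⟨y, y.2, W, hupY _, hupX _, h.fx_of_comm hW hY ((hupX _).trans hXE) fun g x hx => ?_, hXW,
    ?_, ?_, fun a b hab => ?_⟩
  · have h5 := apply_of_mem_zpowers_aut (h3.le ⟨c g, ⟨g, rfl⟩, rfl⟩)
      ((hup _ ⟨x, hupX _ hx⟩).1 hx).1
    rwa [hθ, eq_comm, hk, hcr] at h5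
  · have h5 := card_sup_zpowers_le (mem_normalizer_of_phi h.pg (hab.trans (hupY _)) (hupX _) hz)
      (hupY (fixS t' ⊓ fixS s') (hab (pow_mem_phi h.pg hz)))
    have h6 := card_sup_zpowers_le (mem_normalizer_of_phi h.pg (hab.trans ((hupY _).trans
      (le_sup_left (b := zpowers z)))) (sup_le (hupX (fixS t' ⊓ fixS s')) hzX) y.2)
      (mem_sup_left (hupY _ (hab (pow_mem_phi h.pg y.2))))
    rw [hXW] at h6
    exact h6.trans ((Nat.mul_le_mul_left p h5).trans_eq (by ring))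
  · have h5 : Y ⊔ zpowers z ⊔ zpowers y.1 = up (zpowers (π ⟨z, hz⟩) ⊔ zpowers (π y)) :=
      le_antisymm (sup_le (sup_le (hupY _) (zpowers_le.2 ((hup _ ⟨z, hz⟩).2
        (mem_sup_left (mem_zpowers _))))) (zpowers_le.2 ((hup _ y).2
        (mem_sup_right (mem_zpowers _))))) (hle _ _ (le_sup_left.trans le_sup_left)
        (sup_le (sup_le hYX hzX) hyX) (hupX _) fun x hx => hgen Y ((hup _ x).1 hx))
    exact h5 ▸ hupI _ (hP.aInv_plane hV hs' h4)
  · obtain ⟨δ, k3, k4, k5, k6, k7⟩ := hP.exists_diag hab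
    have hp1 : ∀ c d : ℕ, c * d ≡ 1 [MOD p] → c ^ (p - 1) ≡ 1 [MOD p] := fun c d hcd =>
      Nat.totient_prime hp.out ▸ Nat.ModEq.pow_totient (Nat.coprime_of_mul_modEq_one d hcd)
    have k8 : δ ^ (p - 1) = 1 := hP.ext (by
        rw [Plane.pow_apply_diag k4, pow_eq_pow_of_modEq' (he _) (hp1 a b hab), pow_one]; rfl) (by
        rw [Plane.pow_apply_diag k5, pow_eq_pow_of_modEq' (he _) (hp1 b a (mul_comm a b ▸ hab)),
          pow_one]; rfl) fun w hw => apply_of_mem_zpowers_aut (pow_mem (mem_zpowers δ) _) (k6 w hw)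
    obtain ⟨d, k9, k10, rfl⟩ := SylIn.exists_lift h.syl.subgroupOf_top θ (δ := δ)
      ((closure_le _).2 (Set.pair_subset (h4.le (mem_zpowers _)) hs') k3)
      (h3 ▸ PG.mem_normalizer_zpowers (k7 ▸ pow_mem (mem_zpowers t') _))
      (Nat.Coprime.coprime_dvd_left (orderOf_dvd_of_pow_eq_one k8)
        ((Nat.coprime_self_sub_left hp.out.pos).2 (by simp)))
    refine ⟨d, d.2, orderOf_coe d ▸ k10, mem_normalizer_of_conj_mem fun x hx =>
      (k9 ⟨x, h.syl.le hx⟩).1 hx, ?_, ?_⟩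
    · rwa [hθ, ← map_pow, eq_comm, hk, resA_apply] at k4
    · rwa [hθ, ← map_pow, eq_comm, hk, resA_apply] at k5

end Loc

end Cfsg.Lib.Fus.R3
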