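import Cfsg.Agent.Fus.R3Two

/-! Two local data whose tori extend to the whole group. -/

namespace Cfsg.Lib.Fus.R3

open Subgroup Cfsg.Lib.Solv Cfsg.Lib.Fus.Ess
open scoped commutatorElement

variable {G : Type*} [Group G] {p : ℕ} {E E₁ E₂ K N T X Y Z : Subgroup G} {A : Subgroup (MulAut E)}
  {A₁ : Subgroup (MulAut E₁)} {A₂ : Subgroup (MulAut E₂)} {Γ : Subgroup (MulAut G)}
  {β : MulAut E} {γ δ : MulAut G} {g s x y z : G}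

/-- The elements on which two automorphisms agree modulo `N`. -/
def agr (γ δ : MulAut G) (N : Subgroup G) [hN : N.Normal] : Subgroup G where
  carrier := {x | (γ x)⁻¹ * δ x ∈ N}
  one_mem' := by simp
  mul_mem' := fun {a b} ha hb => by
    have := mul_mem (hN.conj_mem' _ ha (γ b)) hb
    rwa [show (γ b)⁻¹ * ((γ a)⁻¹ * δ a) * γ b * ((γ b)⁻¹ * δ b) = (γ a * γ b)⁻¹ * (δ a * δ b) by
      group, ← map_mul, ← map_mul] at this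
  inv_mem' := fun {a} ha => by
    have := hN.conj_mem _ (inv_mem ha) (γ a)
    rwa [show γ a * ((γ a)⁻¹ * δ a)⁻¹ * (γ a)⁻¹ = (γ a)⁻¹⁻¹ * (δ a)⁻¹ by group, ← map_inv γ a,
      ← map_inv δ a] at this

theorem mem_agr [N.Normal] : x ∈ agr γ δ N ↔ (γ x)⁻¹ * δ x ∈ N := Iff.rfl

/-- The `p'`-elements of `A` normalizing the action of `G` extend to elements of `Γ`. -/
def Ext (p : ℕ) (Γ : Subgroup (MulAut G)) (A : Subgroup (MulAut E)) (hn : E.Normal) : Prop :=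
  ∀ β ∈ A, (orderOf β).Coprime p → β ∈ normalizer ((cA hn).range : Set (MulAut E)) →
    ∃ γ ∈ Γ, ∀ x ∈ E, γ x = pext E β x

variable [Finite G] [hp : Fact p.Prime]

theorem agree_of_unip (hG : IsPGroup p G) (hΓ : SylIn p (Inn G) Γ) (h1 : γ ∈ Γ) (h2 : δ ∈ Γ)
    [X.Normal] [Y.Normal] [Z.Normal] (hYX : Y ≤ X) (hZY : Z ≤ Y) (hi : ∀ g : G, ∀ x ∈ X, ⁅g, x⁆ ∈ Z)
    (a2 : ∀ x ∈ Y, γ x ∈ Y) (a3 : ∀ x ∈ Z, γ x ∈ Z)
    (b3 : ∀ x ∈ Z, δ x ∈ Z) (c1 : ∀ x ∈ X, (γ x)⁻¹ * δ x ∈ Y) (c2 : ∀ x ∈ Y, (γ x)⁻¹ * δ x ∈ Z)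
    (hx : x ∈ X) : (γ x)⁻¹ * δ x ∈ Z := by
  have k : ∀ X : Subgroup G, (∀ x ∈ X, γ x ∈ X) → ∀ x ∈ X, γ⁻¹ x ∈ X := fun X h =>
    (subgroupOfFinite {a : MulAut G | ∀ x ∈ X, a x ∈ X} (fun _ hx => hx)
      fun _ _ ha hb x hx => ha _ (hb x hx)).inv_mem h
  have k' : ∀ (Y : Subgroup G) x, (∀ x ∈ Y, γ x ∈ Y) → (γ x)⁻¹ * δ x ∈ Y →
      x⁻¹ * (γ⁻¹ * δ) x ∈ Y := fun Y x a c => by simpa using k Y a _ c
  let B : Subgroup (MulAut G) := subgroupOfFinite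
    {a | a ∈ Γ ∧ (∀ z ∈ Z, a z ∈ Z) ∧ Triv a X Y ∧ Triv a Y Z}
    ⟨one_mem _, fun _ h => h, triv_one _ _, triv_one _ _⟩ fun a b ha hb => ⟨mul_mem ha.1 hb.1,
      fun z hz => ha.2.1 _ (hb.2.1 z hz), ha.2.2.1.mul hb.2.2.1 fun _ hx => hb.2.2.1.maps hYX hx,
      ha.2.2.2.mul hb.2.2.2 fun _ hx => hb.2.2.2.maps hZY hx⟩
  have hB : AInv B X := fun a ha x hx => ha.2.2.1.maps hYX hx
  have hI : ∀ g : G, Triv (MulAut.conj g) X Z := fun g x hx => conj_mem_of_comm (hi g x hx)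
  have hS : SylIn p (Inn G) B := hΓ.mono (by
    rintro _ ⟨g, rfl⟩
    exact ⟨hΓ.le ⟨g, rfl⟩, fun z hz => Normal.conj_mem ‹_› z hz g, (hI g).mono le_rfl hZY,
      (hI g).mono hYX le_rfl⟩) fun _ ha => ha.1
  obtain ⟨b, hb, _, ⟨g, rfl⟩, e⟩ := hS.exists_resIn_mul (a := γ⁻¹ * δ) ⟨mul_mem (inv_mem h1) h2,
    fun z hz => k Z a3 _ (b3 z hz), fun x hx => k' Y x a2 (c1 x hx), fun x hx => k' Z x a3 (c2 x hx)⟩
  have h3 : b * MulAut.conj g ∈ trivSub hB Z := mul_mem ((resIn_le_iff.2 fun a ha hc =>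
    ⟨ha, ha.2.2.1.trans hG hc ha.2.2.2 ha.2.1⟩ : _ ≤ trivSub hB Z) hb) ⟨hS.le ⟨g, rfl⟩, hI g⟩
  rw [e] at h3
  simpa using a3 _ (h3.2 x hx)

theorem Loc.triv_of_cen (h : Loc p E A) (hc : Cen β) (hγ : ∀ x ∈ E, γ x = pext E β x) (g : G) :
    g⁻¹ * γ g ∈ E := by
  obtain ⟨e, he, h1⟩ := hc g
  have : (g * e)⁻¹ * γ g ∈ E := h.mem_of_comm fun x hx => by
    have h2 := h1 _ (pmem β⁻¹ hx)
    rw [← hγ _ (h.normal.conj_mem _ (pmem β⁻¹ hx) g), map_mul, map_mul, map_inv γ g,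
      hγ _ (pmem β⁻¹ hx), p_apply_inv] at h2
    rw [mul_assoc, show γ g * x = γ g * x * (γ g)⁻¹ * γ g by group, h2]
    group
  simpa [mul_assoc] using mul_mem he this

omit [Finite G] in
theorem pred_mul_pred : (p - 1) * (p - 1) ≡ 1 [MOD p] := by
  obtain ⟨k, hk⟩ : ∃ k, p = k + 2 := ⟨p - 2, by have := hp.out.two_le; omega⟩
  rw [hk]
  exact (Nat.modEq_iff_dvd' (by simp)).2 ⟨k, by
    rw [show k + 2 - 1 = k + 1 by omega, show (k + 1) * (k + 1) = (k + 2) * k + 1 by ring]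
    simp⟩ |>.symm

omit [Finite G] in
theorem mul_mem_of_pred [Y.Normal] (h1 : z ^ p ∈ Y) (h2 : (z ^ (p - 1))⁻¹ * x ∈ Y) : z * x ∈ Y := by
  have := mul_mem h1 h2
  rwa [← Nat.sub_add_cancel hp.out.one_le, pow_succ', Nat.add_sub_cancel, mul_assoc,
    mul_inv_cancel_left] at this

namespace Two

variable (h : Two p A₁ A₂)
include h

theorem comm_inf (p1 : Phi E₁ ≤ T) (p2 : Phi E₂ ≤ T) [T.Normal] (g : G) (hx : x ∈ E₁ ⊓ E₂) :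
    ⁅g, x⁆ ∈ T := cen_symm (h.top_le (X := cen x T) (fun _ he => p1 (comm_mem_phi h.l1.pg hx.1 he))
  (fun _ he => p2 (comm_mem_phi h.l1.pg hx.2 he)) (mem_top g))

theorem inf_sup (hs : s ∈ E₂) (hs' : s ∉ E₁) : E₂ ≤ E₁ ⊓ E₂ ⊔ zpowers s :=
  le_sup_zpowers h.l1.pg inf_le_right hs (fun e => hs' e.1) (h.card_eq ▸ h.card_inf.le)

theorem plane_cube (hΓ : Ext p Γ A₁ h.l1.normal) (c : Core A₁ A₂ T) (p1 : Phi E₁ ≤ T)
    (hc : Nat.card E₁ = p ^ 3 * Nat.card T) (hz : z ∈ E₁ ⊓ E₂) [T.Normal]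
    (h1 : ∀ g : G, ⁅g, z⁆ ∈ T) [(T ⊔ zpowers z).Normal] (h2 : ∀ g x : G, ⁅g, x⁆ ∈ T ⊔ zpowers z) :
    ∃ W, T < W ∧ W ≤ E₁ ⊓ E₂ ∧ Fx A₁ W T ∧ E₁ ⊓ E₂ ≤ W ⊔ zpowers z ∧ ∃ γ ∈ Γ,
      (∀ x ∈ T, γ x ∈ T) ∧ z * γ z ∈ T ∧ ∀ x ∈ E₁ ⊓ E₂, x⁻¹ * γ x ∈ T ↔ x ∈ W := by
  have hG := h.l1.pg
  obtain ⟨s, hs⟩ := h.l1.exists_not_mem
  obtain ⟨y, -, W, h3, h4, h5, -, h6, -, h7⟩ := h.l1.plane pInv_self c.i1 le_rfl c.le1 p1
    (fun e he x hx => conj_mem_of_comm (p1 (comm_mem_phi hG he hx))) (h.not_pa c) hs hz.1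
    (fun x _ => conj_mem_of_comm (h2 s x)) (conj_mem_of_comm (h1 s))
  obtain ⟨β, hβ, b1, b2, b3, -⟩ := h7 _ _ pred_mul_pred
  obtain ⟨γ, hγ, b4⟩ := hΓ β hβ b1 b2
  have hzp := p1 (pow_mem_phi hG hz.1)
  replace b3 := mul_mem_of_pred hzp b3
  rw [← b4 z hz.1] at b3
  have hz' : z⁻¹ * γ z ∉ T := fun e => h.not_pa c (h.l1.pa_of_comm pInv_self c.i1 le_rfl hs
    fun x _ => sup_le le_rfl (zpowers_le.2 (eq_one_of_sq h.p2 hzp (by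
      simpa [mul_assoc] using mul_mem b3 (inv_mem e)))) (h2 s x))
  have hW : ∀ x ∈ W, x⁻¹ * γ x ∈ T := fun x hx => b4 x (h4 hx) ▸ h5 β hβ x hx
  have hWD : W ≤ E₁ ⊓ E₂ := fun w hw => ⟨h4 hw, h.l2.mem_of_comm_mod c.i2 (h.symm.not_pa c.symm)
    fun e _ => comm_symm (comm_of_conj_mem
      (pext_cA h.l1.normal e (h4 hw) ▸ h5 _ (h.l1.cA_mem e) w hw))⟩
  have c1 : p * Nat.card T ≤ Nat.card W := Nat.le_of_mul_le_mul_left
    ((show p ^ 2 * (p * Nat.card T) = _ by rw [hc]; ring).trans_le h6) (pow_pos hp.out.pos 2)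
  have c2 : Nat.card ↥(E₁ ⊓ E₂) ≤ p * Nat.card W := Nat.le_of_mul_le_mul_left
    (h.card_inf.ge.trans (h6.trans_eq (by ring))) hp.out.pos
  refine ⟨W, lt_of_le_of_ne h3 fun e => ?_, hWD, h5, le_sup_zpowers hG hWD hz
    (fun e => hz' (hW z e)) c2, γ, hγ, fun x hx => b4 x (c.le1 hx) ▸ c.i1 β hβ x hx, b3,
    fun x hx => ⟨fun e => by_contra fun e' => hz' ((le_sup_zpowers hG hWD hx e' c2).trans
      (sup_le (c := agr 1 γ T) hW (zpowers_le.2 e)) hz), hW x⟩⟩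
  have c3 : 0 < Nat.card T := Nat.card_pos
  rw [← e] at c1
  nlinarith [hp.out.one_lt]

theorem not_cube (hΓ : SylIn p (Inn G) Γ) (e1 : Ext p Γ A₁ h.l1.normal)
    (e2 : Ext p Γ A₂ h.l2.normal) (c : Core A₁ A₂ T) (p1 : Phi E₁ ≤ T) (p2 : Phi E₂ ≤ T) :
    Nat.card E₁ ≠ p ^ 3 * Nat.card T := fun hc => by
  have hG := h.l1.pg
  have := h.l1.normal_of c.i1 c.le1
  have := h.l1.normal
  have := h.l2.normal
  obtain ⟨s, hs, hs'⟩ := SetLike.not_le_iff_exists.1 h.symm.not_le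
  obtain ⟨t, ht, ht'⟩ := SetLike.not_le_iff_exists.1 h.not_le
  have hz : ⁅s, t⁆ ∈ E₁ ⊓ E₂ := ⟨comm_mem_right s ht, comm_mem_left t hs⟩
  have h1 := fun g => h.comm_inf p1 p2 g hz
  have hL : T ⊔ zpowers ⁅s, t⁆ ≤ E₁ ⊓ E₂ := sup_le (le_inf c.le1 c.le2) (zpowers_le.2 hz)
  have : (T ⊔ zpowers ⁅s, t⁆).Normal := ⟨fun n hn g => by
    have : ⁅g, n⁆ * n ∈ T ⊔ zpowers ⁅s, t⁆ :=
      mul_mem (mem_sup_left (h.comm_inf p1 p2 g (hL hn))) hn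
    rwa [commutatorElement_def g n, inv_mul_cancel_right] at this⟩
  have h2 : ∀ g x : G, ⁅g, x⁆ ∈ T ⊔ zpowers ⁅s, t⁆ := fun g x => comm_mem_two (E := ⊤)
    (normalizer_eq_top _).ge le_top trivial trivial
    (fun e _ d hd => mem_sup_left (h.comm_inf p1 p2 e hd)) (mem_sup_right (mem_zpowers _))
    (h.l2.top_le ((h.inf_sup hs hs').trans le_sup_left) ht' (mem_sup_right (mem_zpowers _)))
    (commutator_mem_commutator trivial trivial)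
  obtain ⟨W, a1, a2, a3, a4, γ, a5, a6, a7, a8⟩ := h.plane_cube e1 c p1 hc hz h1 h2
  obtain ⟨V, b1, b2, b3, b4, δ, b5, b6, b7, b8⟩ := h.symm.plane_cube e2 c.symm p2 (h.card_eq ▸ hc)
    ⟨hz.2, hz.1⟩ h1 h2
  rw [inf_comm E₂] at b2 b4 b8
  generalize ⁅s, t⁆ = z at *
  have k : ∀ {γ : MulAut G} {W}, W ≤ E₁ ⊓ E₂ → E₁ ⊓ E₂ ≤ W ⊔ zpowers z → z * γ z ∈ T →
      (∀ x ∈ E₁ ⊓ E₂, x⁻¹ * γ x ∈ T ↔ x ∈ W) → ∀ x ∈ E₁ ⊓ E₂, x⁻¹ * γ x ∈ T ⊔ zpowers z :=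
    fun {γ W} a2 a4 a7 a8 => a4.trans (sup_le (c := agr 1 γ (T ⊔ zpowers z))
      (fun x hx => mem_sup_left ((a8 x (a2 hx)).2 hx)) (zpowers_le.2 (by
        have := mul_mem (inv_mem (pow_mem (mem_sup_right (mem_zpowers z) : z ∈ T ⊔ zpowers z) 2))
          (mem_sup_left a7)
        simpa [sq, mul_assoc, mem_agr] using this)))
  have k1 := k a2 a4 a7 a8
  have k2 := k b2 b4 b7 b8
  have h3 : W ≤ V := fun w hw => (b8 w (a2 hw)).1 (by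
    have := agree_of_unip hG hΓ a5 b5 hL le_sup_left (fun g x => h.comm_inf p1 p2 g)
      (fun x hx => by simpa using mul_mem hx (k1 x (hL hx))) a6 b6
      (fun x hx => by simpa [mul_assoc] using mul_mem (inv_mem (k1 x hx)) (k2 x hx))
      (sup_le (c := agr γ δ T) (fun x hx => mul_mem (inv_mem (a6 x hx)) (b6 x hx))
        (zpowers_le.2 (by simpa [mul_assoc, mem_agr] using mul_mem (inv_mem a7) b7))) (a2 hw)
    simpa [mul_assoc] using mul_mem ((a8 w (a2 hw)).2 hw) this)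
  exact a1.not_ge (c.max W a2 (a3.pInv a1.le le_rfl) (b3.pInv a1.le h3))

end Two

/-- The centralizer of `T` supplements `T` in `E`. -/
theorem Loc.cent_sup (h : Loc p E A) (hi : PInv A T) (hT : T ≤ E) (hn : ¬ PA p A E T)
    (hc : Nat.card E = p ^ 2 * Nat.card T) (h1 : PA p A T ⊥) (hX : X ≤ E ⊓ commLe T ⊥)
    (hXi : PInv A X) (h2 : PA p A (E ⊓ commLe T ⊥) X) : X ⊔ T = E :=
  have := h.normal_of hi hT
  (h.irr pInv_self hi (hXi.sup hi (hX.trans inf_le_left) hT) le_rfl le_sup_right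
    (sup_le (hX.trans inf_le_left) hT) hc.le hn).resolve_left fun e => hn ((h1.cent hT).trans h.pg
      (h2.mono le_rfl (le_sup_left.trans e.le)) le_rfl hi)

theorem Loc.cent_sup' (h : Loc p E A) (hi : PInv A T) (hT : T ≤ E) (hn : ¬ PA p A E T)
    (hc : Nat.card E = p ^ 2 * Nat.card T) (h1 : PA p A T ⊥) : E ⊓ commLe T ⊥ ⊔ T = E :=
  have hC := hi.commLe pInv_bot hT
  h.cent_sup hi hT hn hc h1 le_rfl hC fun β hβ _ x hx => mul_mem (inv_mem hx) (hC β hβ x hx)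

theorem Loc.exists_ext_inv (h : Loc p E A) (e : Ext p Γ A h.normal) (hi : PInv A T) (hT : T ≤ E)
    (hP : Phi E ≤ T) (hn : ¬ PA p A E T) (hc : Nat.card E = p ^ 2 * Nat.card T)
    (h1 : PA p A T ⊥) : ∃ γ ∈ Γ, (∀ t ∈ T, γ t = t) ∧ (∀ x ∈ E, x * γ x ∈ T) ∧
      ∀ g, g⁻¹ * γ g ∈ E := by
  obtain ⟨β, hβ, a1, a2, a3, a4⟩ := h.exists_inv pInv_self hi le_rfl hT hP
    (fun e he x hx => hP (comm_mem_phi h.pg he hx)) hn hc.le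
  obtain ⟨γ, hγ, a5⟩ := e β hβ a1 a2
  exact ⟨γ, hγ, fun t ht => (a5 t (hT ht)).trans (h1.eq hβ a1 ht), fun x hx => a5 x hx ▸ a3 x hx,
    h.triv_of_cen a4 a5⟩

omit [Finite G] hp in
theorem comm_mul_inv {d : G} [T.Normal] (hγ : ∀ t ∈ T, γ t = t) (hd : d * γ d ∈ center G)
    (h1 : ⁅d, g⁆ ∈ T) (h2 : ⁅d, g⁆ ∈ center G) : d * (g * γ g) = g * γ g * d := by
  have h3 := hγ _ h1
  rw [map_commutatorElement, ← inv_mul_cancel_left d (γ d), ← mul_one (γ g), comm_mul_of_comm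
    (mem_center_iff.1 hd _).symm (by simp) (by simp)] at h3
  have h4 : d * g = ⁅d, g⁆ * g * d := by group
  have h5 : γ g * d = d * (⁅d⁻¹, γ g⁆ * γ g) := by group
  rw [← mul_assoc, h4, mul_assoc g, h5, h3, ← mem_center_iff.1 h2 g, ← mul_assoc d,
    mem_center_iff.1 h2 d]
  group

namespace Two

variable (h : Two p A₁ A₂) (h1 : T ≤ E₁) (h2 : T ≤ E₂) (i1 : PInv A₁ T) (i2 : PInv A₂ T)
  (n1 : ¬ PA p A₁ E₁ T) (n2 : ¬ PA p A₂ E₂ T) (p1 : Phi E₁ ≤ T) (p2 : Phi E₂ ≤ T)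
  (hc : Nat.card E₁ = p ^ 2 * Nat.card T)
include h h1 h2 i1 i2 n1 n2 p1 p2 hc

theorem top_le_cent : ⊤ ≤ commLe T ⊥ ⊔ T :=
  h.top_le ((h.l1.cent_sup' i1 h1 n1 hc (h.pa_of_sq h1 h2 i1 i2 n1 n2 p1 p2 hc)).ge.trans
    (sup_le_sup_right inf_le_right _)) ((h.l2.cent_sup' i2 h2 n2 (h.card_eq ▸ hc)
      (h.symm.pa_of_sq h2 h1 i2 i1 n2 n1 p2 p1 (h.card_eq ▸ hc))).ge.trans
      (sup_le_sup_right inf_le_right _))

theorem cent_inf_le : commLe T ⊥ ⊓ T ≤ center G := fun y hy => mem_center_iff.2 fun g =>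
  (comm_eq_one.1 ((h.top_le_cent h1 h2 i1 i2 n1 n2 p1 p2 hc).trans (sup_le (c := cen y ⊥)
    (fun _ hc => cen_symm (mem_commLe.1 hc y hy.2)) fun t ht => mem_commLe.1 hy.1 t ht)
    (mem_top g))).symm

theorem exists_central (hΓ : SylIn p (Inn G) Γ) (e1 : Ext p Γ A₁ h.l1.normal)
    (e2 : Ext p Γ A₂ h.l2.normal) : ∃ d ∈ E₁ ⊓ E₂, d ∉ T ∧ d ∈ center G := by
  have hG := h.l1.pg
  have := h.l1.normal_of i1 h1
  have := h.l1.normal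
  have := h.l2.normal
  have q1 := h.pa_of_sq h1 h2 i1 i2 n1 n2 p1 p2 hc
  have q2 := h.symm.pa_of_sq h2 h1 i2 i1 n2 n1 p2 p1 (h.card_eq ▸ hc)
  have hY := h.cent_inf_le h1 h2 i1 i2 n1 n2 p1 p2 hc
  have hC := h.top_le_cent h1 h2 i1 i2 n1 n2 p1 p2 hc
  have c1 : Nat.card ↥(E₁ ⊓ E₂) = p * Nat.card T :=
    Nat.eq_of_mul_eq_mul_left hp.out.pos (h.card_inf.symm.trans (hc.trans (by ring)))
  obtain ⟨d, hd, hd', hdC⟩ : ∃ d ∈ E₁ ⊓ E₂, d ∉ T ∧ d ∈ commLe T ⊥ := by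
    obtain ⟨x, hx, hx'⟩ := SetLike.not_le_iff_exists.1 fun e : E₁ ⊓ E₂ ≤ T => n1
      (h.l1.fx_of_card pInv_self i1 le_rfl h1 (h.card_inf.trans_le
        (Nat.mul_le_mul_left p (card_le_card_of_le e)))).pa
    obtain ⟨d, hd, t, ht, rfl⟩ := mem_sup_of_normal_right.1 (hC (mem_top x))
    exact ⟨d, (mul_mem_cancel_right (le_inf h1 h2 ht)).1 hx, fun e => hx' (mul_mem e ht), hd⟩
  refine ⟨d, hd, hd', by_contra fun hn => ?_⟩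
  have hDB : E₁ ⊓ E₂ ≤ cen d ⊥ := (le_sup_zpowers hG (le_inf h1 h2) hd hd' c1.le).trans
    (sup_le (fun t ht => mem_commLe.1 hdC t ht) (zpowers_le.2 self_mem_cen))
  have hcm : ∀ g x : G, ⁅g, x⁆ ∈ E₁ ⊓ E₂ := fun g x => le_inf
    (PG.commutator_le_of_index_eq_prime hG h.l1.index)
    (PG.commutator_le_of_index_eq_prime hG h.l2.index) (commutator_mem_commutator trivial trivial)
  have : (cen d ⊥).Normal := ⟨fun n hn g => by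
    have := mul_mem (hDB (hcm g n)) hn
    rwa [commutatorElement_def g n, inv_mul_cancel_right] at this⟩
  have key : ∀ {E : Subgroup G} {A : Subgroup (MulAut E)} (l : Loc p E A) {γ : MulAut G},
      T ≤ E → d ∈ E → (∀ t ∈ T, γ t = t) → (∀ x ∈ E, x * γ x ∈ T) → (∀ g, g⁻¹ * γ g ∈ E) →
      ¬ cen d ⊥ ≤ E ∧ (∀ x ∈ cen d ⊥, γ x ∈ cen d ⊥) ∧ (∀ x ∈ E₁ ⊓ E₂, γ x ∈ E₁ ⊓ E₂) ∧
        ∀ x, x * γ x ∈ cen d ⊥ := fun {E A} l {γ} a1 a2 a3 a4 a5 => by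
    have b1 : d * γ d ∈ center G := hY ⟨mul_mem hdC (mem_commLe.2 fun t ht => by
      rw [← a3 t ht, ← map_commutatorElement, mem_bot.1 (mem_commLe.1 hdC t ht), map_one]
      exact one_mem _), a4 d a2⟩
    obtain ⟨g, hg, hg'⟩ := SetLike.not_le_iff_exists.1 fun e : commLe T ⊥ ≤ E =>
      l.coatom.1 (top_le_iff.1 (hC.trans (sup_le e a1)))
    have b2 := comm_symm (h.comm_inf p1 p2 g hd)
    have b3 : ¬ cen d ⊥ ≤ E := fun e => hg' (eq_one_of_sq h.p2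
      (PG.pow_mem_of_index_eq_prime hG l.index g) (by
        simpa [mul_assoc] using mul_mem (e (mem_cen_of_comm (comm_mul_inv a3 b1 b2
          (hY ⟨comm_mem_right d hg, b2⟩)))) (inv_mem (a5 g))))
    have b4 : ∀ x ∈ cen d ⊥, γ x ∈ cen d ⊥ := fun x hx => mem_cen_of_comm (by
      have b5 := congrArg γ (comm_eq_one.1 hx)
      have b6 := mem_center_iff.1 b1 (γ x)
      rw [map_mul, map_mul] at b5
      rw [mul_assoc, b5, ← mul_assoc, ← mul_assoc] at b6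
      exact (mul_right_cancel b6).symm)
    refine ⟨b3, b4, (le_sup_zpowers hG (le_inf h1 h2) hd hd' c1.le).trans (sup_le
      (c := (E₁ ⊓ E₂).comap γ.toMonoidHom) (fun t ht => mem_comap.2 ((a3 t ht).symm ▸
        le_inf h1 h2 ht)) (zpowers_le.2 ((mul_mem_cancel_left hd).1 (le_inf h1 h2 (a4 d a2))))),
      fun x => ?_⟩
    obtain ⟨e, he, b, hb, rfl⟩ := l.exists_mul b3 x
    have := mul_mem (mul_mem (Normal.conj_mem ‹_› b hb e) (hDB (le_inf h1 h2 (a4 e he)))) (b4 b hb)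
    simpa [mul_assoc] using this
  obtain ⟨γ, hγ, a1, a2, a3⟩ := h.l1.exists_ext_inv e1 i1 h1 p1 n1 hc q1
  obtain ⟨δ, hδ, b1, b2, b3⟩ := h.l2.exists_ext_inv e2 i2 h2 p2 n2 (h.card_eq ▸ hc) q2
  obtain ⟨a4, a5, a6, a7⟩ := key h.l1 h1 hd.1 a1 a2 a3
  obtain ⟨b4, b5, b6, b7⟩ := key h.l2 h2 hd.2 b1 b2 b3
  have k : ∀ {E₁ E₂ : Subgroup G} {A₁ : Subgroup (MulAut E₁)} {A₂ : Subgroup (MulAut E₂)},
      Two p A₁ A₂ → ¬ cen d ⊥ ≤ E₁ → E₁ ⊓ E₂ ≤ cen d ⊥ → E₁ ⊓ cen d ⊥ ≤ E₂ :=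
    fun {E₁ E₂ A₁ A₂} h a b x hx => by_contra fun hx' => hn (mem_center_iff.2 fun g =>
      (comm_eq_one.1 ((h.l1.sup_eq_top a).ge.trans (sup_le ((h.symm.inf_sup hx.1 hx').trans
        (sup_le (inf_comm E₂ E₁ ▸ b) (zpowers_le.2 hx.2))) le_rfl) (mem_top g))).symm)
  have k1 := k h a4 hDB
  have k2 := k h.symm b4 (inf_comm E₂ E₁ ▸ hDB)
  obtain ⟨x, hx, hx'⟩ := SetLike.not_le_iff_exists.1 h.not_le
  have h3 := agree_of_unip (X := ⊤) hG hΓ hγ hδ le_top hDB (fun g x _ => hcm g x)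
    a5 a6 b6
    (fun x _ => by simpa [mul_assoc] using mul_mem (inv_mem (a7 x)) (b7 x))
    (fun x hx => by
      have c1 : x⁻¹ * γ x ∈ E₁ ⊓ E₂ := ⟨a3 x, k1 ⟨a3 x, (cen d ⊥).mul_mem (inv_mem hx) (a5 x hx)⟩⟩
      have c2 : x⁻¹ * δ x ∈ E₁ ⊓ E₂ := ⟨k2 ⟨b3 x, (cen d ⊥).mul_mem (inv_mem hx) (b5 x hx)⟩, b3 x⟩
      simpa [mul_assoc] using mul_mem (inv_mem c1) c2) (mem_top x)
  exact hx' (eq_one_of_sq h.p2 (PG.pow_mem_of_index_eq_prime hG h.l2.index x) (by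
    simpa [mul_assoc] using mul_mem (mul_mem (h2 (a2 x hx)) h3.2) (inv_mem (b3 x))))

theorem le_center_of_sq (hΓ : SylIn p (Inn G) Γ) (e1 : Ext p Γ A₁ h.l1.normal)
    (e2 : Ext p Γ A₂ h.l2.normal) : T ≤ center G ∧ E₁ ⊓ E₂ ≤ center G := by
  have hG := h.l1.pg
  have := h.l1.normal_of i1 h1
  have q1 := h.pa_of_sq h1 h2 i1 i2 n1 n2 p1 p2 hc
  have hY := h.cent_inf_le h1 h2 i1 i2 n1 n2 p1 p2 hc
  obtain ⟨d, hd, hd', hdC⟩ := h.exists_central h1 h2 i1 i2 n1 n2 p1 p2 hc hΓ e1 e2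
  have hC := i1.commLe pInv_bot h1
  have hCT := h.l1.cent_sup' i1 h1 n1 hc q1
  have c1 := card_sup_mul_card_inf_of_normal (E₁ ⊓ commLe T ⊥) T
  rw [hCT, hc, mul_right_comm] at c1
  replace c1 := (Nat.eq_of_mul_eq_mul_right Nat.card_pos c1).symm
  have hU : E₁ ⊓ commLe T ⊥ ⊓ T ⊔ zpowers d ≤ center G :=
    sup_le (fun y hy => hY ⟨hy.1.2, hy.2⟩) (zpowers_le.2 hdC)
  have hab := comm_of_card_le (Y := E₁ ⊓ commLe T ⊥) hG (sup_le inf_le_left (zpowers_le.2 ⟨hd.1, mem_commLe.2 fun t _ =>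
    comm_eq_one.2 (mem_center_iff.1 hdC t).symm⟩)) (fun u hu y _ => (mem_center_iff.1 (hU hu) y).symm)
    (c1.trans_le ((show _ = p * (p * _) by ring).trans_le
      (Nat.mul_le_mul_left p (mul_card_le_sup hG fun e => hd' e.2))))
  have h7 : ∀ x ∈ E₁ ⊓ commLe T ⊥, ∀ y ∈ E₁ ⊓ commLe T ⊥, ⁅x, y⁆ ^ p ∈ (⊥ : Subgroup G) ∧
      ∀ z ∈ E₁ ⊓ commLe T ⊥, ⁅⁅x, y⁆, z⁆ ∈ (⊥ : Subgroup G) := fun x hx y hy => by
    simp [comm_eq_one.2 (hab x hx y hy)]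
  have hP := h.l1.cent_sup i1 h1 n1 hc q1 (X := powIn h.p2 _ ⊥ h7) (fun _ hx => hx.1)
    (fun a ha x hx => ⟨hC a ha x hx.1, ppow a hx.1.1 p ▸ pInv_bot a ha _ hx.2⟩)
    (Loc.pa_pow h.p2 hC inf_le_left q1 (fun x hx => p1 (pow_mem_phi hG hx.1)) h7)
  have c2 := card_le_of_secRank hG h.sr (phi_le.trans h1) (phi_le_of_mul hG h1
    (U := powIn h.p2 _ ⊥ h7) (fun _ hx => hx.1.1) (fun u hu => ⟨hu.2, fun e he => comm_eq_one.1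
      (hCT.ge.trans (sup_le (c := cen u ⊥) (fun x hx => mem_cen_of_comm (hab u hu.1 x hx))
        fun t ht => mem_commLe.1 hu.1.2 t ht) he)⟩) fun e he => by
      obtain ⟨t, ht, u, hu, rfl⟩ := mem_sup_of_normal_left.1 ((hP.ge.trans (sup_comm _ _).le) he)
      exact ⟨t, ht, u, hu, rfl⟩)
  rw [hc, pow_succ p 2, mul_assoc] at c2
  replace c2 := Nat.le_of_mul_le_mul_left c2 (pow_pos hp.out.pos 2)
  have hcyc : IsCyclic T := (isCyclic_iff_index_frattini_le (hG.to_subgroup T)).2 (by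
    rw [card_map_of_injective T.subtype_injective, ← (frattini T).index_mul_card] at c2
    exact Nat.le_of_mul_le_mul_right c2 Nat.card_pos)
  have hT : T ≤ center G := fun t ht => hY ⟨mem_commLe.2 fun u hu => comm_eq_one.2
    (congrArg Subtype.val (hcyc.commGroup.mul_comm ⟨t, ht⟩ ⟨u, hu⟩)), ht⟩
  exact ⟨hT, (le_sup_zpowers hG (le_inf h1 h2) hd hd' (Nat.eq_of_mul_eq_mul_left hp.out.pos
    (h.card_inf.symm.trans (hc.trans (by ring)))).le).trans (sup_le hT (zpowers_le.2 hdC))⟩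

end Two

theorem Loc.fix_iff (h : Loc p E A) (hi : PInv A T) (hT : T ≤ center G) (hn : ¬ PA p A E T)
    (hc : Nat.card E = p ^ 2 * Nat.card T) (hx : x ∈ E) : (∀ a ∈ A, pext E a x = x) ↔ x ∈ T := by
  have hf := h.fx_of_center hT hi
  let F : Subgroup G := subgroupOfFinite {x | x ∈ E ∧ ∀ a ∈ A, pext E a x = x}
    ⟨one_mem _, fun a _ => pone a⟩ fun x y hx hy => ⟨mul_mem hx.1 hy.1, fun a ha => by
      rw [pmul a hx.1 hy.1, hx.2 a ha, hy.2 a ha]⟩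
  have h1 : Fx A F ⊥ := fun a ha x hx => by rw [hx.2 a ha]; simp
  refine ⟨fun e => ((h.irr pInv_self hi (h1.pInv bot_le le_rfl) le_rfl (fun t ht =>
    ⟨h.center_le (hT ht), fun a ha => hf.eq ha ht⟩) (fun _ hx => hx.1) hc.le hn).resolve_right
    fun e => h.not_pa (h1.pa.mono e.ge le_rfl)).le ⟨hx, e⟩, fun e a ha => hf.eq ha e⟩

theorem Two.top_cases (h : Two p A₁ A₂) (hΓ : SylIn p (Inn G) Γ) (e1 : Ext p Γ A₁ h.l1.normal)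
    (e2 : Ext p Γ A₂ h.l2.normal) : (∃ T ≤ E₁ ⊓ E₂, E₁ ⊓ E₂ ≤ center G ∧
      Nat.card E₁ = p ^ 2 * Nat.card T ∧ (∀ x ∈ E₁, (∀ a ∈ A₁, pext E₁ a x = x) ↔ x ∈ T) ∧
      ∀ x ∈ E₂, (∀ a ∈ A₂, pext E₂ a x = x) ↔ x ∈ T) ∨ OutB p A₁ E₂ ∨ OutB p A₂ E₁ := by
  obtain ⟨T, c⟩ := exists_core A₁ A₂
  refine (h.phi_le_or c).imp_left fun ⟨p1, p2⟩ => ?_
  have hc := (h.card_cases c p1).resolve_right (h.not_cube hΓ e1 e2 c p1 p2)
  have n1 := h.not_pa c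
  have n2 := h.symm.not_pa c.symm
  obtain ⟨h1, h2⟩ := h.le_center_of_sq c.le1 c.le2 c.i1 c.i2 n1 n2 p1 p2 hc hΓ e1 e2
  exact ⟨T, le_inf c.le1 c.le2, h2, hc, fun x => h.l1.fix_iff c.i1 h1 n1 hc,
    fun x => h.l2.fix_iff c.i2 h1 n2 (h.card_eq ▸ hc)⟩

end Cfsg.Lib.Fus.R3
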