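import Cfsg.Agent.Fus.R3Loc

/-! Two maximal subgroups with local data in sectional rank three. -/

namespace Cfsg.Lib.Fus.R3

open Subgroup Cfsg.Lib.Solv Cfsg.Lib.Fus.Ess
open scoped commutatorElement

variable {G : Type*} [Group G] {p : ℕ} {E₁ E₂ K T X : Subgroup G}
  {A₁ : Subgroup (MulAut E₁)} {A₂ : Subgroup (MulAut E₂)} {g s x y z : G}

/-- `T` is the largest subgroup invariant under both groups. -/
structure Core (A₁ : Subgroup (MulAut E₁)) (A₂ : Subgroup (MulAut E₂)) (T : Subgroup G) :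
    Prop where
  le1 : T ≤ E₁
  le2 : T ≤ E₂
  i1 : PInv A₁ T
  i2 : PInv A₂ T
  max : ∀ X ≤ E₁ ⊓ E₂, PInv A₁ X → PInv A₂ X → X ≤ T

theorem Core.symm (h : Core A₁ A₂ T) : Core A₂ A₁ T :=
  ⟨h.le2, h.le1, h.i2, h.i1, fun X a b c => h.max X (inf_comm E₂ E₁ ▸ a) c b⟩

theorem exists_core (A₁ : Subgroup (MulAut E₁)) (A₂ : Subgroup (MulAut E₂)) :
    ∃ T, Core A₁ A₂ T := by
  let s : Set (Subgroup G) := {X | X ≤ E₁ ⊓ E₂ ∧ PInv A₁ X ∧ PInv A₂ X}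
  refine ⟨sSup s, sSup_le fun X hX => hX.1.trans inf_le_left,
    sSup_le fun X hX => hX.1.trans inf_le_right, pInv_of_le fun a ha => sSup_le fun X hX x hx =>
      mem_preS.2 ⟨(hX.1 hx).1, le_sSup hX (hX.2.1 a ha x hx)⟩, pInv_of_le fun a ha =>
      sSup_le fun X hX x hx => mem_preS.2 ⟨(hX.1 hx).2, le_sSup hX (hX.2.2 a ha x hx)⟩,
    fun X a b c => le_sSup ⟨a, b, c⟩⟩

theorem qm_inf [K.Normal] (h : K ≤ E₁) :
    (E₁ ⊓ E₂).map (qm K) = E₁.map (qm K) ⊓ E₂.map (qm K) := le_antisymm (map_inf_le _ _ _) (by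
  rintro _ ⟨h1, y, hy, rfl⟩
  exact mem_map_of_mem _ ⟨(qm_mem h).1 h1, hy⟩)

variable [hp : Fact p.Prime] [Finite G]

theorem exists_comm_chain (hG : IsPGroup p G) {X Y : Subgroup G} [X.Normal] [Y.Normal]
    (hYX : Y ≤ X) {k : ℕ} (hc : Nat.card X ≤ p ^ (k + 1) * Nat.card Y) : ∃ M : Subgroup G,
      M.Normal ∧ Y ≤ M ∧ Nat.card M ≤ p ^ k * Nat.card Y ∧ ⁅X, (⊤ : Subgroup G)⁆ ≤ M := by
  rcases hYX.eq_or_lt with rfl | h
  · exact ⟨Y, ‹_›, le_rfl, Nat.le_mul_of_pos_left _ (pow_pos hp.out.pos k), commutator_le_left _ _⟩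
  obtain ⟨M, h1, h2, h3, h4⟩ := PG.exists_normal_step_down hG h
  exact ⟨M, h1, h2, Nat.le_of_mul_le_mul_left (h4.ge.trans (hc.trans_eq (by ring))) hp.out.pos,
    commutator_le.2 fun x hx g _ => comm_symm (comm_of_card hG h3.le h4.le g hx)⟩

/-- The third term of the lower central series centralizes a normal section of rank three. -/
theorem comm_three (hG : IsPGroup p G) {X Y : Subgroup G} [X.Normal] [Y.Normal]
    (hYX : Y ≤ X) (hc : Nat.card X ≤ p ^ 3 * Nat.card Y) :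
    ⁅⁅⁅(⊤ : Subgroup G), (⊤ : Subgroup G)⁆, (⊤ : Subgroup G)⁆, X⁆ ≤ Y := by
  obtain ⟨M, _, h1, h2, h3⟩ := exists_comm_chain hG hYX hc
  obtain ⟨N, _, h4, h5, h6⟩ := exists_comm_chain hG h1 h2
  obtain ⟨L, _, h7, h8, h9⟩ := exists_comm_chain hG h4 (k := 0) h5
  rw [← eq_of_le_of_card_le h7 (by simpa using h8)] at h9
  have k : ∀ {X M N : Subgroup G} [N.Normal], ⁅X, ⊤⁆ ≤ M → ⁅M, ⊤⁆ ≤ N →
      ⁅⁅(⊤ : Subgroup G), (⊤ : Subgroup G)⁆, X⁆ ≤ N := fun {X M N} _ a b => three_subgroups_le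
    ((commutator_mono ((commutator_comm ⊤ X).trans_le a) le_rfl).trans b)
    ((commutator_mono a le_rfl).trans b)
  exact three_subgroups_le ((commutator_mono ((commutator_comm ⊤ X).trans_le h3) le_rfl).trans
    ((commutator_comm M _).trans_le (k h6 h9)))
    ((commutator_mono ((commutator_comm X _).trans_le (k h3 h6)) le_rfl).trans h9)

namespace Two

variable (h : Two p A₁ A₂)
include h

theorem quot [K.Normal] (h1 : K ≤ E₁) (h2 : K ≤ E₂) (i1 : PInv A₁ K) (i2 : PInv A₂ K)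
    (n1 : ¬ PA p A₁ E₁ K) (n2 : ¬ PA p A₂ E₂ K) : ∃ A₁' A₂', Two p A₁' A₂' ∧
      Tr (qm K) p A₁ A₁' ∧ Tr (qm K) p A₂ A₂' := by
  obtain ⟨A₁', a1, b1⟩ := h.l1.quot h1 i1 n1
  obtain ⟨A₂', a2, b2⟩ := h.l2.quot h2 i2 n2
  exact ⟨A₁', A₂', ⟨a1, a2, fun e => h.not_le ((qm_le h2).1 e.le), h.p2,
    PG.secRank_quotient h.sr _⟩, b1, b2⟩

omit [Finite G] in
theorem top_le (h1 : E₁ ≤ X) (h2 : E₂ ≤ X) : ⊤ ≤ X :=
  (h.l1.sup_eq_top h.symm.not_le).ge.trans (sup_le h1 h2)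

theorem pa_of_comm (i1 : PInv A₁ T) (h1 : T ≤ E₁) (h2 : E₁ ≤ commLe T (Phi T))
    (h3 : E₂ ≤ commLe T (Phi T)) [T.Normal] : PA p A₁ T ⊥ :=
  let ⟨_, hs⟩ := h.l1.exists_not_mem
  (h.l1.pa_of_comm i1 (i1.phi h.l1.pg h1) h1 hs
    (mem_commLe.1 (h.top_le h2 h3 (mem_top _)))).of_phi h.l1.pg h1 i1

theorem not_pa (c : Core A₁ A₂ T) : ¬ PA p A₁ E₁ T := fun h1 => by
  have hG := h.l1.pg
  have := h.l1.normal_of c.i1 c.le1
  have := h.l1.normal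
  have := h.l2.normal
  have h2 : E₁ ≤ commLe T (Phi T) := fun e he => mem_commLe.2 fun t ht =>
    h.l1.comm_phi_of_pa h.p2 h.sr c.i1 c.le1 h1 he ht
  have h3 : ¬ E₂ ≤ commLe T (Phi T) := fun e =>
    h.l1.not_pa (h1.trans hG (h.pa_of_comm c.i1 c.le1 h2 e) le_rfl pInv_bot)
  have h4 : commLe T (Phi T) = E₁ := (h.l1.coatom.le_iff.1 h2).resolve_left fun e =>
    h3 (le_top.trans e.ge)
  have h5 := c.i2.commLe (c.i2.phi hG c.le2) c.le2
  rw [h4, inf_comm] at h5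
  have h6 := c.max _ le_rfl (h.l1.pInv_of_pa h1 (le_inf c.le1 c.le2) inf_le_left le_rfl) h5
  exact h3 fun e he => mem_commLe.2 fun t ht => h.l2.comm_phi_of_pa h.p2 h.sr c.i2 c.le2
    (h.l2.fx_of_card pInv_self c.i2 le_rfl c.le2 (h.card_eq ▸ h.card_inf.trans_le
      (Nat.mul_le_mul_left p (card_le_card_of_le h6)))).pa he ht

theorem not_faithful (h1 : T ≤ E₁) (h2 : T ≤ E₂) (i1 : PInv A₁ T) (i2 : PInv A₂ T)
    (n1 : ¬ PA p A₁ E₁ T) (n2 : ¬ PA p A₂ E₂ T) (p1 : Phi E₁ ≤ T) (p2 : Phi E₂ ≤ T) (hE : EA p T)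
    (hc : Nat.card E₁ = p ^ 2 * Nat.card T) : ¬ ∀ g, (∀ t ∈ T, g * t = t * g) → g ∈ T := by
  intro hC
  have hG := h.l1.pg
  have c1 := h.l1.sq_le_cent h.sr i1 hE h1 p1 n1 hc hC
  have c2 := h.l2.sq_le_cent h.sr i2 hE h2 p2 n2 (h.card_eq ▸ hc) hC
  have c3 := (hE.card_le hG h.sr).trans_eq (pow_succ' p 2)
  by_cases h3 : T ⊓ (E₁ ⊓ commLe E₁ ⊥) ≤ T ⊓ (E₂ ⊓ commLe E₂ ⊥)
  · exact h.l1.not_pa_of_cent i1 h1 n1 hC ((h.l1.fx_of_card i1 (pInv_cent i1) h1 inf_le_left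
      (c3.trans (Nat.mul_le_mul_left p c1))).pa.trans hG (h.l1.fx_of_center (fun x hx =>
        h.mem_center (fun e he => (((mem_cent h1).1 hx).2 e he).symm)
          fun e he => (((mem_cent h2).1 (h3 hx)).2 e he).symm) (pInv_cent i1)).pa h1 pInv_bot)
  obtain ⟨l, hl, hl'⟩ := SetLike.not_le_iff_exists.1 h3
  have h4 := le_sup_zpowers hG inf_le_left hl.1 hl' (c3.trans (Nat.mul_le_mul_left p c2))
  have h5 : E₁ ⊓ E₂ ≤ T := fun d hd => hC d fun t ht => comm_eq_one.1 (sup_le (c := cen d ⊥)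
    (fun x hx => mem_cen_of_comm (((mem_cent h2).1 hx).2 d hd.2).symm)
    (zpowers_le.2 (mem_cen_of_comm (((mem_cent h1).1 hl).2 d hd.1).symm)) (h4 ht))
  exact n1 (h.l1.fx_of_card pInv_self i1 le_rfl h1 (h.card_inf.trans_le
    (Nat.mul_le_mul_left p (card_le_card_of_le h5)))).pa

theorem pa_of_sq (h1 : T ≤ E₁) (h2 : T ≤ E₂) (i1 : PInv A₁ T) (i2 : PInv A₂ T)
    (n1 : ¬ PA p A₁ E₁ T) (n2 : ¬ PA p A₂ E₂ T) (p1 : Phi E₁ ≤ T) (p2 : Phi E₂ ≤ T)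
    (hc : Nat.card E₁ = p ^ 2 * Nat.card T) : PA p A₁ T ⊥ := by
  have hG := h.l1.pg
  have := h.l1.normal_of i1 h1
  have hT : T ≤ commLe T (Phi T) := fun x hx => mem_commLe.2 fun y hy => comm_mem_phi hG hx hy
  have h3 : ¬ commLe T (Phi T) ≤ T := fun e => by
    obtain ⟨A₁', A₂', h3, t1, t2⟩ := h.quot (phi_le.trans h1) (phi_le.trans h2) (i1.phi hG h1)
      (i2.phi hG h2) (fun e => n1 (e.mono le_rfl phi_le)) fun e => n2 (e.mono le_rfl phi_le)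
    refine h3.not_faithful (map_mono h1) (map_mono h2) (t1.pInv_map h1 i1) (t2.pInv_map h2 i2)
      (fun e => n1 (t1.pa_of_map le_rfl (qm_ker.trans_le phi_le) e))
      (fun e => n2 (t2.pa_of_map le_rfl (qm_ker.trans_le phi_le) e)) (phi_qm_le hG p1)
      (phi_qm_le hG p2) (ea_qm hG le_rfl) (Nat.eq_of_mul_eq_mul_right Nat.card_pos (by
        rw [← card_qm (phi_le.trans h1), mul_assoc, ← card_qm phi_le, hc])) fun g hg => ?_
    obtain ⟨g, rfl⟩ := qm_surj g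
    exact mem_map_of_mem _ (e (mem_commLe.2 fun t ht => qm_comm.1 (hg _ (mem_map_of_mem _ ht))))
  obtain ⟨x, hx, hx', -, h4⟩ := PG.exists_normal_step_elt hG h3
  refine h.pa_of_comm i1 h1 (((h.l1.irr pInv_self i1 (i1.commLe (i1.phi hG h1) h1) le_rfl
    (le_inf h1 hT) inf_le_left hc.le n1).resolve_left fun e => hx' (e.le
      ⟨h.l1.mem_of_comm_mod i1 n1 fun e _ => h4 e, hx⟩)).ge.trans inf_le_right)
    (((h.l2.irr pInv_self i2 (i2.commLe (i2.phi hG h2) h2) le_rfl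
    (le_inf h2 hT) inf_le_left (h.card_eq ▸ hc.le) n2).resolve_left fun e => hx' (e.le
      ⟨h.l2.mem_of_comm_mod i2 n2 fun e _ => h4 e, hx⟩)).ge.trans inf_le_right)

theorem outB_not_pInv (b : OutB p A₁ E₂) : ¬ PInv A₂ (E₁ ⊓ E₂) := fun i => by
  have hG := h.l1.pg
  have h1 : E₁ ⊓ E₂ ⊓ (E₂ ⊓ commLe E₂ ⊥) ≤ center G := fun x hx =>
    h.mem_center (fun e he => b.ea.comm e he x hx.1.1)
      fun e he => (((mem_cent inf_le_right).1 hx).2 e he).symm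
  have c1 : Nat.card ↥(E₁ ⊓ E₂) = p ^ 2 :=
    Nat.eq_of_mul_eq_mul_left hp.out.pos (h.card_inf.symm.trans (b.c1.trans (pow_succ' p 2)))
  have c2 := h.l2.prime_le_cent i inf_le_right fun e => by
    rw [e, card_bot] at c1
    exact absurd c1 (one_lt_pow₀ hp.out.one_lt two_ne_zero).ne
  exact h.l2.not_pa (((h.l2.fx_of_card pInv_self i le_rfl inf_le_right
    (h.card_eq ▸ h.card_inf.le)).pa.trans hG (h.l2.fx_of_card i (pInv_cent i) inf_le_right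
      inf_le_left (c1.trans_le ((sq p).trans_le (Nat.mul_le_mul_left p c2)))).pa le_rfl
      (pInv_cent i)).trans hG (h.l2.fx_of_center h1 (pInv_cent i)).pa le_rfl pInv_bot)

theorem outB_class (b : OutB p A₁ E₂) :
    ¬ ⁅⁅(⊤ : Subgroup G), (⊤ : Subgroup G)⁆, (⊤ : Subgroup G)⁆ ≤ ⊥ := fun e => by
  obtain ⟨s, hs⟩ := h.l1.exists_not_mem
  have c1 := card_le_cen (H := E₁) (v := s) (N := ⊥) (M := center G) bot_le (fun x _ =>
    mem_center_iff.2 fun g => (comm_eq_one.1 (e (commutator_mem_commutator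
      (commutator_mem_commutator (mem_top s) (mem_top x)) (mem_top g)))).symm) (k := p)
    (by simpa using b.cz.le)
  have c2 := card_le_card_of_le (R := center G) fun x (hx : x ∈ cen s ⊥ ⊓ E₁) =>
    h.l1.mem_center_of (fun e he => b.ea.comm e he x hx.2) hs (comm_eq_one.1 hx.1)
  rw [b.c1, b.cz] at *
  exact absurd (c1.trans ((Nat.mul_le_mul_left p c2).trans_eq (sq p).symm))
    (pow_lt_pow_right₀ hp.out.one_lt (by norm_num)).not_ge

theorem eq_bot_of_outB (c : Core A₁ A₂ T) [T.Normal] {A₁' A₂'} (h' : Two p A₁' A₂')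
    (t1 : Tr (qm T) p A₁ A₁') (t2 : Tr (qm T) p A₂ A₂') (b : OutB p A₁' (E₂.map (qm T))) :
    T = ⊥ := by
  have hG := h.l1.pg
  have hirr : ∀ X, T ≤ X → X ≤ E₁ → PInv A₁ X → X = T ∨ X = E₁ := fun X a1 a2 a3 =>
    (em (X.map (qm T) = ⊥)).imp (fun e => le_antisymm (((Subgroup.map_eq_bot_iff _).1 e).trans qm_ker.le) a1)
      fun e => le_antisymm a2 ((qm_le a1).1 (b.irr _ (map_mono a2) (t1.pInv_map a2 a3) e).ge)
  have hT : T ≤ commLe T (Phi T) := fun x hx => mem_commLe.2 fun y hy => comm_mem_phi hG hx hy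
  have h3 : ¬ commLe T (Phi T) ≤ T := fun e => h'.outB_class b (by
    have := map_mono (f := qm T) ((le_commLe_iff.2 ⟨le_top.trans_eq (normalizer_eq_top _).symm,
      comm_three hG phi_le (card_le_of_secRank hG h.sr phi_le le_rfl)⟩).trans e)
    rwa [map_commutator, map_commutator, map_top_of_surjective _ qm_surj,
      (Subgroup.map_eq_bot_iff _).2 qm_ker.ge] at this)
  obtain ⟨x, hx, hx', -, h4⟩ := PG.exists_normal_step_elt hG h3
  have h5 : E₁ ≤ commLe T (Phi T) := ((hirr _ (le_inf c.le1 hT) inf_le_left (c.i1.commLe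
    (c.i1.phi hG c.le1) c.le1)).resolve_left fun e => hx' (e.le
      ⟨h.l1.mem_of_comm_mod c.i1 (h.not_pa c) fun e _ => h4 e, hx⟩)).ge.trans inf_le_right
  have h6 : E₂ ≤ commLe T (Phi T) := le_top.trans ((h.l1.coatom.le_iff.1 h5).resolve_right
    fun e => h'.outB_not_pInv b (by
      have := t2.pInv_map inf_le_left (c.i2.commLe (c.i2.phi hG c.le2) c.le2)
      rwa [e, inf_comm, qm_inf c.le1] at this)).ge
  exact h.l1.eq_bot_of_irr h.p2 h.sr c.i1 c.le1 (h.pa_of_comm c.i1 c.le1 h5 h6)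
    (phi_le_of_ea_qm hG b.ea) (h.not_pa c) (by rw [card_qm c.le1, b.c1]) hirr

theorem phi_le_or (c : Core A₁ A₂ T) :
    (Phi E₁ ≤ T ∧ Phi E₂ ≤ T) ∨ OutB p A₁ E₂ ∨ OutB p A₂ E₁ := by
  have hG := h.l1.pg
  have := h.l1.normal_of c.i1 c.le1
  obtain ⟨A₁', A₂', h', t1, t2⟩ := h.quot c.le1 c.le2 c.i1 c.i2 (h.not_pa c) (h.symm.not_pa c.symm)
  have k : T = ⊥ → (Phi E₁ ≤ T ∧ Phi E₂ ≤ T) ∨ OutB p A₁ E₂ ∨ OutB p A₂ E₁ := fun e =>
    (h.core_cases fun X a1 a2 a3 => le_bot_iff.1 ((c.max X a1 a2 a3).trans e.le)).imp_left fun e =>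
      ⟨((ea_iff hG).1 e.1).trans bot_le, ((ea_iff hG).1 e.2).trans bot_le⟩
  rcases h'.core_cases fun X a1 a2 a3 => by
    have b1 : X.comap (qm T) ≤ E₁ := fun x hx => (qm_mem c.le1).1 (a1 hx).1
    have b2 : X.comap (qm T) ≤ E₂ := fun x hx => (qm_mem c.le2).1 (a1 hx).2
    rw [← map_comap_eq_self_of_surjective qm_surj X, Subgroup.map_eq_bot_iff, qm_ker]
    exact c.max _ (le_inf b1 b2) (t1.pInv_comap b1 a2) (t2.pInv_comap b2 a3) with e | e | e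
  · exact .inl ⟨phi_le_of_ea_qm hG e.1, phi_le_of_ea_qm hG e.2⟩
  · exact k (h.eq_bot_of_outB c h' t1 t2 e)
  · exact k (h.symm.eq_bot_of_outB c.symm h'.symm t2 t1 e)

theorem card_cases (c : Core A₁ A₂ T) (h1 : Phi E₁ ≤ T) :
    Nat.card E₁ = p ^ 2 * Nat.card T ∨ Nat.card E₁ = p ^ 3 * Nat.card T := by
  have hG := h.l1.pg
  have := h.l1.normal_of c.i1 c.le1
  have c1 := (ea_qm hG h1).card_le (hG.to_quotient T) (PG.secRank_quotient h.sr _)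
  rw [card_qm c.le1]
  rcases card_le_or (hG.to_quotient T) (E₁.map (qm T)) 2 with c2 | c2
  · rcases card_le_or (hG.to_quotient T) (E₁.map (qm T)) 1 with c3 | c3
    · refine absurd (h.l1.fx_of_card pInv_self c.i1 le_rfl c.le1 ?_).pa (h.not_pa c)
      rw [card_qm c.le1]
      exact Nat.mul_le_mul_right _ (c3.trans_eq (pow_one p))
    · exact .inl (by rw [le_antisymm c2 c3])
  · exact .inr (by rw [le_antisymm c1 c2])

end Two

end Cfsg.Lib.Fus.R3
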