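/-
The existence of subsystems of `p`-power index, from the corresponding hypothesis class.
-/
import Cfsg.Agent.Fus.TateCore
import Cfsg.Agent.Fus.GT
import Cfsg.Agent.Gate.S5113

set_option autoImplicit false

namespace Cfsg.Lib.Fus

open Cfsg Cfsg.FusionSystem Subgroup

universe u

theorem pPowerExists_of_gate [h : Cfsg.Agent.Gate.S5113.{u}] (p : ℕ) [Fact p.Prime] :
    PPowerExists.{u} p := fun hS F hF T h1 h2 =>
  (h.out p hS F hF T h1 h2).imp fun _ h => h.1

theorem pNil_top_of_normSys {Ω : Type*} [Group Ω] {S : Subgroup Ω} [Finite S]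
    {F : FusionSystem S} {p : ℕ} (h : IsNil (normSys F S le_rfl) p) : PNil F p S := fun f hf =>
  h S f ⟨hf.mor.mor_normSys le_rfl (normalizerIn_self S).ge hf.img_eq, hf.mem⟩

end Cfsg.Lib.Fus
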