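import Cfsg.Agent.Fus.TateGate
import Cfsg.Agent.Inst.S5113
import Cfsg.Agent.Solv.Conj

/-!
# A nilpotency criterion by weakly embedded subgroups
-/

set_option autoImplicit false

namespace Cfsg.Lib.Fus

open Cfsg Cfsg.FusionSystem Subgroup
open scoped commutatorElement

universe u

section
variable {Ω : Type*} [Group Ω] {S A B M P Q : Subgroup Ω} {F : FusionSystem S} {p k : ℕ}

/-- `Q` is weakly embedded in `F`. -/
def WkEmb (F : FusionSystem S) (Q : Subgroup Ω) : Prop :=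
  ∃ P, F.StronglyClosed P ∧ F.StronglyClosed (Q ⊔ P) ∧ F.StronglyClosed (Q ⊓ P)

/-- `M` is a minimal nontrivial strongly closed subgroup. -/
structure MinSC (F : FusionSystem S) (M : Subgroup Ω) : Prop where
  sc : F.StronglyClosed M
  ne : M ≠ ⊥
  min : ∀ T, F.StronglyClosed T → T ⊓ M = ⊥ ∨ M ≤ T

theorem exists_card_between [Finite B] [hp : Fact p.Prime] (hB : IsPGroup p B) (hAB : A ≤ B)
    (h1 : Nat.card A ≤ p ^ k) (h2 : p ^ k ≤ Nat.card B) :
    ∃ C, A ≤ C ∧ C ≤ B ∧ Nat.card C = p ^ k := by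
  obtain ⟨b, hb⟩ := IsPGroup.iff_card.1 hB
  obtain ⟨a, ha⟩ := IsPGroup.iff_card.1 (hB.to_subgroup (A.subgroupOf B))
  have e : Nat.card (A.subgroupOf B) = Nat.card A :=
    Nat.card_congr (subgroupOfEquivOfLe hAB).toEquiv
  obtain ⟨K, hK, hle⟩ := Sylow.exists_subgroup_card_pow_prime_le p (n := a) (m := k)
    (hb ▸ pow_dvd_pow p ((Nat.pow_le_pow_iff_right hp.out.one_lt).1 (hb ▸ h2)))
    (A.subgroupOf B) ha ((Nat.pow_le_pow_iff_right hp.out.one_lt).1 (ha ▸ e ▸ h1))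
  refine ⟨K.map B.subtype, fun x hx => ⟨⟨x, hAB hx⟩, hle hx, rfl⟩, map_subtype_le _, ?_⟩
  rw [card_map_of_injective B.subtype_injective, hK]

theorem card_le_pow_of_lt [Finite B] [hp : Fact p.Prime] (hB : IsPGroup p B) (hAB : A ≤ B)
    (hne : A ≠ B) (h : Nat.card B = p ^ (k + 1)) : Nat.card A ≤ p ^ k := by
  have := finite_of_le hAB
  obtain ⟨a, ha⟩ := IsPGroup.iff_card.1 (hB.to_le hAB)
  have h1 : Nat.card A < Nat.card B := lt_of_not_ge fun h' => hne (eq_of_le_of_card_ge hAB h')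
  rw [ha, h, Nat.pow_lt_pow_iff_right hp.out.one_lt] at h1
  exact ha ▸ Nat.pow_le_pow_right hp.out.pos (Nat.lt_succ_iff.1 h1)

theorem exists_minSC [Finite S] (hP : F.StronglyClosed P) (h : P ≠ ⊥) :
    ∃ M, MinSC F M ∧ M ≤ P := by
  obtain ⟨M, ⟨h1, h2, h3⟩, hm⟩ := exists_max_of_bdd
    {M | F.StronglyClosed M ∧ M ≠ ⊥ ∧ M ≤ P} ⟨P, hP, h, le_rfl⟩
    (fun M => Nat.card S - Nat.card M) (Nat.card S) fun _ _ => Nat.sub_le _ _
  refine ⟨M, ⟨h1, h2, fun T hT => or_iff_not_imp_left.2 fun h' => ?_⟩, h3⟩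
  have := finite_of_le h1.1
  have h4 := hm (T ⊓ M) ⟨stronglyClosed_inf hT h1, h', inf_le_right.trans h3⟩
  have h5 : Nat.card M ≤ Nat.card S := card_le_of_le h1.1
  have h6 : Nat.card ↥(T ⊓ M) ≤ Nat.card M := card_le_of_le inf_le_right
  exact (eq_of_le_of_card_ge (inf_le_right : T ⊓ M ≤ M) (by omega)).ge.trans inf_le_left

theorem MinSC.le_of_wkEmb (hM : MinSC F M) (hQ : WkEmb F Q) (hle : Q ≤ M) (h : Q ≠ ⊥) :
    M ≤ Q := by
  obtain ⟨P, h1, h2, h3⟩ := hQ
  rcases hM.min _ h3 with h4 | h4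
  · rcases hM.min _ h1 with h5 | h5
    · rcases hM.min _ h2 with h6 | h6
      · exact absurd (eq_bot_iff.2 (h6 ▸ le_inf le_sup_left hle)) h
      · intro x hx
        obtain ⟨a, ha, b, hb, rfl⟩ := exists_mul_of_mem_sup_left
          ((le_sup_left.trans h2.1).trans (le_normalizer_of_stronglyClosed h1)) (h6 hx)
        have : b ∈ P ⊓ M := ⟨hb, by simpa using M.mul_mem (M.inv_mem (hle ha)) hx⟩
        rw [h5, mem_bot] at this
        simpa [this] using ha
    · exact absurd (eq_bot_iff.2 (h4 ▸ le_inf (le_inf le_rfl (hle.trans h5)) hle)) h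
  · exact h4.trans inf_le_left

theorem MinSC.exists_compl [Finite S] (hM : MinSC F M) (hQ : WkEmb F Q)
    (hc : Nat.card Q = Nat.card M) (h1 : Q ⊓ M ≠ ⊥) (h2 : ¬ M ≤ Q) :
    ∃ P, F.StronglyClosed P ∧ P ⊓ M = ⊥ ∧ P ⊔ M = P ⊔ Q := by
  obtain ⟨P, hP, h3, h4⟩ := hQ
  have h5 : Q ⊓ P ⊓ M = ⊥ := (hM.min _ h4).resolve_right fun h => h2 (h.trans inf_le_left)
  have h6 : P ⊓ M = ⊥ := (hM.min _ hP).resolve_right fun h => h1 (eq_bot_iff.2
    (h5 ▸ le_inf (le_inf inf_le_left (inf_le_right.trans h)) inf_le_right))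
  have h7 : M ≤ Q ⊔ P := (hM.min _ h3).resolve_left fun h => h1 (eq_bot_iff.2
    (h ▸ inf_le_inf_right _ le_sup_left))
  have hn := le_normalizer_of_stronglyClosed hP
  rw [sup_comm] at h3 h7
  have := finite_of_le h3.1
  have := finite_of_le hP.1
  have := finite_of_le hM.sc.1
  refine ⟨P, hP, h6, eq_of_le_of_card_ge (sup_le le_sup_left h7) ?_⟩
  rw [Solv.card_sup_of_disjoint_of_le_normalizer (hM.sc.1.trans hn) h6, ← hc]
  exact Nat.le_of_dvd (Nat.mul_pos Nat.card_pos (hc ▸ Nat.card_pos))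
    (Solv.card_sup_dvd_of_le_normalizer ((le_sup_right.trans h3.1).trans hn))

theorem comm_of_sc_disjoint (hP : F.StronglyClosed P) (hQ : F.StronglyClosed Q) (h : P ⊓ Q = ⊥)
    {x y : Ω} (hx : x ∈ P) (hy : y ∈ Q) : x * y = y * x := by
  have h1 : x * y * x⁻¹ * y⁻¹ ∈ P ⊓ Q := ⟨by
    simpa [mul_assoc] using P.mul_mem hx (conj_mem_of_mem_normalizer
      (le_normalizer_of_stronglyClosed hP (hQ.1 hy)) (P.inv_mem hx)),
    Q.mul_mem (conj_mem_of_mem_normalizer (le_normalizer_of_stronglyClosed hQ (hP.1 hx)) hy)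
      (Q.inv_mem hy)⟩
  rw [h, mem_bot] at h1
  calc x * y = (x * y * x⁻¹ * y⁻¹) * (y * x) := by group
    _ = y * x := by rw [h1, one_mul]

variable [Finite S] [hp : Fact p.Prime] (hS : IsPGroup p S)
include hS

/-- A minimal strongly closed subgroup of the critical order is abelian. -/
theorem MinSC.comm (hM : MinSC F M) (hc : Nat.card M = p ^ k) (hk : p ^ k < Nat.card S)
    (hw : ∀ Q, Q ≤ S → Nat.card Q = p ^ k → WkEmb F Q) : M ≤ centralizer (M : Set Ω) := by
  by_contra hab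
  have hMS := hM.sc.1
  have hMn := le_normalizer_of_stronglyClosed hM.sc
  have := finite_of_le hMS
  obtain ⟨n, hn⟩ := IsPGroup.iff_card.1 hS
  have hZ := centralizerIn_inf_ne_bot hS hMS hMn hM.ne
  -- a strongly closed subgroup meeting `M` trivially
  obtain ⟨P, hP, hPM, hP1⟩ : ∃ P, F.StronglyClosed P ∧ P ⊓ M = ⊥ ∧ P ≠ ⊥ := by
    obtain ⟨L, hML, hLS, hL⟩ := exists_card_between (k := k + 1) hS hMS
      (hc ▸ Nat.pow_le_pow_right hp.out.pos (Nat.le_succ k))
      (hn ▸ Nat.pow_le_pow_right hp.out.pos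
        ((Nat.pow_lt_pow_iff_right hp.out.one_lt).1 (hn ▸ hk)))
    have := finite_of_le hLS
    obtain ⟨x, hxL, hxM⟩ := SetLike.not_le_iff_exists.1 fun h : L ≤ M => by
      have := card_le_of_le h
      rw [hL, hc, Nat.pow_le_pow_iff_right hp.out.one_lt] at this
      omega
    have hA : zpowers x ⊔ (centralizerIn S S ⊓ M) ≤ L :=
      sup_le (zpowers_le.2 hxL) (inf_le_right.trans hML)
    have hA' : zpowers x ⊔ (centralizerIn S S ⊓ M) ≠ L := fun e => hab fun a ha b hb => by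
      have hn' : zpowers x ≤ normalizer ((centralizerIn S S ⊓ M : Subgroup Ω) : Set Ω) :=
        fun y hy => centralizer_le_normalizer _ fun z hz =>
          ((mem_centralizerIn.1 hz.1).2 y (hLS (zpowers_le.2 hxL hy))).symm
      obtain ⟨_, ⟨i, rfl⟩, c, hc, rfl⟩ := exists_mul_of_mem_sup_left hn' (e.ge (hML ha))
      obtain ⟨_, ⟨j, rfl⟩, d, hd, rfl⟩ := exists_mul_of_mem_sup_left hn' (e.ge (hML hb))
      have e1 := (mem_centralizerIn.1 hc.1).2
      have e2 := (mem_centralizerIn.1 hd.1).2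
      have hx := hLS hxL
      have e3 : Commute (x ^ j * d) (x ^ i * c) :=
        Commute.mul_left (Commute.mul_right (Commute.zpow_zpow_self x j i)
          (e1 _ (S.zpow_mem hx j))) (Commute.mul_right (Eq.symm (e2 _ (S.zpow_mem hx i)))
          (e1 _ (hMS hd.2)))
      exact e3
    obtain ⟨Q, hAQ, hQL, hQ⟩ := exists_card_between (k := k) (hS.to_le hLS) hA
      (card_le_pow_of_lt (hS.to_le hLS) hA hA' hL)
      (hL ▸ Nat.pow_le_pow_right hp.out.pos (Nat.le_succ k))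
    have := finite_of_le hQL
    have hxQ : x ∈ Q := hAQ (mem_sup_left (mem_zpowers x))
    obtain ⟨P, hP, h1, h2⟩ := hM.exists_compl (hw Q (hQL.trans hLS) hQ) (hQ.trans hc.symm)
      (fun e => hZ (eq_bot_iff.2 (e ▸ le_inf (le_sup_right.trans hAQ) inf_le_right)))
      fun h => hxM ((eq_of_le_of_card_ge h (hQ.trans hc.symm).le).ge hxQ)
    refine ⟨P, hP, h1, fun e => hxM ?_⟩
    rw [e, bot_sup_eq, bot_sup_eq] at h2
    exact h2.ge hxQ
  have := finite_of_le hP.1
  obtain ⟨Z, -, hZP, hZc⟩ := exists_card_between (A := ⊥) (k := 1) (hS.to_le hP.1) bot_le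
    (by rw [card_bot]; exact Nat.one_le_pow _ _ hp.out.pos) (by
      obtain ⟨a, ha⟩ := IsPGroup.iff_card.1 (hS.to_le hP.1)
      rw [ha]
      exact Nat.pow_le_pow_right hp.out.pos (Nat.pos_of_ne_zero fun e =>
        hP1 (card_eq_one.1 (by rw [ha, e, pow_zero]))))
  obtain ⟨j, rfl⟩ : ∃ j, k = j + 1 := Nat.exists_eq_succ_of_ne_zero fun e =>
    hM.ne (card_eq_one.1 (by rw [hc, e, pow_zero]))
  obtain ⟨N, hCN, hNM, hN⟩ := exists_card_between (A := M ⊓ centralizer (M : Set Ω)) (k := j)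
    (hS.to_le hMS) inf_le_left (card_le_pow_of_lt (hS.to_le hMS) inf_le_left
      (fun e => hab (e.ge.trans inf_le_right)) hc)
    (hc ▸ Nat.pow_le_pow_right hp.out.pos (Nat.le_succ j))
  have hZM : Z ≤ centralizer (M : Set Ω) := fun z hz y hy =>
    (comm_of_sc_disjoint hP hM.sc hPM (hZP hz) hy).symm
  have hZN : Z ≤ normalizer (N : Set Ω) := fun z hz =>
    centralizer_le_normalizer _ fun y hy => hZM hz y (hNM hy)
  have hQ : Nat.card ↥(N ⊔ Z) = p ^ (j + 1) := by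
    rw [Solv.card_sup_of_disjoint_of_le_normalizer hZN (eq_bot_iff.2
      (hPM ▸ le_inf (inf_le_right.trans hZP) (inf_le_left.trans hNM))), hN, hZc, pow_one, pow_succ]
  have hQM : (N ⊔ Z) ⊓ M ≤ N := fun x ⟨hx, hxM⟩ => by
    obtain ⟨a, ha, b, hb, rfl⟩ := exists_mul_of_mem_sup_right hZN (sup_comm N Z ▸ hx)
    have : b ∈ P ⊓ M := ⟨hZP hb, by simpa using M.mul_mem (M.inv_mem (hNM ha)) hxM⟩
    rw [hPM, mem_bot] at this
    simpa [this] using ha
  have hMN : ¬ M ≤ N := fun h => by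
    have := finite_of_le hNM
    have := card_le_of_le h
    rw [hN, hc, Nat.pow_le_pow_iff_right hp.out.one_lt] at this
    omega
  obtain ⟨R, hR, h1, h2⟩ := hM.exists_compl
    (hw _ (sup_le (hNM.trans hMS) (hZP.trans hP.1)) hQ) (hQ.trans hc.symm)
    (fun e => hZ (eq_bot_iff.2 (e ▸ le_inf (le_trans (fun z hz => hCN ⟨hz.2, fun y hy =>
      (mem_centralizerIn.1 hz.1).2 y (hMS hy)⟩) le_sup_left) inf_le_right)))
    fun h => hMN ((le_inf h le_rfl).trans hQM)
  have hRn := le_normalizer_of_stronglyClosed hR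
  have h3 : R ⊔ (N ⊔ Z) ≤ R ⊔ N := sup_le le_sup_left (sup_le le_sup_right fun z hz => by
    obtain ⟨r, hr, m, hm, rfl⟩ := exists_mul_of_mem_sup_right (hMS.trans hRn)
      (sup_comm R M ▸ h2.ge (mem_sup_right (mem_sup_right hz)))
    refine mul_mem_sup hr (hCN ⟨hm, fun y hy => ?_⟩)
    have e1 : y * (r * m) = r * m * y := hZM hz y hy
    rw [← mul_assoc, ← comm_of_sc_disjoint hR hM.sc h1 hr hy, mul_assoc, mul_assoc] at e1
    exact mul_left_cancel e1)
  refine hMN fun x hx => ?_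
  obtain ⟨r, hr, m, hm, rfl⟩ := exists_mul_of_mem_sup_right ((hNM.trans hMS).trans hRn)
    (sup_comm R N ▸ h3 (h2.le (mem_sup_right hx)))
  have : r ∈ R ⊓ M := ⟨hr, by simpa using M.mul_mem hx (M.inv_mem (hNM hm))⟩
  rw [h1, mem_bot] at this
  simpa [this] using hm

variable (hF : F.IsSaturated p)
include hF

/-- A central hyperfocal subgroup has a `p`-group of automorphisms as soon as some overgroup has. -/
theorem pNil_hyperfocal_of_central (hc : S ≤ centralizer (F.hyperfocalSubgroup p : Set Ω))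
    (hle : F.hyperfocalSubgroup p ≤ Q) (hQ : Q ≤ S) (h : PNil F p Q) :
    PNil F p (F.hyperfocalSubgroup p) := fun f hf => by
  obtain ⟨g, hg, e⟩ := sat_ext_centralizer hS hF hf
    (isFullyCentralized_of_le_centralizer hyperfocalSubgroup_le hc)
  replace hg := hg.restrict (Q := Q) (le_trans (fun x hx => mem_centralizerIn.2
    ⟨hQ hx, hc (hQ hx)⟩) le_sup_right)
  obtain ⟨s, hs, e'⟩ := hg.exists_conj_mod_hyperfocal hS hF
  have hg' : Mor F Q (cj s⁻¹ * g : Equiv.Perm Ω) :=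
    hg.pmul (Mor.cj F le_rfl (S.inv_mem hs)) fun x hx => hg.maps hx
  refine h.of_ext hle hf (hg'.piso_of_maps fun x hx => ?_) fun x hx => ?_
  · have := Q.mul_mem hx (hle (conj_mem_hyperfocal (S.inv_mem hs) (e' x hx)))
    simpa [mul_assoc] using this
  · have := hc (S.inv_mem hs) _ (hf.maps hx)
    simp only [Equiv.Perm.coe_mul, Function.comp_apply, cj_apply, e x hx, ← this]
    group

end

/-- The nilpotency criterion by weakly embedded subgroups of one order. -/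
theorem isNil_of_wkEmb {p : ℕ} [hp : Fact p.Prime] {Ω : Type u} [Group Ω] {S : Subgroup Ω}
    [Finite S] (F : FusionSystem S) (hS : IsPGroup p S) (hF : F.IsSaturated p) :
    ∀ k, k ≠ 0 → p ^ k < Nat.card S → (∀ Q, Q ≤ S → Nat.card Q = p ^ k → WkEmb F Q) →
      (∀ H (hH : F.IsFullyNormalized H), Nat.card H = p ^ k → IsNil (normSys F H hH.1) p) →
      IsNil F p := by
  refine fus_induction (p := p) (C := fun {Ω} _ {S} F => ∀ k, k ≠ 0 → p ^ k < Nat.card S →
    (∀ Q, Q ≤ S → Nat.card Q = p ^ k → WkEmb F Q) →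
    (∀ H (hH : F.IsFullyNormalized H), Nat.card H = p ^ k → IsNil (normSys F H hH.1) p) →
    IsNil F p) ?_ F hS hF
  intro Ω _ S _ F hS hF ih _ k hk hkS hw hn
  by_contra hnil
  have hU : F.hyperfocalSubgroup p ≠ ⊥ := fun e => hnil (hyperfocal_eq_bot_iff.1 e)
  have hUc := stronglyClosed_hyperfocal hS hF
  -- factors by minimal strongly closed subgroups are nilpotent
  have key : ∀ M, MinSC F M → Nat.card M < p ^ k ∧ F.hyperfocalSubgroup p ≤ M ∧
      (F.IsNormal M → ¬ PNil F p M) := fun M hM => by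
    have := finite_of_le hM.sc.1
    have h1 : Nat.card M < p ^ k := lt_of_not_ge fun h => by
      obtain ⟨Q, -, hQM, hQ⟩ := exists_card_between (A := ⊥) (hS.to_le hM.sc.1) bot_le
        (by rw [card_bot]; exact Nat.one_le_pow _ _ hp.out.pos) h
      have hQ1 : Q ≠ ⊥ := fun e => by
        rw [e, card_bot] at hQ
        exact hk ((Nat.pow_eq_one.1 hQ.symm).resolve_left hp.out.one_lt.ne')
      have e := le_antisymm hQM (hM.le_of_wkEmb (hw Q (hQM.trans hM.sc.1) hQ) hQM hQ1)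
      subst e
      have hc := hM.comm hS hQ hkS hw
      exact hnil (isNil_of_isNormal_of_normSys (isNormal_of_stronglyClosed_of_comm hS hF hM.sc
        fun x hx y hy => hc hy x hx) (hn Q (isFullyNormalized_of_le_normalizer hM.sc.1
          (le_normalizer_of_stronglyClosed hM.sc)) hQ))
    obtain ⟨Ω', _, S', _, θ, D, hS', hD, hθ, hlt, -⟩ := exists_factor hS hF hM.sc
    obtain ⟨hker, hr, -⟩ := isFactorSystem_iff.1 hθ
    have hI := fImg_of_factor hS hF hM.sc hθ
    obtain ⟨j, hj⟩ := IsPGroup.iff_card.1 (hS.to_le hM.sc.1)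
    have hjk : j < k := (Nat.pow_lt_pow_iff_right hp.out.one_lt).1 (hj ▸ h1)
    have hcard : ∀ Q' : Subgroup Ω', Q' ≤ S' →
        Nat.card (preimageAlong θ Q') = Nat.card Q' * p ^ j := fun Q' h => by
      rw [card_preimageAlong θ (hr ▸ h), hker, hj]
    have hpow : p ^ (k - j) * p ^ j = p ^ k := by rw [← pow_add, Nat.sub_add_cancel hjk.le]
    have hDn : IsNil D p := by
      refine ih D hS' hD (hlt hM.ne) (k - j) (Nat.sub_ne_zero_of_lt hjk) ?_ (fun Q' hQ' hc => ?_)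
        fun H hH hc => ?_
      · have := hcard S' le_rfl
        rw [← hr, preimageAlong_range, hr] at this
        rw [this, ← hpow] at hkS
        exact lt_of_mul_lt_mul_right hkS (Nat.zero_le _)
      · obtain ⟨P, hP, h2, h3⟩ := hw (preimageAlong θ Q') (preimageAlong_le θ Q')
          (by rw [hcard Q' hQ', hc, hpow])
        refine ⟨img P (extFun θ), hI.stronglyClosed_img hP, ?_, ?_⟩
        · have := hI.stronglyClosed_img h2
          rwa [img_sup (hI.mulOn.mono h2.1), img_preimageAlong θ (hr ▸ hQ')] at this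
        · have := hI.stronglyClosed_img h3
          rwa [show img (preimageAlong θ Q' ⊓ P) (extFun θ) = Q' ⊓ img P (extFun θ) from
            le_antisymm (img_le_iff.2 fun x hx => ⟨((mem_preimageAlong θ).1 hx.1).2,
              mem_img_of_mem _ hx.2⟩) fun y hy => by
              obtain ⟨x, hx, rfl⟩ := (hI.mulOn.mono hP.1).mem_img.1 hy.2
              exact mem_img_of_mem _ ⟨(mem_preimageAlong θ).2 ⟨hP.1 hx, hy.1⟩, hx⟩] at this
      · have h2 := (hI.isFullyNormalized_iff hH.1).1 hH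
        rw [pre_extFun] at h2
        exact isNil_normSys_factor (kerStable_of_stronglyClosed hM.sc) hθ hH.1
          (hn _ h2 (by rw [hcard H hH.1, hc, hpow]))
    refine ⟨h1, fun x hx => ?_, fun h2 h3 => hnil (isNil_of_factor hS h2 h3 hθ hDn)⟩
    have h2 : extFun θ x ∈ D.hyperfocalSubgroup p :=
      hI.hyperfocal hS hF ▸ mem_img_of_mem _ hx
    rw [hyperfocal_eq_bot_iff.2 hDn] at h2
    exact hker ▸ (mem_kerAlong θ).2 ⟨hUc.1 hx, h2⟩
  have hle : ∀ T, F.StronglyClosed T → T ≠ ⊥ → F.hyperfocalSubgroup p ≤ T := fun T h1 h2 => by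
    obtain ⟨M, hM, h⟩ := exists_minSC h1 h2
    exact (key M hM).2.1.trans h
  obtain ⟨M, hM, hMU⟩ := exists_minSC hUc hU
  obtain ⟨hc, hUM, hMn⟩ := key M hM
  have e := le_antisymm hMU hUM
  subst e
  have hQ : ∀ Q, Q ≤ S → Nat.card Q = p ^ k → ¬ F.hyperfocalSubgroup p ≤ Q →
      Q ⊓ F.hyperfocalSubgroup p = ⊥ := fun Q h1 h2 h3 => by
    obtain ⟨P, hP, h4, h5⟩ := hw Q h1 h2
    have h6 : Q ⊓ P = ⊥ := by_contra fun h => h3 ((hle _ h5 h).trans inf_le_left)
    by_cases h7 : P = ⊥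
    · rw [h7, sup_bot_eq] at h4
      exact (hM.min Q h4).resolve_right h3
    · exact eq_bot_iff.2 (h6 ▸ inf_le_inf_left _ (hle P hP h7))
  refine hnil (isNil_of_hyperfocal_le_frattini (pPowerExists_of_gate p) hS hF fun x hx => ?_)
  refine ⟨⟨x, hUc.1 hx⟩, ?_, rfl⟩
  by_contra hxN
  obtain ⟨N, hN, hxN⟩ : ∃ N : Subgroup S, IsCoatom N ∧ (⟨x, hUc.1 hx⟩ : S) ∉ N := by
    by_contra! h
    exact hxN (by simpa [frattini, Order.radical, mem_iInf] using h)
  have hNS : N.map S.subtype ≤ S := map_subtype_le _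
  have := finite_of_le hNS
  have hkN : p ^ k ≤ Nat.card (N.map S.subtype) := le_of_not_gt fun h => by
    obtain ⟨C, h1, h2, h3⟩ := exists_card_between hS hNS h.le hkS.le
    have := finite_of_le h2
    rcases (show N ≤ C.subgroupOf S from fun y hy => h1 ⟨y, hy, rfl⟩).eq_or_lt with e | e
    · exact h.not_ge (h3 ▸ card_le_of_le fun y hy => ⟨⟨y, h2 hy⟩, e.ge hy, rfl⟩)
    · exact hkS.not_ge (h3 ▸ card_le_of_le fun y hy => (hN.2 _ e).ge (mem_top (⟨y, hy⟩ : S)))
  have := finite_of_le hUc.1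
  obtain ⟨Q, h1, h2, h3⟩ := exists_card_between (A := N.map S.subtype ⊓ F.hyperfocalSubgroup p)
    (hS.to_le hNS) inf_le_left ((card_le_of_le inf_le_right).trans hc.le) hkN
  have h4 := hQ Q (h2.trans hNS) h3 fun h => by
    obtain ⟨y, hy, e⟩ := h2 (h hx)
    exact hxN (by rwa [show (⟨x, hUc.1 hx⟩ : S) = y from Subtype.ext e.symm])
  have hcen : S ≤ centralizer (F.hyperfocalSubgroup p : Set Ω) := fun s hs y hy => by
    have h5 : ⁅s, y⁆ ∈ F.hyperfocalSubgroup p := (F.hyperfocalSubgroup p).mul_mem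
      (conj_mem_hyperfocal hs hy) (Subgroup.inv_mem _ hy)
    have h6 : ⁅s, y⁆ ∈ Q ⊓ F.hyperfocalSubgroup p := ⟨h1 ⟨map_mono (frattini_le_coatom hN)
      (Solv.commutator_le_map_frattini hS (commutator_mem_commutator hs (hUc.1 hy))), h5⟩, h5⟩
    rw [h4, mem_bot, commutatorElement_eq_one_iff_mul_comm] at h6
    exact h6.symm
  obtain ⟨H₀, h5, h6, h7⟩ := exists_card_between hS hUc.1 hc.le hkS.le
  obtain ⟨H, f, hf, hH⟩ := exists_piso_fullyNormalized F h6
  refine hMn (isNormal_of_stronglyClosed_of_comm hS hF hUc fun a ha b hb => hcen (hUc.1 hb) a ha)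
    (pNil_hyperfocal_of_central hS hF hcen (fun y hy => ?_) hH.1 ?_)
  · have := (kerStable_of_stronglyClosed hUc).img_eq hf.mor h5
    obtain ⟨z, hz, rfl⟩ := (hf.mor.restrict h5).mem_img.1 (this.ge hy)
    exact hf.maps (h5 hz)
  · rw [pNil_iff hH.1, ← autGroup_normSys (hQ := hH.1), ← pNil_iff (le_normalizerIn hH.1)]
    exact hn H hH (hf.card_eq.trans h7) H

end Cfsg.Lib.Fus
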